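import Mathlib.GroupTheory.Nilpotent
import Cfsg.Prelude.Def_Solvable
import Cfsg.Agent.Cores.Basic

/-!
Fitting's theorem: class of a product of two normal nilpotent subgroups; the Fitting subgroup.
-/

namespace Cfsg.Agent.H77

open Subgroup

variable {G : Type*} [Group G]

/-- Lower central series of `H`, shifted so that the term `0` is `⊤`. -/
def lcsShift (H : Subgroup G) : ℕ → Subgroup G
  | 0 => ⊤
  | i + 1 => H.lowerCentralSeries i

theorem lcsShift_normal (H : Subgroup G) [H.Normal] : ∀ i, (lcsShift H i).Normal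
  | 0 => inferInstanceAs (⊤ : Subgroup G).Normal
  | i + 1 => inferInstanceAs (H.lowerCentralSeries i).Normal

theorem commutator_lcsShift_le (H : Subgroup G) [H.Normal] :
    ∀ i, ⁅lcsShift H i, H⁆ ≤ lcsShift H (i + 1)
  | 0 => commutator_le_right _ _
  | _ + 1 => le_of_eq rfl

/-- `⁅A, H ⊔ K⁆ ≤ N` if `⁅A, H⁆ ≤ N` and `⁅A, K⁆ ≤ N`, for normal subgroups. -/
theorem commutator_sup_le {A H K N : Subgroup G} [N.Normal]
    (h1 : ⁅A, H⁆ ≤ N) (h2 : ⁅A, K⁆ ≤ N) : ⁅A, H ⊔ K⁆ ≤ N := by
  let f := QuotientGroup.mk' N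
  have key : ∀ X : Subgroup G, ⁅A, X⁆ ≤ N ↔ X ≤ (Subgroup.centralizer (A.map f : Set _)).comap f := by
    intro X
    rw [← Subgroup.map_le_iff_le_comap, ← commutator_eq_bot_iff_le_centralizer, commutator_comm,
      ← map_commutator, Subgroup.map_eq_bot_iff, QuotientGroup.ker_mk']
  rw [key] at h1 h2 ⊢
  exact sup_le h1 h2

theorem lcs_sup_le (H K : Subgroup G) [H.Normal] [K.Normal] (m : ℕ) :
    (H ⊔ K).lowerCentralSeries m ≤
      ⨆ i : Fin (m + 2), lcsShift H i.1 ⊓ lcsShift K (m + 1 - i.1) := by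
  induction m with
  | zero =>
    refine sup_le (le_iSup_of_le 1 ?_) (le_iSup_of_le 0 ?_) <;> simp [lcsShift]
  | succ m ih =>
    rw [Subgroup.lowerCentralSeries_succ]
    haveI := lcsShift_normal H
    haveI := lcsShift_normal K
    haveI hn : ∀ k, (⨆ i : Fin (k + 2), lcsShift H i.1 ⊓ lcsShift K (k + 1 - i.1)).Normal :=
      fun k => by infer_instance
    refine (commutator_mono ih le_rfl).trans ?_
    rw [commutator_comm]
    set T := ⨆ i : Fin (m + 1 + 2), lcsShift H i.1 ⊓ lcsShift K (m + 1 + 1 - i.1) with hT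
    haveI : T.Normal := hn (m + 1)
    have main : ∀ i : Fin (m + 2), ⁅lcsShift H i.1 ⊓ lcsShift K (m + 1 - i.1), H ⊔ K⁆ ≤ T := by
      intro i
      apply commutator_sup_le
      · refine le_trans (le_inf ?_ ?_) (le_iSup_of_le ⟨i.1 + 1, by omega⟩ le_rfl)
        · exact (commutator_mono inf_le_left le_rfl).trans (commutator_lcsShift_le H _)
        · refine (commutator_mono inf_le_right le_rfl).trans ?_
          rw [show m + 1 + 1 - (i.1 + 1) = m + 1 - i.1 by omega]
          exact commutator_le_left _ _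
      · refine le_trans (le_inf ?_ ?_) (le_iSup_of_le ⟨i.1, by omega⟩ le_rfl)
        · exact (commutator_mono inf_le_left le_rfl).trans (commutator_le_left _ _)
        · refine (commutator_mono inf_le_right le_rfl).trans ?_
          rw [show m + 1 + 1 - i.1 = (m + 1 - i.1) + 1 by omega]
          exact commutator_lcsShift_le K _
    -- the elements `x` with `⁅x, H ⊔ K⁆ ≤ T` form a subgroup
    let f := QuotientGroup.mk' T
    have key : ∀ X : Subgroup G, ⁅X, H ⊔ K⁆ ≤ T ↔
        X ≤ (Subgroup.centralizer ((H ⊔ K).map f : Set _)).comap f := by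
      intro X
      rw [← Subgroup.map_le_iff_le_comap, ← commutator_eq_bot_iff_le_centralizer,
        ← map_commutator, Subgroup.map_eq_bot_iff, QuotientGroup.ker_mk']
    rw [commutator_comm, key]
    exact iSup_le fun i => (key _).mp (main i)

theorem lcs_sup_eq_bot (H K : Subgroup G) [H.Normal] [K.Normal] (c d : ℕ)
    (hH : H.lowerCentralSeries c = ⊥) (hK : K.lowerCentralSeries d = ⊥) :
    (H ⊔ K).lowerCentralSeries (c + d) = ⊥ := by
  refine le_bot_iff.mp ((lcs_sup_le H K (c + d)).trans (iSup_le fun i => ?_))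
  by_cases hi : c < i.1
  · obtain ⟨j, hj⟩ : ∃ j, i.1 = j + 1 := ⟨i.1 - 1, by omega⟩
    refine inf_le_left.trans ?_
    rw [hj]
    show H.lowerCentralSeries j ≤ ⊥
    rw [← hH]
    exact H.lowerCentralSeries_antitone (by omega)
  · obtain ⟨j, hj⟩ : ∃ j, c + d + 1 - i.1 = j + 1 := ⟨c + d - i.1, by omega⟩
    refine inf_le_right.trans ?_
    rw [hj]
    show K.lowerCentralSeries j ≤ ⊥
    rw [← hK]
    exact K.lowerCentralSeries_antitone (by omega)

theorem isNilpotent_sup_normal {H K : Subgroup G} [H.Normal] [K.Normal]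
    (hH : Group.IsNilpotent H) (hK : Group.IsNilpotent K) : Group.IsNilpotent ↥(H ⊔ K) := by
  obtain ⟨c, hc⟩ := (isNilpotent_iff_lowerCentralSeries H).mp hH
  obtain ⟨d, hd⟩ := (isNilpotent_iff_lowerCentralSeries K).mp hK
  exact isNilpotent_of_lowerCentralSeries_eq_bot (lcs_sup_eq_bot H K c d hc hd)

theorem fitting_normal_nilpotent [Finite G] :
    (Cfsg.fittingSubgroup G).Normal ∧ Group.IsNilpotent (Cfsg.fittingSubgroup G) := by
  refine Cores.sSup_mem_of_closed (S := {N : Subgroup G | N.Normal ∧ Group.IsNilpotent N})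
    ⟨inferInstance, inferInstance⟩ ?_
  rintro A ⟨hA, hA'⟩ B ⟨hB, hB'⟩
  exact ⟨inferInstance, isNilpotent_sup_normal hA' hB'⟩

end Cfsg.Agent.H77
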