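import Cfsg.Agent.Thompson.NormalPComplement
import Cfsg.Agent.H77.PComplementKey

set_option autoImplicit false

namespace Cfsg.Agent.H77

universe u

/-- The Glauberman–Thompson hypothesis used in this folder holds. -/
theorem gtHyp : GTHyp.{u} := fun H _ _ p _ hp P hN =>
  (Thompson.hasNormalPComplement_iff_zjay (e := p) hp (Or.inr rfl) P).mpr
    (by rw [← Thompson.centerThompsonOf_eq]; exact hN)

end Cfsg.Agent.H77
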