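import Mathlib.GroupTheory.Nilpotent
import Mathlib.GroupTheory.IsSubnormal
import Mathlib.GroupTheory.Index
import Cfsg.Agent.Cores.Basic

/-!
Index lemmas for subnormal subgroups: `[H : H ∩ K]` divides `[G : K]`, powers by indices.
-/

namespace Cfsg.Agent.H77

open Subgroup

variable {G : Type*} [Group G]

/-- For a normal subgroup `N`, `[N : N ∩ K]` divides `[G : K]`. -/
theorem relIndex_dvd_index_of_right_normal [Finite G] (N K : Subgroup G) [N.Normal] :
    K.relIndex N ∣ K.index := by
  have h1 := Cores.card_sup_mul_card_inf K N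
  have h2 : Nat.card ↥(K ⊓ N) * K.relIndex N = Nat.card N := by
    have h := relIndex_mul_relIndex (⊥ : Subgroup G) (K ⊓ N) N bot_le inf_le_right
    rwa [relIndex_bot_left, relIndex_bot_left, inf_relIndex_right] at h
  have h3 : Nat.card ↥(K ⊔ N) * (K ⊔ N).index = Nat.card K * K.index := by
    rw [card_mul_index, card_mul_index]
  have hK : 0 < Nat.card K := Nat.card_pos
  have hI : 0 < Nat.card ↥(K ⊓ N) := Nat.card_pos
  refine ⟨(K ⊔ N).index, ?_⟩
  have e1 : Nat.card ↥(K ⊔ N) = Nat.card K * K.relIndex N := by
    apply Nat.eq_of_mul_eq_mul_right hI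
    rw [h1, ← h2]; ring
  rw [e1, mul_assoc] at h3
  exact (Nat.eq_of_mul_eq_mul_left hK h3).symm

/-- For a subnormal subgroup `H`, `[H : H ∩ K]` divides `[G : K]`. -/
theorem relIndex_dvd_index_of_subnormal [Finite G] {H : Subgroup G} (hH : H.IsSubnormal)
    (K : Subgroup G) : K.relIndex H ∣ K.index := by
  induction hH with
  | top => simp
  | step A B h_le _ hN ih =>
    haveI := hN
    have h := relIndex_dvd_index_of_right_normal (A.subgroupOf B) (K.subgroupOf B)
    rw [relIndex_subgroupOf h_le] at h
    exact h.trans ih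

theorem pow_index_mem_of_subnormal [Finite G] {H : Subgroup G} (hH : H.IsSubnormal) (x : G) :
    x ^ H.index ∈ H := by
  induction hH with
  | top => simp
  | step A B h_le _ hN ih =>
    haveI := hN
    have h := Subgroup.pow_index_mem (A.subgroupOf B) ⟨_, ih⟩
    have h' : (x ^ B.index) ^ A.relIndex B ∈ A := h
    rwa [← pow_mul, mul_comm, relIndex_mul_index h_le] at h'

/-- In a finite nilpotent group every subgroup is subnormal. -/
theorem isSubnormal_of_isNilpotent [Finite G] (hG : Group.IsNilpotent G) (H : Subgroup G) :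
    H.IsSubnormal := by
  haveI := hG
  induction H using WellFoundedGT.induction with
  | _ H ih =>
    by_cases hH : H = ⊤
    · subst hH; exact .top
    have hlt : H < Subgroup.normalizer (H : Set G) :=
      normalizerCondition_of_isNilpotent H (lt_top_iff_ne_top.mpr hH)
    exact .step H _ hlt.le (ih _ hlt) inferInstance

/-- An element of a normal nilpotent subgroup has its `[G : H]`-th power in every subgroup `H`. -/
theorem pow_index_mem_of_mem_normal_nilpotent [Finite G] {F : Subgroup G} [F.Normal]
    (hF : Group.IsNilpotent F) {x : G} (hx : x ∈ F) (H : Subgroup G) : x ^ H.index ∈ H := by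
  have h := pow_index_mem_of_subnormal (isSubnormal_of_isNilpotent hF (H.subgroupOf F)) ⟨x, hx⟩
  have h' : x ^ H.relIndex F ∈ H := h
  obtain ⟨k, hk⟩ := relIndex_dvd_index_of_right_normal F H
  rw [hk, pow_mul]
  exact pow_mem h' k

end Cfsg.Agent.H77
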