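import Cfsg.Agent.PGroups.Burnside
import Mathlib.GroupTheory.GroupAction.Quotient
import Mathlib.Algebra.BigOperators.Fin

/-!
Orders of automorphism groups of p-groups.
-/

namespace Cfsg.Agent.H77

open Subgroup

theorem card_dvd_of_free {A S : Type*} [Group A] [Finite A] [Finite S] [MulAction A S]
    (h : ∀ (a : A) (s : S), a • s = s → a = 1) : Nat.card A ∣ Nat.card S := by
  classical
  haveI := Fintype.ofFinite S
  rw [Nat.card_congr (MulAction.selfEquivSigmaOrbits' A S), Nat.card_sigma]
  refine Finset.dvd_sum fun q _ => ?_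
  obtain ⟨s, rfl⟩ := Quotient.exists_rep q
  have e : MulAction.stabilizer A s = ⊥ := (Subgroup.eq_bot_iff_forall _).mpr fun a ha => h a s ha
  have := Nat.card_congr (MulAction.orbitEquivQuotientStabilizer A s)
  rw [e, ← Subgroup.index, Subgroup.index_bot] at this
  exact this.symm.dvd

variable {P : Type*} [Group P] [Finite P] {p : ℕ} [hp : Fact p.Prime]

/-- The span of a tuple together with the Frattini subgroup. -/
def spanFrattini {k : ℕ} (h : Fin k → P) : Subgroup P := Subgroup.closure (Set.range h) ⊔ frattini P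

theorem spanFrattini_snoc {k : ℕ} (h : Fin k → P) (x : P) :
    spanFrattini (Fin.snoc h x : Fin (k + 1) → P) = spanFrattini h ⊔ zpowers x := by
  rw [spanFrattini, spanFrattini, Fin.range_snoc, Set.insert_eq, Subgroup.closure_union,
    Subgroup.zpowers_eq_closure]
  ac_rfl

theorem card_spanFrattini_le (hP : IsPGroup p P) :
    ∀ (k : ℕ) (h : Fin k → P), Nat.card (spanFrattini h) ≤ p ^ k * Nat.card (frattini P) := by
  intro k
  induction k with
  | zero => intro h; simp [spanFrattini, Set.range_eq_empty]
  | succ k ih =>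
    intro h
    rw [← Fin.snoc_init_self h, spanFrattini_snoc]
    haveI : (spanFrattini (Fin.init h)).Normal := PGroups.normal_closure_sup_frattini hP _
    by_cases hx : h (Fin.last k) ∈ spanFrattini (Fin.init h)
    · rw [sup_eq_left.mpr (zpowers_le.mpr hx)]
      exact (ih _).trans (Nat.mul_le_mul_right _ (Nat.pow_le_pow_right hp.out.pos (Nat.le_succ _)))
    · rw [PGroups.card_sup_zpowers _ hx (Subgroup.mem_sup_right (PGroups.pow_mem_frattini hP _)), pow_succ',
        mul_assoc]
      exact Nat.mul_le_mul_left _ (ih _)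

/-- Tuples independent modulo the Frattini subgroup. -/
def IndepTuple (p : ℕ) (P : Type*) [Group P] (k : ℕ) : Type _ :=
  {h : Fin k → P // Nat.card (spanFrattini h) = p ^ k * Nat.card (frattini P)}

instance indepTupleFinite (k : ℕ) : Finite (IndepTuple p P k) := by
  unfold IndepTuple; infer_instance

theorem indep_snoc_iff (hP : IsPGroup p P) {k : ℕ} (h : Fin k → P) (x : P) :
    Nat.card (spanFrattini (Fin.snoc h x : Fin (k + 1) → P)) = p ^ (k + 1) * Nat.card (frattini P) ↔
      Nat.card (spanFrattini h) = p ^ k * Nat.card (frattini P) ∧ x ∉ spanFrattini h := by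
  rw [spanFrattini_snoc]
  haveI : (spanFrattini h).Normal := PGroups.normal_closure_sup_frattini hP _
  by_cases hx : x ∈ spanFrattini h
  · rw [sup_eq_left.mpr (zpowers_le.mpr hx)]
    refine ⟨fun e => absurd e (ne_of_lt ?_), fun e => absurd hx e.2⟩
    refine (card_spanFrattini_le hP k h).trans_lt ?_
    exact Nat.mul_lt_mul_of_pos_right (Nat.pow_lt_pow_succ hp.out.one_lt) Nat.card_pos
  · rw [PGroups.card_sup_zpowers _ hx (Subgroup.mem_sup_right (PGroups.pow_mem_frattini hP _)), pow_succ',
      mul_assoc, Nat.mul_right_inj hp.out.ne_zero]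
    exact ⟨fun e => ⟨e, hx⟩, fun e => e.1⟩

/-- Removing the last entry. -/
noncomputable def indepTupleEquiv (hP : IsPGroup p P) (k : ℕ) :
    IndepTuple p P (k + 1) ≃ Σ h : IndepTuple p P k, {x : P // x ∉ spanFrattini h.1} where
  toFun h := ⟨⟨Fin.init h.1, ((indep_snoc_iff hP _ (h.1 (Fin.last k))).mp
      (by rw [Fin.snoc_init_self]; exact h.2)).1⟩,
    h.1 (Fin.last k), ((indep_snoc_iff hP _ (h.1 (Fin.last k))).mp
      (by rw [Fin.snoc_init_self]; exact h.2)).2⟩
  invFun s := ⟨Fin.snoc s.1.1 s.2.1, (indep_snoc_iff hP _ _).mpr ⟨s.1.2, s.2.2⟩⟩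
  left_inv h := Subtype.ext (Fin.snoc_init_self h.1)
  right_inv s := by
    obtain ⟨⟨h, hh⟩, x, hx⟩ := s
    refine Sigma.subtype_ext (Subtype.ext ?_) ?_
    · simp [Fin.init_snoc]
    · simp [Fin.snoc_last]

theorem card_indepTuple (hP : IsPGroup p P) {r : ℕ} (hr : (frattini P).index = p ^ r) :
    ∀ k, k ≤ r → Nat.card (IndepTuple p P k) =
      Nat.card (frattini P) ^ k * ∏ i ∈ Finset.range k, (p ^ r - p ^ i) := by
  intro k
  induction k with
  | zero =>
    intro _
    simp only [pow_zero, Finset.range_zero, Finset.prod_empty, mul_one]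
    rw [Nat.card_eq_one_iff_unique]
    exact ⟨⟨fun a b => Subtype.ext (Subsingleton.elim (α := Fin 0 → P) _ _)⟩,
      ⟨⟨Fin.elim0, by simp [spanFrattini, Set.range_eq_empty]⟩⟩⟩
  | succ k ih =>
    intro hk
    classical
    haveI := Fintype.ofFinite P
    haveI := Fintype.ofFinite (IndepTuple p P k)
    rw [Nat.card_congr (indepTupleEquiv hP k), Nat.card_sigma]
    have e : ∀ h : IndepTuple p P k, Nat.card {x : P // x ∉ spanFrattini h.1} =
        Nat.card (frattini P) * (p ^ r - p ^ k) := by
      intro h
      rw [Nat.card_eq_fintype_card, Fintype.card_subtype_compl, ← Nat.card_eq_fintype_card,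
        ← Nat.card_eq_fintype_card]
      show Nat.card P - Nat.card (spanFrattini h.1) = _
      rw [h.2, ← (frattini P).card_mul_index, hr, Nat.mul_sub, mul_comm (p ^ k)]
    rw [Finset.sum_congr rfl (fun h _ => e h), Finset.sum_const, Finset.card_univ,
      ← Nat.card_eq_fintype_card, ih (by omega), smul_eq_mul, Finset.prod_range_succ, pow_succ]
    ring

theorem indep_iff_closure_eq_top {r : ℕ} (hr : (frattini P).index = p ^ r)
    (h : Fin r → P) : Nat.card (spanFrattini h) = p ^ r * Nat.card (frattini P) ↔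
      Subgroup.closure (Set.range h) = ⊤ := by
  rw [← hr, (frattini P).index_mul_card, Subgroup.card_eq_iff_eq_top]
  exact ⟨fun e => frattini_nongenerating e, fun e => by rw [spanFrattini, e, top_sup_eq]⟩

theorem card_mulAut_dvd (hP : IsPGroup p P) {r : ℕ} (hr : (frattini P).index = p ^ r) :
    Nat.card (MulAut P) ∣ Nat.card (frattini P) ^ r * ∏ i ∈ Finset.range r, (p ^ r - p ^ i) := by
  let S := {h : Fin r → P // Subgroup.closure (Set.range h) = ⊤}
  letI : MulAction (MulAut P) S :=
    { smul := fun α h => ⟨fun i => α (h.1 i), by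
        have : Set.range (fun i => α (h.1 i)) = α.toMonoidHom '' Set.range h.1 := by
          ext; simp
        rw [this, ← MonoidHom.map_closure, h.2]
        exact Subgroup.map_top_of_surjective _ α.surjective⟩
      one_smul := fun h => rfl
      mul_smul := fun α β h => rfl }
  have hfree : ∀ (a : MulAut P) (s : S), a • s = s → a = 1 := by
    intro a s hs
    refine MulEquiv.ext fun x => ?_
    have := MonoidHom.eq_of_eqOn_dense (f := a.toMonoidHom) (g := MonoidHom.id P) s.2
      (by rintro _ ⟨i, rfl⟩; exact congrFun (congrArg Subtype.val hs) i)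
    exact DFunLike.congr_fun this x
  have := card_dvd_of_free hfree
  rw [show Nat.card S = Nat.card (IndepTuple p P r) from
    (Nat.card_congr (Equiv.subtypeEquivRight fun h => (indep_iff_closure_eq_top hr h))).symm,
    card_indepTuple hP hr r le_rfl] at this
  exact this

theorem card_trivial_on_frattini_dvd (hP : IsPGroup p P) {r : ℕ} (hr : (frattini P).index = p ^ r)
    (A : Subgroup (MulAut P)) (hA : ∀ α ∈ A, ∀ x : P, α x * x⁻¹ ∈ frattini P) :
    Nat.card A ∣ Nat.card (frattini P) ^ r := by
  obtain ⟨T, hTc, hT⟩ := PGroups.exists_generators hP hr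
  let f : T → P := fun t => t
  let S := {h : T → P // ∀ t, h t * (f t)⁻¹ ∈ frattini P}
  letI : MulAction A S :=
    { smul := fun α h => ⟨fun t => (α : MulAut P) (h.1 t), fun t => by
        have := mul_mem (hA α α.2 (h.1 t)) (h.2 t)
        simpa [mul_assoc] using this⟩
      one_smul := fun h => rfl
      mul_smul := fun α β h => rfl }
  have hfree : ∀ (a : A) (s : S), a • s = s → a = 1 := by
    intro a s hs
    have hgen : Subgroup.closure (Set.range s.1) = ⊤ := by
      refine frattini_nongenerating (top_le_iff.mp ?_)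
      rw [← hT, Subgroup.closure_le]
      intro t ht
      have h1 : s.1 ⟨t, ht⟩ ∈ Subgroup.closure (Set.range s.1) ⊔ frattini P :=
        Subgroup.mem_sup_left (Subgroup.subset_closure ⟨_, rfl⟩)
      have h2 : (s.1 ⟨t, ht⟩ * t⁻¹)⁻¹ * s.1 ⟨t, ht⟩ = t := by group
      exact h2 ▸ mul_mem (inv_mem (Subgroup.mem_sup_right (s.2 ⟨t, ht⟩))) h1
    refine Subtype.ext (MulEquiv.ext fun x => ?_)
    have := MonoidHom.eq_of_eqOn_dense (f := (a : MulAut P).toMonoidHom) (g := MonoidHom.id P) hgen
      (by rintro _ ⟨i, rfl⟩; exact congrFun (congrArg Subtype.val hs) i)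
    exact DFunLike.congr_fun this x
  have := card_dvd_of_free hfree
  let e : S ≃ (T → frattini P) :=
    { toFun := fun h t => ⟨h.1 t * (f t)⁻¹, h.2 t⟩
      invFun := fun g => ⟨fun t => g t * f t, fun t => by simp⟩
      left_inv := fun h => Subtype.ext (funext fun t => by simp)
      right_inv := fun g => funext fun t => Subtype.ext (by simp) }
  rwa [Nat.card_congr e, Nat.card_fun, Nat.card_eq_finsetCard, hTc] at this

end Cfsg.Agent.H77
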