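import Mathlib.GroupTheory.Sylow
import Mathlib.GroupTheory.Solvable
import Mathlib.GroupTheory.SpecificGroups.Alternating.KleinFour
import Mathlib.GroupTheory.Perm.Sign
import Mathlib.GroupTheory.GroupAction.Quotient
import Cfsg.Agent.H24.Solv
import Cfsg.Agent.H77.Subnormal

/-!
Hall: if every maximal subgroup has index a prime or a prime square then the group is solvable.
-/

namespace Cfsg.Agent.H77

open Subgroup

theorem isSolvable_perm_four {α : Type*} [Fintype α] [DecidableEq α] (h4 : Nat.card α = 4) :
    Group.IsSolvable (Equiv.Perm α) := by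
  haveI hA : Group.IsSolvable (alternatingGroup α) := by
    haveI hc : IsMulCommutative (commutator (alternatingGroup α)) := by
      rw [← alternatingGroup.kleinFour_eq_commutator h4]
      exact (alternatingGroup.kleinFour_isKleinFour h4).isMulCommutative
    haveI : Group.IsSolvable (commutator (alternatingGroup α)) :=
      Group.isSolvable_of_comm fun a b => hc.is_comm.comm a b
    haveI : Group.IsSolvable (Abelianization (alternatingGroup α)) :=
      Group.isSolvable_of_comm fun a b => mul_comm a b
    exact Group.isSolvable_of_ker_le_range (commutator (alternatingGroup α)).subtype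
      (Abelianization.of) (by rw [Abelianization.ker_of, Subgroup.range_subtype])
  haveI : Group.IsSolvable ℤˣ := Group.isSolvable_of_comm fun a b => mul_comm a b
  exact Group.isSolvable_of_ker_le_range (alternatingGroup α).subtype Equiv.Perm.sign
    (by rw [Subgroup.range_subtype]; exact le_of_eq alternatingGroup_eq_sign_ker.symm)

variable {G : Type*} [Group G] [Finite G]

/-- The index of a subgroup containing a Sylow normalizer is `1` mod `p`. -/
theorem index_modEq_one {p : ℕ} [Fact p.Prime] (P : Sylow p G) {H : Subgroup G}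
    (hH : Subgroup.normalizer ((P : Subgroup G) : Set G) ≤ H) : H.index ≡ 1 [MOD p] := by
  have hP : (P : Subgroup G) ≤ H := le_normalizer.trans hH
  have h1 : (Subgroup.normalizer ((P : Subgroup G) : Set G)).index ≡ 1 [MOD p] := by
    exact (Sylow.card_eq_index_normalizer P) ▸ card_sylow_modEq_one p G
  have h2 : (Subgroup.normalizer ((P : Subgroup G) : Set G)).relIndex H ≡ 1 [MOD p] := by
    have e : Subgroup.normalizer (((P.subtype hP : Sylow p H) : Subgroup H) : Set H) =
        (Subgroup.normalizer ((P : Subgroup G) : Set G)).subgroupOf H := by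
      rw [Sylow.coe_subtype, Subgroup.subgroupOf_normalizer_eq hP]
    rw [relIndex, ← e]
    exact (Sylow.card_eq_index_normalizer (P.subtype hP)) ▸ card_sylow_modEq_one p H
  rw [← relIndex_mul_index hH] at h1
  have h3 := Nat.ModEq.mul_right H.index h2
  rw [one_mul] at h3
  exact h3.symm.trans h1

theorem solvable_of_maximal_index (h : ∀ M : Subgroup G, IsCoatom M →
    ∃ p : ℕ, p.Prime ∧ (M.index = p ∨ M.index = p ^ 2)) : Group.IsSolvable G := by
  induction hn : Nat.card G using Nat.strong_induction_on generalizing G with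
  | _ n ih =>
    subst hn
    rcases subsingleton_or_nontrivial G with hs | hnt
    · exact Group.isSolvable_of_comm fun a b => Subsingleton.elim _ _
    obtain ⟨N, -, hN, hNb, hmin⟩ := H24.exists_minimal_normal (⊤ : Subgroup G) inferInstance top_ne_bot
    haveI := hN
    haveI hq : Group.IsSolvable (G ⧸ N) := by
      refine ih _ ?_ (fun M hM => ?_) rfl
      · rw [N.card_eq_card_quotient_mul_card_subgroup]
        exact lt_mul_of_one_lt_right Nat.card_pos (N.one_lt_card_iff_ne_bot.mpr hNb)
      · have hs := QuotientGroup.mk'_surjective N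
        have hne : M.comap (QuotientGroup.mk' N) ≠ ⊤ := fun e => hM.1
          (Subgroup.comap_injective hs (e.trans (Subgroup.comap_top _).symm))
        obtain ⟨p, hp, hp'⟩ := h (M.comap (QuotientGroup.mk' N)) ⟨hne, fun K hK => by
          have hNK : N ≤ K := fun y hy => hK.le (Subgroup.mem_comap.mpr (by
            rw [QuotientGroup.mk'_apply, (QuotientGroup.eq_one_iff y).mpr hy]; exact one_mem M))
          have hKc : (K.map (QuotientGroup.mk' N)).comap (QuotientGroup.mk' N) = K := by
            rw [Subgroup.comap_map_eq, QuotientGroup.ker_mk', sup_eq_left.mpr hNK]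
          have : M < K.map (QuotientGroup.mk' N) := by
            refine lt_of_le_of_ne (fun y hy => ?_) (fun e => hK.ne (by rw [e, hKc]))
            obtain ⟨x, rfl⟩ := hs y
            exact Subgroup.mem_map_of_mem _ (hK.le hy)
          rw [← hKc, hM.2 _ this, Subgroup.comap_top]⟩
        refine ⟨p, hp, ?_⟩
        rwa [Subgroup.index_comap_of_surjective _ hs] at hp'
    suffices hsN : Group.IsSolvable N by
      exact Group.isSolvable_of_ker_le_range N.subtype (QuotientGroup.mk' N)
        (by rw [QuotientGroup.ker_mk', Subgroup.range_subtype])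
    have hcard : 1 < Nat.card N := N.one_lt_card_iff_ne_bot.mpr hNb
    obtain ⟨p, hpm, hmax⟩ : ∃ p ∈ (Nat.card N).primeFactors, ∀ q ∈ (Nat.card N).primeFactors, q ≤ p :=
      ⟨_, Finset.max'_mem _ (Nat.nonempty_primeFactors.mpr hcard), fun q hq => Finset.le_max' _ q hq⟩
    have hp := Nat.prime_of_mem_primeFactors hpm
    haveI := Fact.mk hp
    let P : Sylow p N := default
    by_cases hPn : (P : Subgroup N).Normal
    · haveI := P.characteristic_of_normal hPn
      have hPb : (P : Subgroup N).map N.subtype ≠ ⊥ := by
        rw [Ne, (P : Subgroup N).map_eq_bot_iff_of_injective N.subtype_injective]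
        exact P.ne_bot_of_dvd_card (Nat.dvd_of_mem_primeFactors hpm)
      have hPeq := (hmin ((P : Subgroup N).map N.subtype) inferInstance (Subgroup.map_subtype_le _)).resolve_left hPb
      have hPtop : (P : Subgroup N) = ⊤ := by
        refine Subgroup.map_injective N.subtype_injective ?_
        rw [hPeq, ← MonoidHom.range_eq_map, Subgroup.range_subtype]
      have hpg : IsPGroup p N := fun x => by
        obtain ⟨k, hk⟩ := P.isPGroup' ⟨x, hPtop ▸ Subgroup.mem_top x⟩
        exact ⟨k, congrArg Subtype.val hk⟩
      haveI := hpg.isNilpotent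
      infer_instance
    · let Q := Subgroup.normalizer (((P : Subgroup N).map N.subtype : Subgroup G) : Set G)
      have hQN : Q ⊔ N = ⊤ := Sylow.normalizer_sup_eq_top P
      have hQne : Q ≠ ⊤ := by
        intro e
        refine hPn ⟨fun x hx y => ?_⟩
        have hy : (y : G) ∈ Q := e ▸ Subgroup.mem_top _
        have := (Subgroup.mem_normalizer_iff.mp hy (x : G)).mp (Subgroup.mem_map_of_mem _ hx)
        obtain ⟨z, hz, hz'⟩ := this
        have : z = y * x * y⁻¹ := Subtype.ext (by simpa using hz')
        rwa [← this]
      obtain ⟨M, hM, hQM⟩ := (eq_top_or_exists_le_coatom Q).resolve_left hQne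
      have hMN : M ⊔ N = ⊤ := top_le_iff.mp (hQN.ge.trans (sup_le_sup_right hQM N))
      have hidx : M.relIndex N = M.index := by
        have h1 := relIndex_mul_relIndex (⊥ : Subgroup G) (M ⊓ N) N bot_le inf_le_right
        rw [relIndex_bot_left, relIndex_bot_left, inf_relIndex_right] at h1
        have h2 := Cores.card_sup_mul_card_inf M N
        rw [hMN, Subgroup.card_top, ← M.card_mul_index, ← h1] at h2
        have h3 : (Nat.card M * Nat.card ↥(M ⊓ N)) * M.index = (Nat.card M * Nat.card ↥(M ⊓ N)) * M.relIndex N := by
          calc _ = Nat.card M * M.index * Nat.card ↥(M ⊓ N) := by ring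
            _ = Nat.card M * (Nat.card ↥(M ⊓ N) * M.relIndex N) := h2
            _ = _ := by ring
        exact (Nat.eq_of_mul_eq_mul_left (Nat.mul_pos Nat.card_pos Nat.card_pos) h3).symm
      have hmod : M.index ≡ 1 [MOD p] := by
        rw [← hidx]
        refine index_modEq_one P (H := M.subgroupOf N) fun y hy => ?_
        refine Subgroup.mem_subgroupOf.mpr (hQM (Subgroup.mem_normalizer_iff.mpr fun z => ?_))
        constructor
        · rintro ⟨w, hw, rfl⟩
          exact ⟨y * w * y⁻¹, (Subgroup.mem_normalizer_iff.mp hy w).mp hw, by simp⟩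
        · rintro ⟨w, hw, hw'⟩
          refine ⟨y⁻¹ * w * y, (Subgroup.mem_normalizer_iff.mp hy _).mpr
            (by convert SetLike.mem_coe.mp hw using 1; simp [mul_assoc]), ?_⟩
          simp only [Subgroup.coe_subtype] at hw'
          simp [hw', mul_assoc]
      obtain ⟨q, hq, hq'⟩ := h M hM
      have hqN : q ∣ Nat.card N := by
        have : M.index ∣ Nat.card N := hidx ▸ relIndex_dvd_card M N
        exact (show q ∣ M.index by rcases hq' with e | e <;> rw [e] <;> simp [pow_two]).trans this
      have hqp : q ≤ p := hmax q (Nat.mem_primeFactors.mpr ⟨hq, hqN, (by omega)⟩)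
      have hq2 := hq.two_le
      have hM4 : M.index = 4 := by
        have hd : p ∣ M.index - 1 :=
          (Nat.modEq_iff_dvd' (Nat.pos_of_ne_zero Subgroup.index_ne_zero_of_finite)).mp hmod.symm
        have hne : q ≠ p := by
          rintro rfl
          have h1 : q ∣ M.index := by rcases hq' with e | e <;> rw [e] <;> simp [pow_two]
          have h0 := (Nat.modEq_zero_iff_dvd.mpr h1).symm.trans hmod
          rw [Nat.ModEq, Nat.zero_mod, Nat.one_mod_eq_one.mpr hq.ne_one] at h0
          exact absurd h0 zero_ne_one
        rcases hq' with e | e <;> rw [e] at hd ⊢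
        · exact absurd (Nat.le_of_dvd (by omega) hd) (by omega)
        · have : q ^ 2 - 1 = (q + 1) * (q - 1) := by
            simpa using Nat.sq_sub_sq q 1
          rw [this] at hd
          rcases hp.dvd_mul.mp hd with h1 | h1
          · have hpq : p = q + 1 := le_antisymm (Nat.le_of_dvd (by omega) h1) (by omega)
            rcases hq.eq_two_or_odd with rfl | ho
            · norm_num
            · rcases hp.eq_two_or_odd with h2 | h2 <;> omega
          · exact absurd (Nat.le_of_dvd (by omega) h1) (by omega)
      classical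
      haveI : Fintype (G ⧸ M) := Fintype.ofFinite _
      haveI := isSolvable_perm_four (α := G ⧸ M) (by rw [← hM4]; rfl)
      refine Group.isSolvable_of_isSolvable_injective
        (f := (MulAction.toPermHom G (G ⧸ M)).comp N.subtype) ?_
      rw [← MonoidHom.ker_eq_bot_iff, eq_bot_iff]
      intro x hx
      have hker : (x : G) ∈ M.normalCore ⊓ N := ⟨by rw [Subgroup.normalCore_eq_ker]; exact hx, x.2⟩
      have : M.normalCore ⊓ N = ⊥ :=
        (hmin (M.normalCore ⊓ N) inferInstance inf_le_right).resolve_right fun e => hM.1 <| by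
          rw [← hMN, sup_eq_left.mpr]
          exact e ▸ inf_le_left.trans (Subgroup.normalCore_le M)
      rw [this, Subgroup.mem_bot] at hker
      exact Subtype.ext hker

/-- A maximal subgroup of a finite solvable group containing all index powers is normal. -/
theorem normal_of_solvable_coatom (hG : Group.IsSolvable G) (M : Subgroup G) (hM : IsCoatom M)
    (hexp : ∀ x : G, x ^ M.index ∈ M) : M.Normal := by
  set K := M.normalCore with hK
  by_cases hKM : K = M
  · exact hKM ▸ inferInstanceAs M.normalCore.Normal
  let f := QuotientGroup.mk' K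
  have hs := QuotientGroup.mk'_surjective K
  haveI := hG
  haveI : Group.IsSolvable (G ⧸ K) := Group.isSolvable_of_surjective hs
  haveI : Nontrivial (G ⧸ K) := by
    rw [← Finite.one_lt_card_iff_nontrivial]
    by_contra hle
    have h1 : K.index = 1 := le_antisymm (not_lt.mp hle) (Nat.pos_of_ne_zero Subgroup.index_ne_zero_of_finite)
    exact hM.1 (top_le_iff.mp ((Subgroup.index_eq_one.mp h1).ge.trans (Subgroup.normalCore_le M)))
  obtain ⟨V, -, hV, hVb, hVmin⟩ := H24.exists_minimal_normal (⊤ : Subgroup (G ⧸ K)) inferInstance top_ne_bot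
  haveI := hV
  obtain ⟨-, q, hq, hexpV⟩ := H24.minimal_normal_elementary V hVb hVmin
  haveI := Fact.mk hq
  have hL : ¬ V.comap f ≤ M := by
    intro hle
    apply hVb
    have : V.comap f ≤ K := Subgroup.normal_le_normalCore.mpr hle
    rw [eq_bot_iff]
    intro v hv
    obtain ⟨g, rfl⟩ := hs v
    exact Subgroup.mem_bot.mpr ((QuotientGroup.eq_one_iff g).mpr (this hv))
  have hkM : f.ker ≤ M := (QuotientGroup.ker_mk' K).le.trans (Subgroup.normalCore_le M)
  have hsup : M.map f ⊔ V = ⊤ := by
    have h1 : M ⊔ V.comap f = ⊤ := hM.2 _ (left_lt_sup.mpr hL)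
    have h2 := congrArg (Subgroup.map f) h1
    rwa [Subgroup.map_sup, Subgroup.map_comap_eq_self_of_surjective hs, Subgroup.map_top_of_surjective _ hs] at h2
  have hdvd : M.index ∣ Nat.card V := by
    rw [← Subgroup.index_map_eq M hs hkM]
    have h1 := Cores.card_sup_dvd (M.map f) V
    rw [hsup, Subgroup.card_top, ← (M.map f).card_mul_index] at h1
    exact Nat.dvd_of_mul_dvd_mul_left Nat.card_pos h1
  have hpV : IsPGroup q V := fun v => ⟨1, Subtype.ext (by simpa using hexpV v v.2)⟩
  obtain ⟨a, ha⟩ := (IsPGroup.iff_card).mp hpV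
  rw [ha] at hdvd
  obtain ⟨b, -, hb⟩ := (Nat.dvd_prime_pow hq).mp hdvd
  let R := Subgroup.closure {g : G | (orderOf g).Coprime q}
  have hR : R ≤ M := by
    rw [Subgroup.closure_le]
    intro g hg
    have hc : (orderOf g).Coprime M.index := hb ▸ Nat.Coprime.pow_right _ hg
    obtain ⟨m, hm⟩ := exists_pow_eq_self_of_coprime hc.symm
    exact hm ▸ pow_mem (hexp g) m
  haveI hRn : R.Normal := by
    refine ⟨fun x hx g => ?_⟩
    have : R.map (MulAut.conj g).toMonoidHom ≤ R := by
      rw [MonoidHom.map_closure, Subgroup.closure_le]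
      rintro _ ⟨y, hy, rfl⟩
      refine Subgroup.subset_closure ?_
      show (orderOf _).Coprime q
      rw [MulEquiv.coe_toMonoidHom, MulEquiv.orderOf_eq]; exact hy
    exact this (Subgroup.mem_map_of_mem _ hx)
  have hQp : IsPGroup q (G ⧸ R) := by
    intro x
    obtain ⟨g, rfl⟩ := QuotientGroup.mk_surjective x
    obtain ⟨k, m, hm, hkm⟩ := Nat.exists_eq_pow_mul_and_not_dvd (orderOf_pos g).ne' q hq.ne_one
    refine ⟨k, ?_⟩
    rw [← QuotientGroup.mk_pow, QuotientGroup.eq_one_iff]
    refine Subgroup.subset_closure ?_
    show (orderOf _).Coprime q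
    rw [orderOf_pow' g (pow_ne_zero _ hq.ne_zero), hkm, Nat.gcd_mul_right_left,
      Nat.mul_div_cancel_left _ (pow_pos hq.pos k)]
    exact ((hq.coprime_iff_not_dvd).mpr hm).symm
  have hc : (M.map (QuotientGroup.mk' R)).comap (QuotientGroup.mk' R) = M := by
    rw [Subgroup.comap_map_eq, QuotientGroup.ker_mk', sup_eq_left.mpr hR]
  have hM' : IsCoatom (M.map (QuotientGroup.mk' R)) := by
    refine ⟨fun e => hM.1 (by rw [← hc, e, Subgroup.comap_top]), fun L hLt => ?_⟩
    have : M < L.comap (QuotientGroup.mk' R) := by
      rw [← hc]; exact (Subgroup.comap_lt_comap_of_surjective (QuotientGroup.mk'_surjective R)).mpr hLt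
    exact Subgroup.comap_injective (QuotientGroup.mk'_surjective R) ((hM.2 _ this).trans (Subgroup.comap_top _).symm)
  haveI := hQp.isNilpotent
  haveI := Group.normalizerCondition_of_isNilpotent.normal_of_coatom _ hM'
  rw [← hc]
  infer_instance

end Cfsg.Agent.H77
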