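import Mathlib
import Cfsg.Agent.S5896

/-!
# Permutation groups with a quasisimple self-centralising normal subgroup and double transpositions

Basic facts: a double transposition never centralises such a subgroup on a transitive set, and
therefore every subgroup containing it and normalised by that subgroup contains that subgroup.
-/

set_option autoImplicit false
set_option linter.style.haveILetI false

namespace Cfsg.Agent.H77.DoubleTrans

open Equiv Equiv.Perm
open scoped commutatorElement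

variable {α : Type*}

/-- `E` is a normal perfect self-centralising subgroup of `X` whose proper normal subgroups are
central (the properties of a quasisimple generalised Fitting subgroup). -/
structure Hyp (X E : Subgroup (Perm α)) : Prop where
  le : E ≤ X
  norm : ∀ h ∈ X, ∀ e ∈ E, h * e * h⁻¹ ∈ E
  perf : ⁅E, E⁆ = E
  ne : E ≠ ⊥
  self : ∀ x ∈ X, (∀ e ∈ E, Commute x e) → x ∈ E
  qs : ∀ M : Subgroup (Perm α), M ≤ E → (∀ e ∈ E, ∀ m ∈ M, e * m * e⁻¹ ∈ M) → M ≠ E →
    ∀ m ∈ M, ∀ e ∈ E, Commute m e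

variable {X E : Subgroup (Perm α)}

theorem Hyp.not_abelian (hyp : Hyp X E) : ¬ ∀ a ∈ E, ∀ b ∈ E, Commute a b := by
  intro h
  apply hyp.ne
  rw [← hyp.perf, eq_bot_iff, Subgroup.commutator_le]
  intro a ha b hb
  rw [Subgroup.mem_bot, commutatorElement_eq_one_iff_commute]
  exact h a ha b hb

/-- A subgroup normalised by `E` contains `E`, or its elements in `X` centralise `E`. -/
theorem Hyp.le_or_commute (hyp : Hyp X E) {N : Subgroup (Perm α)}
    (hN : ∀ e ∈ E, ∀ n ∈ N, e * n * e⁻¹ ∈ N) {x : Perm α} (hxX : x ∈ X) (hxN : x ∈ N) :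
    E ≤ N ∨ ∀ e ∈ E, Commute x e := by
  rcases eq_or_ne (E ⊓ N) E with h | h
  · exact Or.inl (h ▸ inf_le_right)
  refine Or.inr ?_
  have hcen := hyp.qs (E ⊓ N) inf_le_left (fun e he m hm =>
    Subgroup.mem_inf.2 ⟨mul_mem (mul_mem he hm.1) (inv_mem he), hN e he m hm.2⟩) h
  have hc : ∀ e ∈ E, ∀ f ∈ E, Commute (x * e * x⁻¹ * e⁻¹) f := fun e he f hf =>
    hcen _ (Subgroup.mem_inf.2 ⟨mul_mem (hyp.norm x hxX e he) (inv_mem he), by
      rw [show x * e * x⁻¹ * e⁻¹ = x * (e * x⁻¹ * e⁻¹) by group]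
      exact mul_mem hxN (hN e he _ (inv_mem hxN))⟩) f hf
  have hle : ⁅E, E⁆ ≤ Subgroup.centralizer ({x} : Set (Perm α)) := by
    rw [Subgroup.commutator_le]
    intro a ha b hb
    rw [Subgroup.mem_centralizer_singleton_iff]
    set ca := x * a * x⁻¹ * a⁻¹ with hca
    set cb := x * b * x⁻¹ * b⁻¹ with hcb
    have hcaE : ca ∈ E := mul_mem (hyp.norm x hxX a ha) (inv_mem ha)
    have hcbE : cb ∈ E := mul_mem (hyp.norm x hxX b hb) (inv_mem hb)
    have e1 : x * a * x⁻¹ = ca * a := by rw [hca]; group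
    have e2 : x * b * x⁻¹ = cb * b := by rw [hcb]; group
    have h1 : ⁅ca * a, cb * b⁆ = ⁅a, b⁆ := by
      have k1 : Commute ca a := hc a ha a ha
      have k2 : Commute ca b := hc a ha b hb
      have k3 : Commute cb a := hc b hb a ha
      have k4 : Commute cb b := hc b hb b hb
      have k5 : Commute ca cb := hc a ha cb hcbE
      calc ⁅ca * a, cb * b⁆ = ca * a * (cb * b) * a⁻¹ * ca⁻¹ * (b⁻¹ * cb⁻¹) := by
            rw [commutatorElement_def]; group
        _ = ca * (a * (cb * b) * a⁻¹) * ca⁻¹ * (b⁻¹ * cb⁻¹) := by group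
        _ = (a * (cb * b) * a⁻¹) * ca * ca⁻¹ * (b⁻¹ * cb⁻¹) := by
            rw [((k1.mul_right (k5.mul_right k2)).mul_right k1.inv_right).eq]
        _ = a * cb * b * a⁻¹ * b⁻¹ * cb⁻¹ := by group
        _ = cb * (a * b * a⁻¹ * b⁻¹) * cb⁻¹ := by
            rw [show a * cb = cb * a from k3.symm.eq]; group
        _ = ⁅a, b⁆ := by
            rw [(((k3.mul_right k4).mul_right k3.inv_right).mul_right k4.inv_right).eq,
              commutatorElement_def]
            group
    symm
    calc x * ⁅a, b⁆ = x * ⁅a, b⁆ * x⁻¹ * x := by group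
      _ = ⁅x * a * x⁻¹, x * b * x⁻¹⁆ * x := by rw [commutatorElement_def, commutatorElement_def]; group
      _ = ⁅a, b⁆ * x := by rw [e1, e2, h1]
  intro e he
  have := hle (hyp.perf.ge he)
  rw [Subgroup.mem_centralizer_singleton_iff] at this
  exact this.symm

variable [DecidableEq α]

/-- The action of a double transposition. -/
theorem dt_apply {a b c d : α} (h : [a, b, c, d].Nodup) :
    (swap a b * swap c d : Perm α) a = b ∧ (swap a b * swap c d : Perm α) b = a ∧
    (swap a b * swap c d : Perm α) c = d ∧ (swap a b * swap c d : Perm α) d = c ∧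
    ∀ z, z ∉ ({a, b, c, d} : Finset α) → (swap a b * swap c d : Perm α) z = z := by
  simp only [List.nodup_cons, List.mem_cons, List.not_mem_nil, not_or, or_false, List.nodup_nil,
    and_true] at h
  obtain ⟨⟨hab, hac, had⟩, ⟨hbc, hbd⟩, hcd, -⟩ := h
  refine ⟨?_, ?_, ?_, ?_, fun z hz => ?_⟩
  · rw [mul_apply, swap_apply_of_ne_of_ne hac had, swap_apply_left]
  · rw [mul_apply, swap_apply_of_ne_of_ne hbc hbd, swap_apply_right]
  · rw [mul_apply, swap_apply_left, swap_apply_of_ne_of_ne (Ne.symm had) (Ne.symm hbd)]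
  · rw [mul_apply, swap_apply_right, swap_apply_of_ne_of_ne (Ne.symm hac) (Ne.symm hbc)]
  · simp only [Finset.mem_insert, Finset.mem_singleton, not_or] at hz
    rw [mul_apply, swap_apply_of_ne_of_ne hz.2.2.1 hz.2.2.2, swap_apply_of_ne_of_ne hz.1 hz.2.1]

theorem dt_mem_iff {a b c d : α} (h : [a, b, c, d].Nodup) (z : α) :
    z ∈ ({a, b, c, d} : Finset α) ↔ (swap a b * swap c d : Perm α) z ≠ z := by
  obtain ⟨h1, h2, h3, h4, h5⟩ := dt_apply h
  refine ⟨fun hz => ?_, fun hz => by_contra fun h' => hz (h5 z h')⟩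
  simp only [List.nodup_cons, List.mem_cons, List.not_mem_nil, not_or, or_false, List.nodup_nil,
    and_true] at h
  obtain ⟨⟨hab, -, -⟩, -, hcd, -⟩ := h
  simp only [Finset.mem_insert, Finset.mem_singleton] at hz
  rcases hz with rfl | rfl | rfl | rfl
  · rw [h1]; exact Ne.symm hab
  · rw [h2]; exact hab
  · rw [h3]; exact Ne.symm hcd
  · rw [h4]; exact hcd

/-- A perfect group acting on at most four points (inside an invariant set) fixes them. -/
theorem fix_of_invariant_four (hperf : ⁅E, E⁆ = E) (Q : Finset α) (hQ : Q.card = 4)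
    (hinv : ∀ e ∈ E, ∀ z, z ∈ Q ↔ e z ∈ Q) : ∀ e ∈ E, ∀ z ∈ Q, e z = z := by
  let φ : ↥E →* Perm {z // z ∈ Q} :=
    { toFun := fun e => Equiv.Perm.subtypePerm (e : Perm α) (fun z => (hinv e e.2 z).symm)
      map_one' := by ext z; rfl
      map_mul' := fun e f => by ext z; rfl }
  have h4 : Group.IsSolvable (Perm {z // z ∈ Q}) := by
    have eq : Fin 4 ≃ {z // z ∈ Q} := (Finset.equivFinOfCardEq hQ).symm
    haveI := Cfsg.Agent.S5896.isSolvable_perm_four
    exact solvable_of_surjective (f := eq.permCongrHom.toMonoidHom) eq.permCongrHom.surjective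
  obtain ⟨k, hk⟩ := (isSolvable_def _).1 h4
  have htop : ∀ m, derivedSeries ↥E m = ⊤ := by
    intro m
    induction m with
    | zero => rfl
    | succ m ih =>
      rw [derivedSeries_succ, ih, ← commutator_def]
      apply Subgroup.map_injective E.subtype_injective
      rw [Subgroup.map_subtype_commutator, hperf, ← MonoidHom.range_eq_map, Subgroup.range_subtype]
  intro e he z hz
  have h1 : φ ⟨e, he⟩ ∈ (derivedSeries ↥E k).map φ := ⟨⟨e, he⟩, by rw [htop k]; trivial, rfl⟩
  have h2 := map_derivedSeries_le_derivedSeries φ k h1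
  rw [hk, Subgroup.mem_bot] at h2
  exact congrArg Subtype.val (Equiv.congr_fun h2 ⟨z, hz⟩)

/-- A double transposition inside a transitive set does not centralise `E`. -/
theorem Hyp.not_centralise (hyp : Hyp X E) {D : Set α}
    (htr : ∀ a ∈ D, ∀ b ∈ D, ∃ h ∈ X, h a = b) {a b c d : α} (hnd : [a, b, c, d].Nodup)
    (ha : a ∈ D) (hb : b ∈ D) (hx : swap a b * swap c d ∈ X) :
    ¬ ∀ e ∈ E, Commute (swap a b * swap c d) e := by
  intro hcom
  set x := swap a b * swap c d with hxdef
  have hfix : ∀ e ∈ E, ∀ z, (x z = z ↔ x (e z) = e z) := fun e he z => by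
    rw [show x (e z) = e (x z) from Equiv.congr_fun (hcom e he).eq z]
    exact e.injective.eq_iff.symm
  have hQ : ({a, b, c, d} : Finset α).card = 4 := by
    simpa using List.toFinset_card_of_nodup hnd
  have hE : ∀ e ∈ E, e a = a := fun e he => fix_of_invariant_four hyp.perf _ hQ (fun e he z => by
    rw [dt_mem_iff hnd, dt_mem_iff hnd]; exact not_congr (hfix e he z)) e he a (by simp)
  have hD : ∀ e ∈ E, ∀ z ∈ D, e z = z := by
    intro e he z hz
    obtain ⟨h, hh, hhz⟩ := htr a ha z hz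
    have := hE _ (hyp.norm h⁻¹ (inv_mem hh) e he)
    rw [inv_inv, mul_apply, mul_apply, hhz, Perm.inv_eq_iff_eq, hhz] at this
    exact this
  have hxE := hyp.self x hx hcom
  have h1 : b = a := (dt_apply hnd).1.symm.trans (hD x hxE a ha)
  simp [h1] at hnd

/-- A subgroup containing a double transposition and normalised by `E` contains `E`. -/
theorem Hyp.le_of_dt (hyp : Hyp X E) {D : Set α} (htr : ∀ a ∈ D, ∀ b ∈ D, ∃ h ∈ X, h a = b)
    {a b c d : α} (hnd : [a, b, c, d].Nodup) (ha : a ∈ D) (hb : b ∈ D)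
    (hx : swap a b * swap c d ∈ X) {N : Subgroup (Perm α)}
    (hxN : swap a b * swap c d ∈ N) (hN : ∀ e ∈ E, ∀ n ∈ N, e * n * e⁻¹ ∈ N) : E ≤ N :=
  (hyp.le_or_commute hN hx hxN).resolve_right (hyp.not_centralise htr hnd ha hb hx)

end Cfsg.Agent.H77.DoubleTrans
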