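import Mathlib
import Cfsg.Agent.S0713
import Cfsg.Agent.H77.DoubleTransBase

/-!
# Three double transpositions on four pairs force the alternating group

A transitive permutation group with a quasisimple self-centralising normal subgroup which contains
`(01)(23)`, `(01)(45)`, `(01)(67)` contains the alternating group.
-/

set_option autoImplicit false
set_option linter.style.haveILetI false

namespace Cfsg.Agent.H77.DoubleTrans

open Equiv Equiv.Perm MulAction
open scoped Pointwise

variable {α : Type*} [DecidableEq α] [Fintype α] {X E : Subgroup (Perm α)}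

/-- The transport of a permutation of labels. -/
noncomputable abbrev lab {k : ℕ} (p : Fin k → α) (hp : Function.Injective p) :
    Perm (Fin k) →* Perm α :=
  Equiv.Perm.viaEmbeddingHom (⟨p, hp⟩ : Fin k ↪ α)

theorem lab_apply {k : ℕ} (p : Fin k → α) (hp : Function.Injective p) (σ : Perm (Fin k)) (i : Fin k) :
    lab p hp σ (p i) = p (σ i) := by
  rw [Equiv.Perm.viaEmbeddingHom_apply]
  exact σ.viaEmbedding_apply (⟨p, hp⟩ : Fin k ↪ α) i

theorem lab_apply_off {k : ℕ} (p : Fin k → α) (hp : Function.Injective p) (σ : Perm (Fin k)) (z : α)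
    (hz : ∀ i, p i ≠ z) : lab p hp σ z = z := by
  rw [Equiv.Perm.viaEmbeddingHom_apply]
  exact σ.viaEmbedding_apply_of_notMem (⟨p, hp⟩ : Fin k ↪ α) z (by rintro ⟨i, hi⟩; exact hz i hi)

theorem lab_swap {k : ℕ} (p : Fin k → α) (hp : Function.Injective p) (i j : Fin k) :
    lab p hp (swap i j) = swap (p i) (p j) := by
  ext z
  by_cases hz : ∃ l, p l = z
  · obtain ⟨l, rfl⟩ := hz
    rw [lab_apply, swap_apply_def, swap_apply_def]
    simp only [hp.eq_iff]
    split_ifs <;> rfl
  · push Not at hz
    rw [lab_apply_off p hp _ z hz, swap_apply_of_ne_of_ne (Ne.symm (hz i)) (Ne.symm (hz j))]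

omit [Fintype α] in
/-- `Q` is the support of a double transposition in `X`. -/
def IsDT (X : Subgroup (Perm α)) (Q : Finset α) : Prop :=
  ∃ a b c d : α, [a, b, c, d].Nodup ∧ swap a b * swap c d ∈ X ∧ Q = {a, b, c, d}

theorem IsDT.card {Q : Finset α} (h : IsDT X Q) : Q.card = 4 := by
  obtain ⟨a, b, c, d, hnd, -, rfl⟩ := h
  simpa using List.toFinset_card_of_nodup hnd

theorem IsDT.rep {Q : Finset α} (h : IsDT X Q) {u : α} (hu : u ∈ Q) :
    ∃ b c d, [u, b, c, d].Nodup ∧ swap u b * swap c d ∈ X ∧ Q = {u, b, c, d} := by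
  obtain ⟨a, b, c, d, hnd, hx, rfl⟩ := h
  have hcomm : swap c d * swap a b = swap a b * swap c d := by
    have hnd' := hnd
    simp only [List.nodup_cons, List.mem_cons, List.not_mem_nil, not_or, or_false, List.nodup_nil,
      and_true] at hnd'
    exact (Equiv.Perm.Disjoint.commute fun z => by
      by_cases h1 : z = c ∨ z = d
      · right; rcases h1 with rfl | rfl <;> apply swap_apply_of_ne_of_ne <;> grind
      · left; push Not at h1; exact swap_apply_of_ne_of_ne h1.1 h1.2).eq
  simp only [Finset.mem_insert, Finset.mem_singleton] at hu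
  rcases hu with rfl | rfl | rfl | rfl
  · exact ⟨b, c, d, hnd, hx, rfl⟩
  · exact ⟨a, c, d, by simp_all [List.nodup_cons, eq_comm], by rw [swap_comm]; exact hx,
      Finset.insert_comm _ _ _⟩
  · exact ⟨d, a, b, by simp_all [List.nodup_cons, eq_comm], by rw [hcomm]; exact hx,
      by ext z; simp; tauto⟩
  · exact ⟨c, a, b, by simp_all [List.nodup_cons, eq_comm],
      by rw [swap_comm, hcomm]; exact hx, by ext z; simp; tauto⟩

theorem IsDT.conj {Q : Finset α} (h : IsDT X Q) {g : Perm α} (hg : g ∈ X) : IsDT X (Q.image g) := by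
  obtain ⟨a, b, c, d, hnd, hx, rfl⟩ := h
  refine ⟨g a, g b, g c, g d, hnd.map g.injective, ?_, by simp⟩
  rw [swap_apply_apply, swap_apply_apply,
    show g * swap a b * g⁻¹ * (g * swap c d * g⁻¹) = g * (swap a b * swap c d) * g⁻¹ by group]
  exact mul_mem (mul_mem hg hx) (inv_mem hg)

/-- Overlap of size three, first shape. -/
theorem alt_of_five_first (hX : IsPreprimitive X α) {d a b c e : α} (hde : d ≠ e) (had : d ≠ a)
    (hae : e ≠ a) (hx : swap d a * swap b c ∈ X) (hy : swap e a * swap b c ∈ X)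
    (hbc : ∀ z ∈ ({d, a, e} : Finset α), b ≠ z ∧ c ≠ z) : alternatingGroup α ≤ X := by
  have hcomm : Commute (swap e a) (swap b c) := (Equiv.Perm.Disjoint.commute fun z => by
    by_cases h1 : z = e ∨ z = a
    · right
      rcases h1 with rfl | rfl <;> apply swap_apply_of_ne_of_ne <;>
        first
          | exact Ne.symm (hbc _ (by simp)).1
          | exact Ne.symm (hbc _ (by simp)).2
    · left; push Not at h1; exact swap_apply_of_ne_of_ne h1.1 h1.2)
  have h3 : swap a d * swap a e ∈ X := by
    have := mul_mem hx hy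
    rw [hcomm.eq, ← mul_assoc, mul_assoc (swap d a) (swap b c), swap_mul_self, mul_one] at this
    rwa [swap_comm a d, swap_comm a e]
  exact alternatingGroup_le_of_isPreprimitive_of_isThreeCycle_mem hX
    (isThreeCycle_swap_mul_swap_same (Ne.symm had) (Ne.symm hae) hde) h3

/-- Overlap of size three, second shape: a five-cycle. -/
theorem alt_of_five_second (hX : IsPreprimitive X α) (hα : 8 ≤ Fintype.card α) (l : Fin 5 → α)
    (hl : Function.Injective l) (hx : swap (l 0) (l 1) * swap (l 2) (l 3) ∈ X)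
    (hy : swap (l 4) (l 2) * swap (l 1) (l 3) ∈ X) : alternatingGroup α ≤ X := by
  let z0 : Perm (Fin 5) := swap 0 1 * swap 2 3 * (swap 4 2 * swap 1 3)
  have hz : lab l hl z0 ∈ X := by
    simp only [z0, map_mul, lab_swap]
    exact mul_mem hx hy
  set z := lab l hl z0 with hzdef
  have h5 : z ^ 5 = 1 := by
    rw [hzdef, ← map_pow, show z0 ^ 5 = 1 by decide +kernel, map_one]
  have h1 : z ≠ 1 := by
    rw [hzdef]
    intro h
    exact absurd (Equiv.Perm.viaEmbeddingHom_injective _ (h.trans (map_one _).symm))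
      (by decide +kernel : z0 ≠ 1)
  haveI := Fact.mk (show Nat.Prime 5 by norm_num)
  have ho : orderOf z = 5 := orderOf_eq_prime h5 h1
  have hsub : z.support ⊆ Finset.univ.image l := by
    intro y hy'
    by_contra hn
    simp only [Finset.mem_image, Finset.mem_univ, true_and, not_exists] at hn
    exact Equiv.Perm.mem_support.1 hy' (lab_apply_off l hl z0 y hn)
  have hle : z.support.card ≤ 5 := (Finset.card_le_card hsub).trans Finset.card_image_le
  have hcyc : z.IsCycle := isCycle_of_prime_order (by rw [ho]; norm_num) (by rw [ho]; omega)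
  exact Cfsg.Agent.S0713.result X hX (p := 5) (by norm_num) (by omega) (by omega) hcyc
    (by rw [← hcyc.orderOf, ho]) hz

/-- Supports of double transpositions meeting in an odd number force the alternating group. -/
theorem alt_of_odd_meet (hX : IsPreprimitive X α) (hα : 8 ≤ Fintype.card α) {Q R : Finset α}
    (hQ : IsDT X Q) (hR : IsDT X R) (hodd : ¬ Even (Q ∩ R).card) : alternatingGroup α ≤ X := by
  have hle : (Q ∩ R).card ≤ 4 := hQ.card ▸ Finset.card_le_card Finset.inter_subset_left
  have hcases : (Q ∩ R).card = 1 ∨ (Q ∩ R).card = 3 := by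
    rw [Nat.even_iff] at hodd
    omega
  rcases hcases with h | h
  · obtain ⟨a, ha⟩ := Finset.card_eq_one.1 h
    have haQR : a ∈ Q ∧ a ∈ R := Finset.mem_inter.1 (by rw [ha]; simp)
    obtain ⟨b, c, d, hnd, hx, hQe⟩ := hQ.rep haQR.1
    obtain ⟨e, f, g, hnd', hy, hRe⟩ := hR.rep haQR.2
    have honly : ∀ z ∈ Q, z ∈ R → z = a := fun z h1 h2 => by
      have : z ∈ Q ∩ R := Finset.mem_inter.2 ⟨h1, h2⟩
      rw [ha] at this
      simpa using this
    have hmems : b ∈ Q ∧ c ∈ Q ∧ d ∈ Q ∧ e ∈ R ∧ f ∈ R ∧ g ∈ R := by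
      rw [hQe, hRe]; simp
    let l : Fin 7 → α := ![a, b, c, d, e, f, g]
    have hl : Function.Injective l := by
      simp only [List.nodup_cons, List.mem_cons, List.not_mem_nil, not_or, or_false, List.nodup_nil,
        and_true] at hnd hnd'
      intro i j hij
      fin_cases i <;> fin_cases j <;> simp [l] at hij ⊢ <;> grind
    let x0 : Perm (Fin 7) := swap 0 1 * swap 2 3
    let y0 : Perm (Fin 7) := swap 0 4 * swap 5 6
    have hxy : lab l hl (x0 * y0) ∈ X := by
      simp only [x0, y0, map_mul, lab_swap]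
      exact mul_mem hx hy
    have h2 : lab l hl (swap 0 1 * swap 0 4) ∈ X := by
      rw [show (swap 0 1 * swap 0 4 : Perm (Fin 7)) = (x0 * y0) ^ 4 by decide +kernel, map_pow]
      exact pow_mem hxy 4
    rw [map_mul, lab_swap, lab_swap] at h2
    exact alternatingGroup_le_of_isPreprimitive_of_isThreeCycle_mem hX
      (isThreeCycle_swap_mul_swap_same (fun e' => absurd (hl e') (by decide))
        (fun e' => absurd (hl e') (by decide)) (fun e' => absurd (hl e') (by decide))) h2
  · have hQ4 := hQ.card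
    have hR4 := hR.card
    have hd' : (Q \ R).card = 1 := by
      have := Finset.card_sdiff_add_card_inter Q R
      omega
    have he' : (R \ Q).card = 1 := by
      have := Finset.card_sdiff_add_card_inter R Q
      rw [Finset.inter_comm] at this
      omega
    obtain ⟨d, hd⟩ := Finset.card_eq_one.1 hd'
    obtain ⟨e, he⟩ := Finset.card_eq_one.1 he'
    have hdm : d ∈ Q \ R := by rw [hd]; simp
    have hem : e ∈ R \ Q := by rw [he]; simp
    rw [Finset.mem_sdiff] at hdm hem
    obtain ⟨a, b, c, hnd, hx, hQe⟩ := hQ.rep hdm.1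
    obtain ⟨a', b', c', hnd', hy, hRe⟩ := hR.rep hem.1
    simp only [List.nodup_cons, List.mem_cons, List.not_mem_nil, not_or, or_false, List.nodup_nil,
      and_true] at hnd hnd'
    obtain ⟨⟨hda, hdb, hdc⟩, ⟨hab, hac⟩, hbc, -⟩ := hnd
    obtain ⟨⟨hea', heb', hec'⟩, ⟨hab', hac'⟩, hbc', -⟩ := hnd'
    have hin : ∀ z ∈ R, z ≠ e → z = a ∨ z = b ∨ z = c := by
      intro z hz hze
      have hzQ : z ∈ Q := by
        by_contra hn
        have : z ∈ R \ Q := Finset.mem_sdiff.2 ⟨hz, hn⟩
        rw [he] at this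
        exact hze (by simpa using this)
      rw [hQe] at hzQ
      simp only [Finset.mem_insert, Finset.mem_singleton] at hzQ
      rcases hzQ with rfl | h' | h' | h'
      · exact absurd hz hdm.2
      · exact Or.inl h'
      · exact Or.inr (Or.inl h')
      · exact Or.inr (Or.inr h')
    have hne : e ≠ d ∧ e ≠ a ∧ e ≠ b ∧ e ≠ c := by
      have := hem.2
      rw [hQe] at this
      simpa using this
    obtain ⟨hed, hea, heb, hec⟩ := hne
    have ha' := hin a' (by rw [hRe]; simp) (Ne.symm hea')
    have hb' := hin b' (by rw [hRe]; simp) (Ne.symm heb')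
    have hc' := hin c' (by rw [hRe]; simp) (Ne.symm hec')
    have second : ∀ b c : α, b ≠ c → d ≠ b → d ≠ c → a ≠ b → a ≠ c → e ≠ b → e ≠ c →
        swap d a * swap b c ∈ X → swap e b * swap a c ∈ X → alternatingGroup α ≤ X := by
      intro b c k1 k2 k3 k4 k5 k6 k7 k8 k9
      refine alt_of_five_second hX hα ![d, a, b, c, e] ?_ k8 k9
      intro i j hij
      fin_cases i <;> fin_cases j <;> simp at hij ⊢ <;> grind
    rcases ha' with rfl | rfl | rfl
    · have hy' : swap e a' * swap b c ∈ X := by
        rcases hb' with h1 | h1 | h1 <;> rcases hc' with h2 | h2 | h2 <;>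
          first
            | exact absurd (h1.trans h2.symm) hbc'
            | exact absurd h1.symm hab'
            | exact absurd h2.symm hac'
            | (rw [h1, h2] at hy; first | exact hy | (rw [swap_comm b c]; exact hy))
      exact alt_of_five_first hX (Ne.symm hed) hda hea hx hy' (by simp; grind)
    · refine second a' c hbc hdb hdc hab hac heb hec hx ?_
      rcases hb' with h1 | h1 | h1 <;> rcases hc' with h2 | h2 | h2 <;>
        first
          | exact absurd (h1.trans h2.symm) hbc'
          | exact absurd h1.symm hab'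
          | exact absurd h2.symm hac'
          | (rw [h1, h2] at hy; first | exact hy | (rw [swap_comm a c]; exact hy))
    · refine second a' b (Ne.symm hbc) hdc hdb hac hab hec heb (by rw [swap_comm a' b]; exact hx) ?_
      rcases hb' with h1 | h1 | h1 <;> rcases hc' with h2 | h2 | h2 <;>
        first
          | exact absurd (h1.trans h2.symm) hbc'
          | exact absurd h1.symm hab'
          | exact absurd h2.symm hac'
          | (rw [h1, h2] at hy; first | exact hy | (rw [swap_comm a b]; exact hy))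

/-- The parity condition for a quadrangle. -/
theorem pair_parity {Q : Finset α} {a b c d : α} (hnd : [a, b, c, d].Nodup)
    (h : Even (Q ∩ {a, b, c, d}).card) : (a ∈ Q ↔ b ∈ Q) ↔ (c ∈ Q ↔ d ∈ Q) := by
  simp only [List.nodup_cons, List.mem_cons, List.not_mem_nil, not_or, or_false, List.nodup_nil,
    and_true] at hnd
  obtain ⟨⟨hab, hac, had⟩, ⟨hbc, hbd⟩, hcd, -⟩ := hnd
  by_cases ha : a ∈ Q <;> by_cases hb : b ∈ Q <;> by_cases hc : c ∈ Q <;> by_cases hd : d ∈ Q <;>
    simp_all [Nat.even_iff, Finset.card_insert_of_notMem]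

/-- The primitive case. -/
theorem alt_of_primitive (hyp : Hyp X E) (hX : IsPreprimitive X α) (p : Fin 8 → α)
    (hp : Function.Injective p) (hx : swap (p 0) (p 1) * swap (p 2) (p 3) ∈ X)
    (hy : swap (p 0) (p 1) * swap (p 4) (p 5) ∈ X) (hw : swap (p 0) (p 1) * swap (p 6) (p 7) ∈ X) :
    alternatingGroup α ≤ X := by
  by_contra hnot
  have hα : 8 ≤ Fintype.card α := by
    simpa using Fintype.card_le_of_injective p hp
  have heven : ∀ Q R, IsDT X Q → IsDT X R → Even (Q ∩ R).card := fun Q R hQ hR =>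
    by_contra fun h => hnot (alt_of_odd_meet hX hα hQ hR h)
  haveI := hX
  haveI : IsPretransitive X α := hX.toIsPretransitive
  have hndp : ∀ i j k l : Fin 8, [i, j, k, l].Nodup → [p i, p j, p k, p l].Nodup :=
    fun i j k l h => h.map hp
  have hQ1 : IsDT X {p 0, p 1, p 2, p 3} := ⟨_, _, _, _, hndp 0 1 2 3 (by decide), hx, rfl⟩
  have hQ2 : IsDT X {p 0, p 1, p 4, p 5} := ⟨_, _, _, _, hndp 0 1 4 5 (by decide), hy, rfl⟩
  have hQ3 : IsDT X {p 0, p 1, p 6, p 7} := ⟨_, _, _, _, hndp 0 1 6 7 (by decide), hw, rfl⟩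
  let ev : Fin 4 → Fin 8 := ![0, 2, 4, 6]
  let od : Fin 4 → Fin 8 := ![1, 3, 5, 7]
  have hdist : ∀ i j : Fin 4, j ≠ i → [ev i, od i, ev j, od j].Nodup := by decide
  have hcover : ∀ k : Fin 8, ∃ i, k = ev i ∨ k = od i := by decide
  have hdisj : ∀ i j : Fin 4, (ev i = ev j → i = j) ∧ (od i = od j → i = j) ∧ ev i ≠ od j := by
    decide
  -- all pairs have the same parity
  have hpar : ∀ Q, IsDT X Q → ∀ i j,
      (p (ev i) ∈ Q ↔ p (od i) ∈ Q) ↔ (p (ev j) ∈ Q ↔ p (od j) ∈ Q) := by
    intro Q hQ
    have h1 := pair_parity (hndp 0 1 2 3 (by decide)) (heven Q _ hQ hQ1)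
    have h2 := pair_parity (hndp 0 1 4 5 (by decide)) (heven Q _ hQ hQ2)
    have h3 := pair_parity (hndp 0 1 6 7 (by decide)) (heven Q _ hQ hQ3)
    have h0 : ∀ j, (p (ev 0) ∈ Q ↔ p (od 0) ∈ Q) ↔ (p (ev j) ∈ Q ↔ p (od j) ∈ Q) := by
      intro j
      fin_cases j
      · exact Iff.rfl
      · exact h1
      · exact h2
      · exact h3
    exact fun i j => (h0 i).symm.trans (h0 j)
  -- a quadrangle meeting a pair once lies inside the eight points
  have hodd : ∀ Q, IsDT X Q → ∀ i, ¬ (p (ev i) ∈ Q ↔ p (od i) ∈ Q) → ∀ z ∈ Q, ∃ k, p k = z := by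
    intro Q hQ i hi z hz
    let sel : Fin 4 → α := fun j => if p (ev j) ∈ Q then p (ev j) else p (od j)
    have hmem : ∀ j, sel j ∈ Q := fun j => by
      have := mt (hpar Q hQ i j).2 hi
      simp only [sel]
      split_ifs <;> tauto
    have hinj : Function.Injective sel := by
      intro j k hjk
      simp only [sel] at hjk
      split_ifs at hjk
      · exact (hdisj j k).1 (hp hjk)
      · exact absurd (hp hjk) (hdisj j k).2.2
      · exact absurd (hp hjk).symm (hdisj k j).2.2
      · exact (hdisj j k).2.1 (hp hjk)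
    have hEq : Finset.univ.image sel = Q := Finset.eq_of_subset_of_card_le
      (by intro u hu; simp only [Finset.mem_image] at hu; obtain ⟨j, -, rfl⟩ := hu; exact hmem j)
      (by rw [Finset.card_image_of_injective _ hinj, hQ.card]; rfl)
    rw [← hEq] at hz
    simp only [Finset.mem_image] at hz
    obtain ⟨j, -, rfl⟩ := hz
    simp only [sel]
    split_ifs
    · exact ⟨_, rfl⟩
    · exact ⟨_, rfl⟩
  have hgmap : ∀ (g : X) (A : Finset α) (z : α), z ∈ g • (A : Set α) ↔ z ∈ A.image (g : Perm α) := by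
    intro g A z
    rw [Set.mem_smul_set]
    simp only [Finset.mem_coe, Finset.mem_image]
    rfl
  have hsep : ∀ a b : α, a ≠ b → ∃ Q, IsDT X Q ∧ a ∈ Q ∧ b ∉ Q := by
    intro a b hab
    set Q0 : Finset α := {p 0, p 1, p 2, p 3}
    obtain ⟨g, h1, h2⟩ := IsPreprimitive.exists_mem_smul_and_notMem_smul (G := X)
      (A := (Q0 : Set α)) Q0.finite_toSet ⟨p 0, by simp [Q0]⟩ (by
        intro h
        have := congrArg Set.ncard h
        rw [Set.ncard_coe_finset, Set.ncard_univ, Nat.card_eq_fintype_card, hQ1.card] at this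
        omega) hab
    rw [hgmap] at h1 h2
    exact ⟨_, hQ1.conj g.2, h1, h2⟩
  rcases eq_or_lt_of_le hα with h8 | h9
  · -- eight points: an abelian normal subgroup
    have hsurj : ∀ z, ∃ k, p k = z :=
      ((Fintype.bijective_iff_injective_and_card p).2 ⟨hp, by simpa using h8⟩).2
    let t : Perm α := lab p hp (swap 0 1 * swap 2 3 * (swap 4 5 * swap 6 7))
    have htX : t ∈ X := by
      have h := mul_mem (mul_mem hx hy) hw
      have e1 : (swap 0 1 * swap 2 3 * (swap 4 5 * swap 6 7) : Perm (Fin 8)) =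
          swap 0 1 * swap 2 3 * (swap 0 1 * swap 4 5) * (swap 0 1 * swap 6 7) := by decide +kernel
      show lab p hp (swap 0 1 * swap 2 3 * (swap 4 5 * swap 6 7)) ∈ X
      rw [e1]
      simp only [map_mul, lab_swap]
      exact h
    have ht : ∀ i, t (p (ev i)) = p (od i) ∧ t (p (od i)) = p (ev i) := by
      intro i
      simp only [t, lab_apply]
      constructor <;> congr 1 <;> revert i <;> decide +kernel
    have htt : ∀ z, t (t z) = z := by
      intro z
      obtain ⟨k, rfl⟩ := hsurj z
      obtain ⟨i, rfl | rfl⟩ := hcover k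
      · rw [(ht i).1, (ht i).2]
      · rw [(ht i).2, (ht i).1]
    let K : Subgroup (Perm α) :=
      { carrier := {g | g ∈ X ∧ ∀ Q, IsDT X Q →
          (∀ z, g z ∈ Q ↔ z ∈ Q) ∨ (∀ z, g z ∈ Q ↔ z ∉ Q)}
        one_mem' := ⟨one_mem X, fun Q _ => Or.inl fun z => Iff.rfl⟩
        mul_mem' := by
          rintro g h ⟨hg, hg'⟩ ⟨hh, hh'⟩
          refine ⟨mul_mem hg hh, fun Q hQ => ?_⟩
          rcases hg' Q hQ with a | a <;> rcases hh' Q hQ with b | b
          · exact Or.inl fun z => (a (h z)).trans (b z)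
          · exact Or.inr fun z => (a (h z)).trans (b z)
          · exact Or.inr fun z => (a (h z)).trans (not_congr (b z))
          · exact Or.inl fun z => (a (h z)).trans ((not_congr (b z)).trans not_not)
        inv_mem' := by
          rintro g ⟨hg, hg'⟩
          refine ⟨inv_mem hg, fun Q hQ => ?_⟩
          rcases hg' Q hQ with a | a
          · refine Or.inl fun z => ?_
            have h := a (g⁻¹ z)
            rw [← Perm.mul_apply, mul_inv_cancel, Perm.one_apply] at h
            exact h.symm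
          · refine Or.inr fun z => ?_
            have h := a (g⁻¹ z)
            rw [← Perm.mul_apply, mul_inv_cancel, Perm.one_apply] at h
            tauto }
    have htK : t ∈ K := by
      refine ⟨htX, fun Q hQ => ?_⟩
      by_cases h0 : p (ev 0) ∈ Q ↔ p (od 0) ∈ Q
      · refine Or.inl fun z => ?_
        obtain ⟨k, rfl⟩ := hsurj z
        obtain ⟨i, rfl | rfl⟩ := hcover k
        · rw [(ht i).1]; exact ((hpar Q hQ 0 i).1 h0).symm
        · rw [(ht i).2]; exact (hpar Q hQ 0 i).1 h0
      · refine Or.inr fun z => ?_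
        obtain ⟨k, rfl⟩ := hsurj z
        obtain ⟨i, rfl | rfl⟩ := hcover k
        · rw [(ht i).1]; have := mt (hpar Q hQ 0 i).2 h0; tauto
        · rw [(ht i).2]; have := mt (hpar Q hQ 0 i).2 h0; tauto
    have hKinv : ∀ g ∈ K, ∀ z, g (g z) = z := by
      intro g hg z
      by_contra hne
      obtain ⟨Q, hQ, h1, h2⟩ := hsep _ _ hne
      rcases hg.2 Q hQ with a | a <;> rw [a, a] at h1 <;> tauto
    have hKcomm : ∀ g ∈ K, ∀ h ∈ K, Commute g h := by
      intro g hg h hh
      ext z
      have e1 : g (h (g (h z))) = z := hKinv (g * h) (mul_mem hg hh) z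
      show g (h z) = h (g z)
      calc g (h z) = h (h (g (h z))) := (hKinv h hh _).symm
        _ = h (g (g (h (g (h z))))) := by rw [hKinv g hg]
        _ = h (g z) := by rw [e1]
    have hKnorm : ∀ x ∈ X, ∀ g ∈ K, x * g * x⁻¹ ∈ K := by
      intro x hxx g hg
      refine ⟨mul_mem (mul_mem hxx hg.1) (inv_mem hxx), fun Q hQ => ?_⟩
      have hm : ∀ u, u ∈ Q.image (x⁻¹ : Perm α) ↔ x u ∈ Q := by
        intro u
        simp only [Finset.mem_image]
        refine ⟨fun ⟨v, hv, hvu⟩ => ?_, fun hu => ⟨x u, hu, ?_⟩⟩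
        · rw [← hvu, ← Perm.mul_apply, mul_inv_cancel, Perm.one_apply]; exact hv
        · rw [← Perm.mul_apply, inv_mul_cancel, Perm.one_apply]
      have hx' : ∀ z, x ((x⁻¹ : Perm α) z) = z := fun z => by
        rw [← Perm.mul_apply, mul_inv_cancel, Perm.one_apply]
      rcases hg.2 _ (hQ.conj (inv_mem hxx)) with a | a
      · refine Or.inl fun z => ?_
        have h := a ((x⁻¹ : Perm α) z)
        rw [hm, hm, hx'] at h
        exact h
      · refine Or.inr fun z => ?_
        have h := a ((x⁻¹ : Perm α) z)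
        rw [hm, hm, hx'] at h
        exact h
    have hnotle : ¬ E ≤ K := fun h => hyp.not_abelian fun a ha b hb => hKcomm a (h ha) b (h hb)
    have hcen : ∀ g ∈ K, ∀ e ∈ E, Commute g e := fun g hg =>
      (hyp.le_or_commute (fun e he n hn => hKnorm e (hyp.le he) n hn) hg.1 hg).resolve_left hnotle
    haveI hKn : (K.subgroupOf X).Normal :=
      ⟨fun g hg x => Subgroup.mem_subgroupOf.2
        (hKnorm x x.2 g (Subgroup.mem_subgroupOf.1 hg))⟩
    have horb : ∀ z, ∃ g ∈ K, g (p 0) = z := by
      intro z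
      rcases IsPreprimitive.isTrivialBlock_of_isBlock
        (IsBlock.orbit_of_normal (G := X) (N := K.subgroupOf X) (p 0)) with h | h
      · have h1 : p 0 ∈ orbit (K.subgroupOf X) (p 0) := mem_orbit_self _
        have h2 : p 1 ∈ orbit (K.subgroupOf X) (p 0) :=
          ⟨⟨⟨t, htX⟩, Subgroup.mem_subgroupOf.2 htK⟩, (ht 0).1⟩
        exact absurd (hp (h h1 h2)) (by decide)
      · have hz : z ∈ orbit (K.subgroupOf X) (p 0) := by rw [h]; trivial
        obtain ⟨⟨g, hg⟩, hgz⟩ := hz
        exact ⟨g, Subgroup.mem_subgroupOf.1 hg, hgz⟩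
    apply hnotle
    intro e he
    obtain ⟨k, hk, hke⟩ := horb (e (p 0))
    suffices e = k by rw [this]; exact hk
    ext z
    obtain ⟨k', hk', rfl⟩ := horb z
    calc e (k' (p 0)) = k' (e (p 0)) := (Equiv.congr_fun (hcen k' hk' e he).eq (p 0)).symm
      _ = k' (k (p 0)) := by rw [hke]
      _ = k (k' (p 0)) := Equiv.congr_fun (hKcomm k' hk' k hk).eq (p 0)
  · -- more points: a quadrangle leaves the eight points
    obtain ⟨Q, hQ, ⟨z1, hz1Q, hz1⟩, ⟨z2, hz2Q, hz2⟩⟩ : ∃ Q, IsDT X Q ∧
        (∃ z ∈ Q, ∃ k, p k = z) ∧ (∃ z ∈ Q, ∀ k, p k ≠ z) := by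
      set P : Finset α := Finset.univ.image p with hP
      obtain ⟨g, h1, h2⟩ := IsPreprimitive.exists_mem_smul_and_notMem_smul (G := X)
        (A := (P : Set α)) P.finite_toSet ⟨p 0, by simp [P]⟩ (by
          intro h
          have := congrArg Set.ncard h
          rw [Set.ncard_coe_finset, Set.ncard_univ, Nat.card_eq_fintype_card, hP,
            Finset.card_image_of_injective _ hp] at this
          simp only [Finset.card_univ, Fintype.card_fin] at this
          omega) (a := p 0) (b := p 1) (hp.ne (by decide))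
      rw [hgmap] at h1 h2
      simp only [P, Finset.mem_image, Finset.mem_univ, true_and, exists_exists_eq_and,
        not_exists] at h1 h2
      obtain ⟨k, hk⟩ := h1
      have hgi : (g : Perm α)⁻¹ ∈ X := inv_mem g.2
      refine ⟨_, hQ1.conj hgi, ⟨_, Finset.mem_image_of_mem _ (by simp : p 0 ∈ _), k, ?_⟩,
        ⟨_, Finset.mem_image_of_mem _ (by simp : p 1 ∈ _), fun l hl => h2 l ?_⟩⟩
      · rw [← hk]; simp
      · rw [hl]; simp
    obtain ⟨k, rfl⟩ := hz1
    obtain ⟨i, hi⟩ := hcover k
    have hev : ∀ j, (p (ev j) ∈ Q ↔ p (od j) ∈ Q) := by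
      intro j
      by_contra h
      obtain ⟨l, hl⟩ := hodd Q hQ j h z2 hz2Q
      exact hz2 l hl
    have hiQ : p (ev i) ∈ Q ∧ p (od i) ∈ Q := by
      have := hev i
      rcases hi with rfl | rfl <;> tauto
    obtain ⟨R, hR, hR1, hR2⟩ := hsep (p (ev i)) (p (od i)) (hp.ne (hdisj i i).2.2)
    have hRi : ¬ (p (ev i) ∈ R ↔ p (od i) ∈ R) := by tauto
    have hint : Q ∩ R = {p (ev i)} := by
      ext u
      simp only [Finset.mem_inter, Finset.mem_singleton]
      refine ⟨fun ⟨huQ, huR⟩ => ?_, fun h => h ▸ ⟨hiQ.1, hR1⟩⟩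
      obtain ⟨l, rfl⟩ := hodd R hR i hRi u huR
      obtain ⟨j, hj⟩ := hcover l
      have hjQ : p (ev j) ∈ Q ∧ p (od j) ∈ Q := by
        have := hev j
        rcases hj with rfl | rfl <;> tauto
      have hji : j = i := by
        by_contra hne
        have hsub : ({p (ev i), p (od i), p (ev j), p (od j)} : Finset α) ⊆ Q := by
          intro v hv
          simp only [Finset.mem_insert, Finset.mem_singleton] at hv
          rcases hv with rfl | rfl | rfl | rfl <;> tauto
        have hnd : [p (ev i), p (od i), p (ev j), p (od j)].Nodup := hndp _ _ _ _ (hdist i j hne)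
        have hcard : ({p (ev i), p (od i), p (ev j), p (od j)} : Finset α).card = 4 := by
          simpa using List.toFinset_card_of_nodup hnd
        have hEq := Finset.eq_of_subset_of_card_le hsub (by rw [hcard, hQ.card])
        rw [← hEq] at hz2Q
        simp only [Finset.mem_insert, Finset.mem_singleton] at hz2Q
        rcases hz2Q with h | h | h | h <;> exact hz2 _ h.symm
      rcases hj with rfl | rfl
      · rw [hji]
      · rw [hji] at huR; exact absurd huR hR2
    have := heven Q R hQ hR
    rw [hint, Finset.card_singleton] at this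
    exact Nat.not_even_one this

/-- The transitive case. -/
theorem alt_of_three (hyp : Hyp X E) [IsPretransitive X α] (p : Fin 8 → α)
    (hp : Function.Injective p) (hx : swap (p 0) (p 1) * swap (p 2) (p 3) ∈ X)
    (hy : swap (p 0) (p 1) * swap (p 4) (p 5) ∈ X) (hw : swap (p 0) (p 1) * swap (p 6) (p 7) ∈ X) :
    alternatingGroup α ≤ X := by
  by_cases hprim : IsPreprimitive X α
  · exact alt_of_primitive hyp hprim p hp hx hy hw
  exfalso
  obtain ⟨B, hB, hBtriv⟩ : ∃ B : Set α, IsBlock X B ∧ ¬ IsTrivialBlock B := by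
    by_contra h
    push Not at h
    exact hprim ⟨fun {B} hB => h B hB⟩
  unfold IsTrivialBlock at hBtriv
  push Not at hBtriv
  obtain ⟨⟨b0, hb0, b1, hb1, hb01⟩, hBuniv⟩ := hBtriv
  have hf : ∀ a : α, ∃ g : X, (g : Perm α) b0 = a := fun a => exists_smul_eq X b0 a
  choose gf hgf using hf
  let f : α → Set α := fun a => gf a • B
  have hmem : ∀ a, a ∈ f a := fun a => ⟨b0, hb0, hgf a⟩
  have hblock : ∀ (g : X) (a : α), a ∈ g • B → g • B = f a := fun g a ha =>
    hB.smul_eq_smul_of_nonempty ⟨a, ha, hmem a⟩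
  have hfz : ∀ a z, z ∈ f a → f z = f a := fun a z hz => (hblock (gf a) z hz).symm
  have hfs : ∀ (h : X) (a : α), f ((h : Perm α) a) = h • f a := fun h a => by
    have : (h : Perm α) a ∈ h • f a := ⟨a, hmem a, rfl⟩
    rw [show h • f a = (h * gf a) • B from smul_smul h (gf a) B] at this ⊢
    exact (hblock _ _ this).symm
  have hcard : ∀ a, (f a).ncard = B.ncard := fun a => Set.ncard_smul_set _ _
  have htwo : 2 ≤ B.ncard := (Set.one_lt_ncard (Set.toFinite _)).2 ⟨b0, hb0, b1, hb1, hb01⟩
  have htr : ∀ a ∈ (Set.univ : Set α), ∀ b ∈ (Set.univ : Set α), ∃ h ∈ X, h a = b := fun a _ b _ => by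
    obtain ⟨g, hg⟩ := exists_smul_eq X a b
    exact ⟨g, g.2, hg⟩
  let N : Subgroup (Perm α) :=
    { carrier := {g | ∀ a, f (g a) = f a}
      one_mem' := fun a => rfl
      mul_mem' := fun {g h} hg hh a => (hg (h a)).trans (hh a)
      inv_mem' := fun {g} hg a => by
        have := hg (g⁻¹ a)
        rw [← Perm.mul_apply, mul_inv_cancel, Perm.one_apply] at this
        exact this.symm }
  have hNnorm : ∀ e ∈ E, ∀ g ∈ N, e * g * e⁻¹ ∈ N := by
    intro e he g hg a
    have hee : ∀ z, f (e z) = (⟨e, hyp.le he⟩ : X) • f z := fun z => hfs ⟨e, hyp.le he⟩ z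
    rw [Perm.mul_apply, Perm.mul_apply, hee, hg, ← hee, ← Perm.mul_apply e, mul_inv_cancel,
      Perm.one_apply]
  have hEfix : ∀ u, (∀ e ∈ E, e u = u) → False := by
    intro u hu
    apply hyp.ne
    rw [eq_bot_iff]
    intro e he
    rw [Subgroup.mem_bot]
    ext z
    obtain ⟨h, hh, hhz⟩ := htr u trivial z trivial
    have := hu _ (hyp.norm h⁻¹ (inv_mem hh) e he)
    rw [inv_inv, mul_apply, mul_apply, hhz, Perm.inv_eq_iff_eq, hhz] at this
    exact this
  -- a double transposition either lies in `N`, or blocks have size two and it moves every block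
  have hmove : ∀ a b c d : α, [a, b, c, d].Nodup → swap a b * swap c d ∈ X →
      swap a b * swap c d ∈ N ∨ (B.ncard = 2 ∧ f a ⊆ ({a, b, c, d} : Finset α) ∧ f a ≠ f b) := by
    intro a b c d hnd hxX
    by_contra hcon
    push Not at hcon
    obtain ⟨hxN, hcon⟩ := hcon
    set x : Perm α := swap a b * swap c d with hxdef
    obtain ⟨a0, ha0⟩ : ∃ a0, f (x a0) ≠ f a0 := by
      by_contra h
      push Not at h
      exact hxN h
    have hxx : ∀ z, x (x z) = z := by
      intro z
      obtain ⟨h1, h2, h3, h4, h5⟩ := dt_apply hnd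
      by_cases hz : z ∈ ({a, b, c, d} : Finset α)
      · simp only [Finset.mem_insert, Finset.mem_singleton] at hz
        rcases hz with rfl | rfl | rfl | rfl
        · rw [hxdef, h1, h2]
        · rw [hxdef, h2, h1]
        · rw [hxdef, h3, h4]
        · rw [hxdef, h4, h3]
      · rw [hxdef, h5 z hz, h5 z hz]
    have hfx : ∀ z, f (x z) = (⟨x, hxX⟩ : X) • f z := fun z => hfs ⟨x, hxX⟩ z
    have hin : ∀ z, f z = f a0 ∨ f z = f (x a0) → z ∈ ({a, b, c, d} : Finset α) := by
      intro z hz
      by_contra hn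
      have hfix : x z = z := (dt_apply hnd).2.2.2.2 z hn
      rcases hz with hz | hz
      · apply ha0
        rw [hfx, ← hz, ← hfx, hfix]
      · apply ha0
        calc f (x a0) = f z := hz.symm
          _ = f (x z) := by rw [hfix]
          _ = (⟨x, hxX⟩ : X) • f (x a0) := by rw [hfx, hz]
          _ = f a0 := by rw [← hfx, hxx]
    have hsub : f a0 ∪ f (x a0) ⊆ ↑({a, b, c, d} : Finset α) := by
      rintro z (hz | hz)
      · exact hin z (Or.inl (hfz _ _ hz))
      · exact hin z (Or.inr (hfz _ _ hz))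
    have hdisj : Disjoint (f a0) (f (x a0)) := by
      rw [Set.disjoint_left]
      exact fun z h1 h2 => ha0 ((hfz _ _ h2).symm.trans (hfz _ _ h1))
    have h4 : (({a, b, c, d} : Finset α) : Set α).ncard = 4 := by
      rw [Set.ncard_coe_finset]
      simpa using List.toFinset_card_of_nodup hnd
    have hle := Set.ncard_le_ncard hsub (Finset.finite_toSet _)
    rw [Set.ncard_union_eq hdisj, hcard, hcard, h4] at hle
    have h2 : B.ncard = 2 := by omega
    have hEq : f a0 ∪ f (x a0) = ↑({a, b, c, d} : Finset α) :=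
      Set.eq_of_subset_of_ncard_le hsub (by rw [Set.ncard_union_eq hdisj, hcard, hcard, h4, h2])
        (Finset.finite_toSet _)
    have ha : a ∈ f a0 ∪ f (x a0) := by rw [hEq]; simp
    have hab : x a = b := (dt_apply hnd).1
    have hab' : f b = (⟨x, hxX⟩ : X) • f a := by rw [← hfx, hab]
    rcases ha with ha | ha
    · refine absurd (hcon h2 ((hfz _ _ ha).le.trans (Set.subset_union_left.trans hEq.le))) ?_
      rw [hab', hfz _ _ ha, ← hfx]
      exact fun h => ha0 h.symm
    · refine absurd (hcon h2 ((hfz _ _ ha).le.trans (Set.subset_union_right.trans hEq.le))) ?_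
      rw [hab', hfz _ _ ha, ← hfx, hxx]
      exact ha0
  -- if blocks have size two, `N` is abelian
  have hN2 : B.ncard = 2 → ∀ a b c d : α, [a, b, c, d].Nodup → swap a b * swap c d ∈ X →
      swap a b * swap c d ∈ N → False := by
    intro h2 a b c d hnd hxX hxN
    have hEN := hyp.le_of_dt htr hnd trivial trivial hxX hxN hNnorm
    have hinv : ∀ g ∈ N, ∀ z, g (g z) = z := by
      intro g hg z
      by_contra hne
      have hgz : g z ≠ z := fun h => hne (by rw [h, h])
      have hsub : ({z, g z, g (g z)} : Set α) ⊆ f z := by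
        intro u hu
        simp only [Set.mem_insert_iff, Set.mem_singleton_iff] at hu
        rcases hu with rfl | rfl | rfl
        · exact hmem _
        · have := hmem (g z); rwa [hg] at this
        · have := hmem (g (g z)); rwa [hg, hg] at this
      have h3 : ({z, g z, g (g z)} : Set α).ncard = 3 :=
        Set.ncard_eq_three.2 ⟨_, _, _, Ne.symm hgz, Ne.symm hne, fun h => hgz (g.injective h).symm,
          rfl⟩
      have := Set.ncard_le_ncard hsub (Set.toFinite _)
      rw [h3, hcard, h2] at this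
      omega
    refine hyp.not_abelian fun e he e' he' => ?_
    ext z
    have e1 : e (e' (e (e' z))) = z := hinv (e * e') (mul_mem (hEN he) (hEN he')) z
    show e (e' z) = e' (e z)
    calc e (e' z) = e' (e' (e (e' z))) := (hinv e' (hEN he') _).symm
      _ = e' (e (e (e' (e (e' z))))) := by rw [hinv e (hEN he)]
      _ = e' (e z) := by rw [e1]
  -- a double transposition in `N` meets every block
  have hmeet : ∀ a b c d : α, [a, b, c, d].Nodup → swap a b * swap c d ∈ X →
      swap a b * swap c d ∈ N → ∀ u, f a = f u ∨ f b = f u ∨ f c = f u ∨ f d = f u := by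
    intro a b c d hnd hxX hxN u
    by_contra h
    push Not at h
    have hEN := hyp.le_of_dt htr hnd trivial trivial hxX hxN hNnorm
    let N' : Subgroup (Perm α) :=
      { carrier := {g | ∀ z ∈ f u, g z = z}
        one_mem' := fun z _ => rfl
        mul_mem' := fun {g k} hg hk z hz => by rw [Perm.mul_apply, hk z hz, hg z hz]
        inv_mem' := fun {g} hg z hz => by rw [Perm.inv_eq_iff_eq, hg z hz] }
    have hN'norm : ∀ e ∈ E, ∀ g ∈ N', e * g * e⁻¹ ∈ N' := by
      intro e he g hg z hz
      have hz' : (e⁻¹ : Perm α) z ∈ f u := by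
        have h1 := inv_mem (hEN he) z
        have h2 := hmem ((e⁻¹ : Perm α) z)
        rw [h1, hfz _ _ hz] at h2
        exact h2
      rw [Perm.mul_apply, Perm.mul_apply, hg _ hz', ← Perm.mul_apply, mul_inv_cancel, Perm.one_apply]
    have hxN' : swap a b * swap c d ∈ N' := by
      intro z hz
      refine (dt_apply hnd).2.2.2.2 z ?_
      simp only [Finset.mem_insert, Finset.mem_singleton, not_or]
      have hz' := hfz _ _ hz
      exact ⟨fun e => h.1 (by rw [← e, hz']), fun e => h.2.1 (by rw [← e, hz']),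
        fun e => h.2.2.1 (by rw [← e, hz']), fun e => h.2.2.2 (by rw [← e, hz'])⟩
    have hEN' := hyp.le_of_dt htr hnd trivial trivial hxX hxN' hN'norm
    exact hEfix u fun e he => hEN' he u (hmem u)
  have hndp : ∀ i j k l : Fin 8, [i, j, k, l].Nodup → [p i, p j, p k, p l].Nodup :=
    fun i j k l h => h.map hp
  have n1 := hndp 0 1 2 3 (by decide)
  have n2 := hndp 0 1 4 5 (by decide)
  have n4 := hndp 2 3 4 5 (by decide)
  have hz : swap (p 2) (p 3) * swap (p 4) (p 5) ∈ X := by
    have h := mul_mem hx hy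
    have e1 : (swap 2 3 * swap 4 5 : Perm (Fin 8)) =
        swap 0 1 * swap 2 3 * (swap 0 1 * swap 4 5) := by decide +kernel
    rw [← lab_swap p hp, ← lab_swap p hp, ← map_mul, e1]
    simpa only [map_mul, lab_swap] using h
  by_cases h2 : B.ncard = 2
  · -- no double transposition lies in `N`
    obtain ⟨-, hsub1, hne⟩ := (hmove _ _ _ _ n1 hx).resolve_left (hN2 h2 _ _ _ _ n1 hx)
    obtain ⟨-, hsub2, -⟩ := (hmove _ _ _ _ n2 hy).resolve_left (hN2 h2 _ _ _ _ n2 hy)
    have hsub : f (p 0) ⊆ ({p 0, p 1} : Set α) := by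
      intro z hz'
      have a1 := hsub1 hz'
      have a2 := hsub2 hz'
      simp only [Finset.coe_insert, Finset.coe_singleton, Set.mem_insert_iff,
        Set.mem_singleton_iff] at a1 a2 ⊢
      rcases a1 with a1 | a1 | a1 | a1
      · exact Or.inl a1
      · exact Or.inr a1
      all_goals
        subst a1
        rcases a2 with a2 | a2 | a2 | a2 <;> exact absurd (hp a2) (by decide)
    have hEq : f (p 0) = {p 0, p 1} := Set.eq_of_subset_of_ncard_le hsub (by
      rw [hcard, h2, Set.ncard_pair (hp.ne (by decide))]) (Set.toFinite _)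
    have hm : p 1 ∈ f (p 0) := by rw [hEq]; simp
    exact hne (hfz _ _ hm).symm
  have hxN : ∀ a b c d : α, [a, b, c, d].Nodup → swap a b * swap c d ∈ X →
      swap a b * swap c d ∈ N := fun a b c d hnd hxX =>
    (hmove a b c d hnd hxX).resolve_right (fun h => h2 h.1)
  have hpair : ∀ a b c d : α, [a, b, c, d].Nodup → swap a b * swap c d ∈ X → f b = f a ∧ f d = f c := by
    intro a b c d hnd hxX
    have := hxN a b c d hnd hxX
    have h1 := this a
    have h3 := this c
    rw [(dt_apply hnd).1] at h1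
    rw [(dt_apply hnd).2.2.1] at h3
    exact ⟨h1, h3⟩
  obtain ⟨h01, h23⟩ := hpair _ _ _ _ n1 hx
  obtain ⟨-, h45⟩ := hpair _ _ _ _ n2 hy
  obtain ⟨u, hu⟩ : ∃ u, f u ≠ f (p 0) := by
    by_contra h
    push Not at h
    apply hBuniv
    rw [Set.eq_univ_iff_forall]
    intro z
    have hb : B = f b0 := by
      have := hblock 1 b0 (by rwa [one_smul])
      rwa [one_smul] at this
    rw [hb, h b0, ← h z]
    exact hmem z
  have k1 : f (p 2) = f u := by
    rcases hmeet _ _ _ _ n1 hx (hxN _ _ _ _ n1 hx) u with h | h | h | h <;> grind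
  have k2 : f (p 4) = f u := by
    rcases hmeet _ _ _ _ n2 hy (hxN _ _ _ _ n2 hy) u with h | h | h | h <;> grind
  rcases hmeet _ _ _ _ n4 hz (hxN _ _ _ _ n4 hz) (p 0) with h | h | h | h <;> grind

/-- In that situation the normal subgroup is the alternating group. -/
theorem eq_alternating_of_three (hyp : Hyp X E) [IsPretransitive X α] (p : Fin 8 → α)
    (hp : Function.Injective p) (hx : swap (p 0) (p 1) * swap (p 2) (p 3) ∈ X)
    (hy : swap (p 0) (p 1) * swap (p 4) (p 5) ∈ X) (hw : swap (p 0) (p 1) * swap (p 6) (p 7) ∈ X) :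
    E = alternatingGroup α := by
  have hA := alt_of_three hyp p hp hx hy hw
  have hα : 5 ≤ Nat.card α := by
    have := Fintype.card_le_of_injective p hp
    simp only [Fintype.card_fin] at this
    rw [Nat.card_eq_fintype_card]
    omega
  have hle : E ≤ alternatingGroup α := by
    rw [← hyp.perf, Subgroup.commutator_le]
    intro a _ b _
    rw [Equiv.Perm.mem_alternatingGroup]
    simp [commutatorElement_def, mul_comm, mul_left_comm]
  haveI := alternatingGroup.isSimpleGroup hα
  haveI : (E.subgroupOf (alternatingGroup α)).Normal :=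
    ⟨fun e he g => Subgroup.mem_subgroupOf.2
      (hyp.norm g (hA g.2) e (Subgroup.mem_subgroupOf.1 he))⟩
  rcases this.eq_bot_or_eq_top with h | h
  · exact absurd ((Subgroup.subgroupOf_eq_bot.1 h).eq_bot_of_le hle) hyp.ne
  · exact le_antisymm hle (Subgroup.subgroupOf_eq_top.1 h)

end Cfsg.Agent.H77.DoubleTrans
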