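import Mathlib.GroupTheory.GroupAction.CardCommute
import Mathlib.GroupTheory.Index
import Mathlib.GroupTheory.GroupAction.Quotient
import Mathlib.Algebra.BigOperators.Ring.Finset
import Mathlib.Algebra.Order.BigOperators.Group.Finset
import Mathlib.Tactic.Ring
import Mathlib.Tactic.Group

/-!
Bounds on the number of conjugacy classes by counting commuting pairs.
-/

namespace Cfsg.Agent.H77

open Subgroup
open scoped Classical

variable {X : Type*} [Group X] [Fintype X]

theorem card_cent_eq_filter (a : X) (K : Subgroup X) :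
    Nat.card ↥(centralizer ({a} : Set X) ⊓ K) =
      (Finset.univ.filter fun b => b ∈ K ∧ Commute a b).card := by
  rw [Nat.card_eq_fintype_card]
  refine Fintype.card_of_subtype _ fun b => ?_
  simp only [Finset.mem_filter, Finset.mem_univ, true_and, Subgroup.mem_inf,
    Subgroup.mem_centralizer_singleton_iff]
  exact ⟨fun h => ⟨h.2.symm, h.1⟩, fun h => ⟨h.2, h.1.symm⟩⟩

theorem kcard_mul_card : Nat.card (ConjClasses X) * Nat.card X =
    ∑ a : X, Nat.card ↥(centralizer ({a} : Set X)) := by
  rw [← card_comm_eq_card_conjClasses_mul_card]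
  rw [Nat.card_congr (β := Σ a : X, {b : X // Commute a b})
    { toFun := fun p => ⟨p.1.1, p.1.2, p.2⟩
      invFun := fun s => ⟨(s.1, s.2.1), s.2.2⟩
      left_inv := fun _ => rfl
      right_inv := fun _ => rfl }, Nat.card_sigma]
  refine Finset.sum_congr rfl fun a _ => Nat.card_congr (Equiv.subtypeEquivRight fun b => ?_)
  rw [Subgroup.mem_centralizer_singleton_iff]
  exact ⟨fun h => h.eq.symm, fun h => h.symm⟩

/-- Double counting. -/
theorem sum_cent_inf (K : Subgroup X) :
    ∑ a : X, Nat.card ↥(centralizer ({a} : Set X) ⊓ K) =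
      ∑ y : K, Nat.card ↥(centralizer ({(y : X)} : Set X)) := by
  have e : ∀ y : X, Nat.card ↥(centralizer ({y} : Set X)) =
      (Finset.univ.filter fun b => Commute y b).card := fun y => by
    have h := card_cent_eq_filter y ⊤
    rw [inf_top_eq] at h
    rw [h]; simp
  simp only [card_cent_eq_filter, e, Finset.card_filter]
  rw [Finset.sum_comm (s := (Finset.univ : Finset K))]
  refine Finset.sum_congr rfl fun a _ => ?_
  rw [← Finset.card_filter, ← Finset.card_filter]
  refine Finset.card_bij (fun b hb => ⟨b, (Finset.mem_filter.mp hb).2.1⟩) ?_ ?_ ?_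
  · intro b hb; simp only [Finset.mem_filter, Finset.mem_univ, true_and] at hb ⊢; exact hb.2.symm
  · intro b _ c _ h; simpa using congrArg Subtype.val h
  · intro b hb
    simp only [Finset.mem_filter, Finset.mem_univ, true_and] at hb
    exact ⟨b.1, by simp [hb.symm], rfl⟩

theorem kcard_mul_card_subgroup (K : Subgroup X) : Nat.card (ConjClasses K) * Nat.card K =
    ∑ y : K, Nat.card ↥(centralizer ({(y : X)} : Set X) ⊓ K) := by
  rw [kcard_mul_card]
  refine Finset.sum_congr rfl fun y _ => Nat.card_congr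
    { toFun := fun b => ⟨b.1.1, ?_, b.1.2⟩
      invFun := fun b => ⟨⟨b.1, b.2.2⟩, ?_⟩
      left_inv := fun _ => rfl
      right_inv := fun _ => rfl }
  · have := mem_centralizer_singleton_iff.mp b.2
    exact mem_centralizer_singleton_iff.mpr (congrArg Subtype.val this)
  · have := mem_centralizer_singleton_iff.mp b.2.1
    exact mem_centralizer_singleton_iff.mpr (Subtype.ext this)

theorem card_cent_eq_mul (a : X) (K : Subgroup X) :
    Nat.card ↥(centralizer ({a} : Set X) ⊓ K) * K.relIndex (centralizer ({a} : Set X)) =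
      Nat.card ↥(centralizer ({a} : Set X)) := by
  have h := relIndex_mul_relIndex (⊥ : Subgroup X) (centralizer ({a} : Set X) ⊓ K) _ bot_le inf_le_left
  rwa [relIndex_bot_left, relIndex_bot_left, inf_relIndex_left] at h

theorem card_cent_le (a : X) (K : Subgroup X) :
    Nat.card ↥(centralizer ({a} : Set X)) ≤
      K.index * Nat.card ↥(centralizer ({a} : Set X) ⊓ K) := by
  rw [← card_cent_eq_mul a K, mul_comm]
  refine Nat.mul_le_mul_right _ ?_
  rw [← relIndex_top_right]
  refine relIndex_le_of_le_right le_top ?_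
  rw [relIndex_top_right]; exact index_ne_zero_of_finite

theorem kcard_subgroup_le (Y : Subgroup X) :
    Nat.card (ConjClasses Y) ≤ Y.index * Nat.card (ConjClasses X) := by
  refine Nat.le_of_mul_le_mul_right ?_ (Nat.card_pos (α := Y))
  calc Nat.card (ConjClasses Y) * Nat.card Y
      = ∑ y : Y, Nat.card ↥(centralizer ({(y : X)} : Set X) ⊓ Y) := kcard_mul_card_subgroup Y
    _ ≤ ∑ y : Y, Nat.card ↥(centralizer ({(y : X)} : Set X)) :=
        Finset.sum_le_sum fun y _ => Nat.le_of_dvd Nat.card_pos (card_dvd_of_le inf_le_left)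
    _ = ∑ a : X, Nat.card ↥(centralizer ({a} : Set X) ⊓ Y) := (sum_cent_inf Y).symm
    _ ≤ ∑ a : X, Nat.card ↥(centralizer ({a} : Set X)) :=
        Finset.sum_le_sum fun y _ => Nat.le_of_dvd Nat.card_pos (card_dvd_of_le inf_le_left)
    _ = Nat.card (ConjClasses X) * Nat.card X := kcard_mul_card.symm
    _ = Y.index * Nat.card (ConjClasses X) * Nat.card Y := by rw [← Y.card_mul_index]; ring

theorem le_kcard_subgroup (Y : Subgroup X) :
    Nat.card (ConjClasses X) ≤ Y.index * Nat.card (ConjClasses Y) ∧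
      (¬ Y.Normal → Nat.card (ConjClasses X) < Y.index * Nat.card (ConjClasses Y)) := by
  have hm : 0 < Y.index := Nat.pos_of_ne_zero index_ne_zero_of_finite
  have hY : 0 < Nat.card Y := Nat.card_pos
  have h1 : Nat.card (ConjClasses X) * Nat.card X ≤
      Y.index * ∑ y : Y, Nat.card ↥(centralizer ({(y : X)} : Set X)) := by
    rw [← sum_cent_inf, kcard_mul_card, Finset.mul_sum]
    exact Finset.sum_le_sum fun a _ => card_cent_le a Y
  rw [← Y.card_mul_index] at h1
  have h1' : Nat.card (ConjClasses X) * Nat.card Y ≤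
      ∑ y : Y, Nat.card ↥(centralizer ({(y : X)} : Set X)) := by
    refine Nat.le_of_mul_le_mul_left ?_ hm
    calc _ = Nat.card (ConjClasses X) * (Nat.card Y * Y.index) := by ring
      _ ≤ _ := h1
  refine ⟨?_, fun hn => ?_⟩
  · refine Nat.le_of_mul_le_mul_right ?_ hY
    calc _ ≤ ∑ y : Y, Nat.card ↥(centralizer ({(y : X)} : Set X)) := h1'
      _ ≤ ∑ y : Y, Y.index * Nat.card ↥(centralizer ({(y : X)} : Set X) ⊓ Y) :=
          Finset.sum_le_sum fun y _ => card_cent_le _ Y
      _ = _ := by rw [← Finset.mul_sum, ← kcard_mul_card_subgroup]; ring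
  · refine Nat.lt_of_mul_lt_mul_right (a := Nat.card Y) ?_
    refine h1'.trans_lt ?_
    rw [mul_assoc, kcard_mul_card_subgroup, Finset.mul_sum]
    refine Finset.sum_lt_sum (fun y _ => card_cent_le _ Y) ?_
    by_contra hall
    push Not at hall
    refine hn ⟨fun y hy g => ?_⟩
    let C := centralizer ({y} : Set X)
    have heq : Y.relIndex C = Y.index := by
      have h2 : Nat.card ↥(C ⊓ Y) * Y.relIndex C = Nat.card ↥(C ⊓ Y) * Y.index := by
        rw [card_cent_eq_mul, mul_comm]
        exact le_antisymm (card_cent_le y Y) (hall ⟨y, hy⟩ (Finset.mem_univ _))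
      exact Nat.eq_of_mul_eq_mul_left Nat.card_pos h2
    let φ := Subgroup.quotientSubgroupOfEmbeddingOfLE Y (le_top : C ≤ ⊤)
    have hb : Function.Bijective φ :=
      Nat.bijective_iff_injective_and_card φ |>.mpr ⟨φ.injective, by
        show Y.relIndex C = Y.relIndex ⊤
        rw [heq, relIndex_top_right]⟩
    obtain ⟨c, hc⟩ := hb.2 (QuotientGroup.mk ⟨g⁻¹, mem_top _⟩)
    obtain ⟨c, rfl⟩ := QuotientGroup.mk_surjective c
    rw [Subgroup.quotientSubgroupOfEmbeddingOfLE_apply_mk] at hc
    have hd : (c : X)⁻¹ * g⁻¹ ∈ Y := Subgroup.mem_subgroupOf.mp (QuotientGroup.eq.mp hc)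
    have hcy : (c : X) * y = y * c := mem_centralizer_singleton_iff.mp c.2
    have e : g * y * g⁻¹ = ((c : X)⁻¹ * g⁻¹)⁻¹ * ((c : X)⁻¹ * (y * c)) * ((c : X)⁻¹ * g⁻¹) := by group
    rw [e, ← hcy, inv_mul_cancel_left]
    exact mul_mem (mul_mem (inv_mem hd) hy) hd

theorem kcard_le_mul_quotient (N : Subgroup X) [N.Normal] :
    Nat.card (ConjClasses X) ≤ Nat.card (ConjClasses N) * Nat.card (ConjClasses (X ⧸ N)) := by
  refine Nat.le_of_mul_le_mul_right ?_ (Nat.card_pos (α := X))
  let f : X ⧸ N → ℕ := fun q => Nat.card ↥(centralizer ({q} : Set (X ⧸ N)))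
  have hC : ∀ a : X, Nat.card ↥(centralizer ({a} : Set X)) ≤
      Nat.card ↥(centralizer ({a} : Set X) ⊓ N) * f a := by
    intro a
    rw [← card_cent_eq_mul a N]
    refine Nat.mul_le_mul_left _ ?_
    have h := relIndex_ker (K := centralizer ({a} : Set X)) (QuotientGroup.mk' N)
    rw [QuotientGroup.ker_mk'] at h
    rw [h]
    refine Nat.le_of_dvd Nat.card_pos (card_dvd_of_le ?_)
    rintro _ ⟨c, hc, rfl⟩
    rw [mem_centralizer_singleton_iff]
    have := congrArg (QuotientGroup.mk' N) (mem_centralizer_singleton_iff.mp hc)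
    simpa using this
  have key : ∀ (n : N) (q : X ⧸ N),
      (Finset.univ.filter fun a : X => Commute (n : X) a ∧ (a : X ⧸ N) = q).card ≤
        Nat.card ↥(centralizer ({(n : X)} : Set X) ⊓ N) := by
    intro n q
    rw [card_cent_eq_filter]
    rcases Finset.eq_empty_or_nonempty
      (Finset.univ.filter fun a : X => Commute (n : X) a ∧ (a : X ⧸ N) = q) with h | ⟨a₀, ha₀⟩
    · rw [h]; simp
    simp only [Finset.mem_filter, Finset.mem_univ, true_and] at ha₀
    refine Finset.card_le_card_of_injOn (fun a => a₀⁻¹ * a) ?_ (fun a _ b _ h => mul_left_cancel h)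
    intro a ha
    simp only [Finset.coe_filter, Finset.mem_univ, true_and, Set.mem_setOf_eq] at ha ⊢
    exact ⟨QuotientGroup.eq.mp (ha₀.2.trans ha.2.symm), (Commute.inv_right ha₀.1).mul_right ha.1⟩
  calc Nat.card (ConjClasses X) * Nat.card X
      = ∑ a : X, Nat.card ↥(centralizer ({a} : Set X)) := kcard_mul_card
    _ ≤ ∑ a : X, Nat.card ↥(centralizer ({a} : Set X) ⊓ N) * f a :=
        Finset.sum_le_sum fun a _ => hC a
    _ = ∑ a : X, ∑ n : N, (if Commute (n : X) a then f a else 0) := by
        refine Finset.sum_congr rfl fun a _ => ?_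
        rw [card_cent_eq_filter, ← Finset.sum_filter, Finset.sum_const, smul_eq_mul]
        congr 1
        refine Finset.card_bij (fun b hb => ⟨b, (Finset.mem_filter.mp hb).2.1⟩) ?_ ?_ ?_
        · intro b hb; simp only [Finset.mem_filter, Finset.mem_univ, true_and] at hb ⊢; exact hb.2.symm
        · intro b _ c _ h; simpa using congrArg Subtype.val h
        · intro b hb
          simp only [Finset.mem_filter, Finset.mem_univ, true_and] at hb
          exact ⟨b.1, by simp [hb.symm], rfl⟩
    _ = ∑ n : N, ∑ q : X ⧸ N,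
        (Finset.univ.filter fun a : X => Commute (n : X) a ∧ (a : X ⧸ N) = q).card * f q := by
        rw [Finset.sum_comm]
        refine Finset.sum_congr rfl fun n _ => ?_
        rw [← Finset.sum_filter,
          ← Finset.sum_fiberwise (Finset.univ.filter fun a : X => Commute (n : X) a)
            (fun a => (a : X ⧸ N))]
        refine Finset.sum_congr rfl fun q _ => ?_
        rw [Finset.filter_filter, Finset.sum_congr rfl (g := fun _ => f q)
          (fun a ha => by rw [(Finset.mem_filter.mp ha).2.2]), Finset.sum_const, smul_eq_mul]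
    _ ≤ ∑ n : N, ∑ q : X ⧸ N, Nat.card ↥(centralizer ({(n : X)} : Set X) ⊓ N) * f q :=
        Finset.sum_le_sum fun n _ => Finset.sum_le_sum fun q _ => Nat.mul_le_mul_right _ (key n q)
    _ = (Nat.card (ConjClasses N) * Nat.card N) *
        (Nat.card (ConjClasses (X ⧸ N)) * Nat.card (X ⧸ N)) := by
        rw [kcard_mul_card_subgroup, kcard_mul_card, Finset.sum_mul_sum]
    _ = _ := by rw [N.card_eq_card_quotient_mul_card_subgroup]; ring

end Cfsg.Agent.H77
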