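import Cfsg.Agent.S2119

/-!
Automorphisms of `alternatingGroup (Fin n)` preserving three-cycles are conjugations, for every `n ≥ 4`
(the argument of `S2119`, without excluding `n = 6`).
-/

set_option autoImplicit false
open Equiv Equiv.Perm

namespace Cfsg.Agent.H77.AutAlt

open Cfsg.Agent.S2119

theorem conjNormal_injective (n : ℕ) (hn : 4 ≤ n) :
    Function.Injective (MulAut.conjNormal : Equiv.Perm (Fin n) →* MulAut ↥(alternatingGroup (Fin n))) := by
  let A := alternatingGroup (Fin n)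
  have mkc : ∀ a b c : Fin n, a ≠ b → a ≠ c → b ≠ c → cyc a b c ∈ A :=
    fun a b c x y z => (cyc_isThreeCycle a b c x y z).mem_alternatingGroup
  rw [injective_iff_map_eq_one]
  intro g hg
  ext a : 1
  by_contra hne
  rw [one_apply] at hne
  obtain ⟨c, d, hc, hd, hcd⟩ : ∃ c d, (c ≠ a ∧ c ≠ g a) ∧ (d ≠ a ∧ d ≠ g a) ∧ c ≠ d := by
    have : 1 < ((Finset.univ : Finset (Fin n)) \ {a, g a}).card := by
      rw [Finset.card_sdiff, Finset.inter_univ, Finset.card_univ, Fintype.card_fin]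
      have := (Finset.card_insert_le a ({g a} : Finset (Fin n)))
      simp at this
      omega
    obtain ⟨c, hc, d, hd, hcd⟩ := Finset.one_lt_card.1 this
    simp only [Finset.mem_sdiff, Finset.mem_univ, Finset.mem_insert, Finset.mem_singleton, true_and,
      not_or] at hc hd
    exact ⟨c, d, hc, hd, hcd⟩
  have h := DFunLike.congr_fun hg ⟨cyc a c d, mkc a c d hc.1.symm hd.1.symm hcd⟩
  have h' := congrArg Subtype.val h
  rw [MulAut.conjNormal_apply, MulAut.one_apply] at h'
  simp only [cyc_conj] at h'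
  obtain ⟨-, -, -, fx⟩ := cyc_apply a c d hc.1.symm hd.1.symm hcd
  obtain ⟨ga, -, -, -⟩ := cyc_apply (g a) (g c) (g d) (g.injective.ne hc.1.symm)
    (g.injective.ne hd.1.symm) (g.injective.ne hcd)
  have h'' := DFunLike.congr_fun h' (g a)
  rw [ga, fx (g a) hne hc.2.symm hd.2.symm] at h''
  exact hc.1 (g.injective h'')


theorem exists_conjNormal (n : ℕ) (hn : 4 ≤ n) (φ : MulAut ↥(alternatingGroup (Fin n)))
    (h3 : ∀ x : alternatingGroup (Fin n), (x : Perm (Fin n)).IsThreeCycle → (φ x : Perm (Fin n)).IsThreeCycle) :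
    ∃ g : Perm (Fin n), MulAut.conjNormal g = φ := by
  let A := alternatingGroup (Fin n)
  have mkc : ∀ a b c : Fin n, a ≠ b → a ≠ c → b ≠ c → cyc a b c ∈ A :=
    fun a b c x y z => (cyc_isThreeCycle a b c x y z).mem_alternatingGroup
  let o : Fin n := ⟨0, by omega⟩
  let l : Fin n := ⟨1, by omega⟩
  let t : Fin n := ⟨2, by omega⟩
  have hol : o ≠ l := by simp [o, l, Fin.ext_iff]
  have hot : o ≠ t := by simp [o, t, Fin.ext_iff]
  have hlt : l ≠ t := by simp [l, t, Fin.ext_iff]
  let J := {j : Fin n // j ≠ o ∧ j ≠ l}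
  let x : J → A := fun j => ⟨cyc o l j, mkc o l j hol j.2.1.symm j.2.2.symm⟩
  let y : J → Perm (Fin n) := fun j => (φ (x j) : Perm (Fin n))
  have hy3 : ∀ j, (y j).IsThreeCycle := fun j =>
    h3 (x j) (cyc_isThreeCycle o l j hol j.2.1.symm j.2.2.symm)
  have hy2 : ∀ i j : J, i ≠ j → orderOf (y i * y j) = 2 := by
    intro i j hij
    simp only [y, ← Subgroup.coe_mul, ← map_mul, Subgroup.orderOf_coe, MulEquiv.orderOf_eq]
    rw [← Subgroup.orderOf_coe, Subgroup.coe_mul]
    exact orderOf_cyc_mul o l i j hol i.2.1.symm i.2.2.symm j.2.1.symm j.2.2.symm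
      (fun h => hij (Subtype.ext h))
  obtain ⟨s, hs⟩ : ∃ s : Fin n, s ≠ o ∧ s ≠ l ∧ s ≠ t := by
    refine ⟨⟨3, by omega⟩, ?_⟩
    simp [o, l, t, Fin.ext_iff]
  let j0 : J := ⟨t, hot.symm, hlt.symm⟩
  let j1 : J := ⟨s, hs.1, hs.2.1⟩
  have hj01 : j0 ≠ j1 := fun h => hs.2.2 (congrArg Subtype.val h).symm
  obtain ⟨a, d, ha, hd, hy1, hda, hdb⟩ := share_arc (hy3 j0) (hy3 j1) (hy2 j0 j1 hj01)
  obtain ⟨q1, q2, q3, q4, q5, q6⟩ := eq_cyc (hy3 j0) a ha
  have form : ∀ j : J, ∃ e, y j = cyc a (y j0 a) e ∧ e ≠ a ∧ e ≠ y j0 a := by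
    intro j
    by_cases h0 : j = j0
    · exact ⟨y j0 (y j0 a), by rw [h0]; exact q6, q2.symm, q3.symm⟩
    by_cases h1 : j = j1
    · exact ⟨d, by rw [h1]; exact hy1, hda, hdb⟩
    obtain ⟨f, e, hf, he, hye, hef, heb⟩ := share_arc (hy3 j0) (hy3 j) (hy2 j0 j (Ne.symm h0))
    by_cases hfa : f = a
    · exact ⟨e, by rw [← hfa]; exact hye, hfa ▸ hef, hfa ▸ heb⟩
    exfalso
    obtain ⟨g, e', hg, he', hye', heg', heb'⟩ := share_arc (hy3 j1) (hy3 j) (hy2 j1 j (Ne.symm h1))
    -- values of the three permutations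
    obtain ⟨u1, u2, u3, u4⟩ := cyc_apply a (y j0 a) d q1 hda.symm hdb.symm
    rw [← hy1] at u1 u2 u3 u4
    have hfb : f ≠ y j0 f := (Ne.symm hf)
    obtain ⟨w1, w2, w3, w4⟩ := cyc_apply f (y j0 f) e hfb hef.symm heb.symm
    rw [← hye] at w1 w2 w3 w4
    obtain ⟨z1, z2, z3, z4⟩ := cyc_apply g (y j1 g) e' (Ne.symm hg) heg'.symm heb'.symm
    rw [← hye'] at z1 z2 z3 z4
    have hfin : f = a ∨ f = y j0 a ∨ f = y j0 (y j0 a) := by
      by_contra hh
      push Not at hh
      exact hf (q5 f hh.1 hh.2.1 hh.2.2)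
    have hgin : g = a ∨ g = y j0 a ∨ g = d := by
      by_contra hh
      push Not at hh
      exact hg (u4 g hh.1 hh.2.1 hh.2.2)
    rcases hfin with r | r | r <;> rcases hgin with r' | r' | r' <;> subst r' <;>
      grind
  choose e he hea heb using form
  let gfun : Fin n → Fin n := fun j =>
    if h : j = o then a else if h' : j = l then y j0 a else e ⟨j, h, h'⟩
  have einj : Function.Injective e := by
    intro i j hij
    have : y i = y j := by rw [he i, he j, hij]
    have hx : x i = x j := φ.injective (Subtype.ext this)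
    have hx' : cyc o l (i : Fin n) = cyc o l (j : Fin n) := congrArg Subtype.val hx
    have := DFunLike.congr_fun hx' l
    rw [(cyc_apply o l i hol i.2.1.symm i.2.2.symm).2.1,
      (cyc_apply o l j hol j.2.1.symm j.2.2.symm).2.1] at this
    exact Subtype.ext this
  have ginj : Function.Injective gfun := by
    intro i j hij
    simp only [gfun] at hij
    split_ifs at hij with a1 a2 a3 a4 a5 a6 <;>
      first
        | (subst_vars; rfl)
        | exact absurd hij q1
        | exact absurd hij q1.symm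
        | exact absurd hij (hea _).symm
        | exact absurd hij (hea _)
        | exact absurd hij (heb _).symm
        | exact absurd hij (heb _)
        | exact congrArg Subtype.val (einj hij)
  let g : Perm (Fin n) := Equiv.ofBijective gfun (Finite.injective_iff_bijective.1 ginj)
  refine ⟨g, ?_⟩
  let H : Subgroup A := MonoidHom.eqLocus (MulAut.conjNormal g : MulAut A).toMonoidHom φ.toMonoidHom
  have hH : ∀ j, j ≠ o → j ≠ l → cyc o l j ∈ H.map A.subtype := by
    intro j jo jl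
    refine ⟨x ⟨j, jo, jl⟩, ?_, rfl⟩
    refine Subtype.ext ?_
    change ((MulAut.conjNormal g : MulAut A) (x ⟨j, jo, jl⟩) : Perm (Fin n)) = y ⟨j, jo, jl⟩
    rw [MulAut.conjNormal_apply, cyc_conj, he]
    simp [g, gfun, jo, jl, hol.symm]
  have htop : A ≤ H.map A.subtype := cyc_mem hol _ hH
  ext z : 1
  obtain ⟨w, hw, hwz⟩ := htop z.2
  rw [Subgroup.coe_subtype, SetLike.coe_eq_coe] at hwz
  rw [← hwz]
  exact hw


end Cfsg.Agent.H77.AutAlt
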