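import Mathlib
import Cfsg.Agent.S0713

/-!
# Tools for Jordan's transitivity bound: small supports in multiply transitive groups
-/

set_option autoImplicit false
set_option linter.style.haveILetI false

namespace Cfsg.Agent.H77

open Equiv Equiv.Perm MulAction
open scoped commutatorElement

section Small

variable {α : Type*} [Fintype α] [DecidableEq α]

/-- Multiple transitivity moves a short injective list to any other. -/
theorem exists_mem_map {G : Subgroup (Perm α)} {m n : ℕ} (hG : IsMultiplyPretransitive G α m)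
    (hnm : n ≤ m) (hm : m ≤ Fintype.card α) {x y : Fin n → α} (hx : Function.Injective x)
    (hy : Function.Injective y) : ∃ g ∈ G, ∀ i, g (x i) = y i := by
  haveI := hG
  haveI : IsMultiplyPretransitive G α n :=
    MulAction.isMultiplyPretransitive_of_le hnm (by rw [Nat.card_eq_fintype_card]; exact hm)
  obtain ⟨g, hg⟩ := exists_smul_eq G (⟨x, hx⟩ : Fin n ↪ α) ⟨y, hy⟩
  exact ⟨g, g.2, fun i => congrFun (congrArg DFunLike.coe hg) i⟩

/-- A multiply transitive group with a double transposition contains the alternating group. -/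
theorem alternatingGroup_le_of_double {G : Subgroup (Perm α)} (hG : IsMultiplyPretransitive G α 4)
    (hα : 5 ≤ Fintype.card α) {a b c d : α} (hab : a ≠ b) (hac : a ≠ c) (had : a ≠ d) (hbc : b ≠ c)
    (hbd : b ≠ d) (hcd : c ≠ d) (hmem : swap a b * swap c d ∈ G) : alternatingGroup α ≤ G := by
  obtain ⟨e, he⟩ : ∃ e, e ∉ ({a, b, c, d} : Finset α) := by
    by_contra h
    push Not at h
    have h1 := Finset.card_le_card (fun x (_ : x ∈ (Finset.univ : Finset α)) => h x)
    have h2 := Finset.card_le_four (a := a) (b := b) (c := c) (d := d)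
    rw [Finset.card_univ] at h1
    omega
  simp only [Finset.mem_insert, Finset.mem_singleton, not_or] at he
  obtain ⟨hea, heb, hec, hed⟩ := he
  obtain ⟨h, hh, hmap⟩ := exists_mem_map (x := ![a, b, c, d]) (y := ![a, b, c, e]) hG le_rfl (by omega)
    (by intro i j hij; fin_cases i <;> fin_cases j <;> simp_all)
    (by intro i j hij; fin_cases i <;> fin_cases j <;> simp_all)
  have ha : h a = a := hmap 0
  have hb : h b = b := hmap 1
  have hc : h c = c := hmap 2
  have hd : h d = e := hmap 3
  have h2 : swap a b * swap c e ∈ G := by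
    have h' : h * (swap a b * swap c d) * h⁻¹ = swap a b * swap c e := by
      rw [show h * (swap a b * swap c d) * h⁻¹ = (h * swap a b * h⁻¹) * (h * swap c d * h⁻¹) by group,
        ← swap_apply_apply, ← swap_apply_apply, ha, hb, hc, hd]
    rw [← h']
    exact mul_mem (mul_mem hh hmem) (inv_mem hh)
  have h3 : swap c d * swap c e ∈ G := by
    have h' : (swap a b * swap c d)⁻¹ * (swap a b * swap c e) = swap c d * swap c e := by
      rw [mul_inv_rev, swap_inv, swap_inv, mul_assoc, ← mul_assoc (swap a b) (swap a b), swap_mul_self,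
        one_mul]
    rw [← h']
    exact mul_mem (inv_mem hmem) h2
  haveI := hG
  haveI : IsMultiplyPretransitive G α 2 :=
    MulAction.isMultiplyPretransitive_of_le (n := 4) (by norm_num)
      (by rw [Nat.card_eq_fintype_card]; omega)
  exact alternatingGroup_le_of_isPreprimitive_of_isThreeCycle_mem
    (isPreprimitive_of_is_two_pretransitive inferInstance)
    (isThreeCycle_swap_mul_swap_same hcd (Ne.symm hec) (Ne.symm hed)) h3

end Small

section Nine

/-- The first model element. -/
def uNine : Perm (Fin 9) := swap 0 1 * swap 1 2 * (swap 3 4 * swap 4 5)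

/-- The second model element. -/
def vNine (e f : Fin 9) : Perm (Fin 9) := swap 0 2 * swap 2 e * (swap 3 4 * swap 4 f)

/-- A word in the two model elements. -/
def wNine (e f : Fin 9) : Perm (Fin 9) :=
  if e = 1 ∨ (e = 5 ∧ f = 1) then uNine * vNine e f
  else if f = 5 then uNine * uNine * vNine e f
  else uNine * vNine e f * (uNine * vNine e f)

set_option maxRecDepth 100000 in
/-- The word has small support. -/
theorem wNine_small : ∀ e ∈ ([1, 5, 6, 7, 8] : List (Fin 9)), ∀ f ∈ ([1, 5, 6, 7, 8] : List (Fin 9)),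
    e ≠ f →
    (Finset.univ.filter fun i => wNine e f i ≠ i).card = 3 ∨
    ((Finset.univ.filter fun i => wNine e f i ≠ i).card = 4 ∧ ∀ i, wNine e f (wNine e f i) = i) ∨
    ((Finset.univ.filter fun i => wNine e f i ≠ i).card = 5 ∧
      ∀ i, wNine e f (wNine e f (wNine e f (wNine e f (wNine e f i)))) = i) := by
  decide

/-- A 4-transitive group of degree 9 with an element of type `3^2` contains the alternating group. -/
theorem alternatingGroup_le_of_nine {α : Type*} [Fintype α] [DecidableEq α] (hα : Fintype.card α = 9)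
    {G : Subgroup (Perm α)} (hG : IsMultiplyPretransitive G α 4) {u : Perm α} (hu : u ∈ G)
    (hu3 : u ^ 3 = 1) (hsupp : u.support.card = 6) : alternatingGroup α ≤ G := by
  haveI := hG
  haveI : IsMultiplyPretransitive G α 2 :=
    MulAction.isMultiplyPretransitive_of_le (n := 4) (by norm_num)
      (by rw [Nat.card_eq_fintype_card]; omega)
  have hprim : IsPreprimitive G α := isPreprimitive_of_is_two_pretransitive inferInstance
  have hu3' : ∀ y, u (u (u y)) = y := fun y => by
    calc u (u (u y)) = (u ^ 3) y := rfl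
      _ = y := by rw [hu3, one_apply]
  -- labels
  obtain ⟨a, ha⟩ := Finset.card_pos.1 (by omega : 0 < u.support.card)
  rw [mem_support] at ha
  obtain ⟨b, hb, hb'⟩ : ∃ b ∈ u.support, b ∉ ({a, u a, u (u a)} : Finset α) := by
    apply Finset.exists_mem_notMem_of_card_lt_card
    exact lt_of_le_of_lt Finset.card_le_three (by omega)
  rw [mem_support] at hb
  simp only [Finset.mem_insert, Finset.mem_singleton, not_or] at hb'
  obtain ⟨hba, hba1, hba2⟩ := hb'
  have hmove : ∀ y, u y ≠ y → u (u y) ≠ y := fun y hy h => hy (by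
    have := hu3' y; rw [h] at this; exact this)
  have e1 : ∀ y z, u y = u z ↔ y = z := fun y z => u.injective.eq_iff
  have hrest : (u.supportᶜ).card = 3 := by
    rw [Finset.card_compl, hsupp, hα]
  obtain ⟨c₁, c₂, c₃, h12, h13, h23, hc⟩ := Finset.card_eq_three.1 hrest
  have hfix : ∀ c ∈ ({c₁, c₂, c₃} : Finset α), u c = c := fun c hcm => by
    rw [← hc, Finset.mem_compl, notMem_support] at hcm; exact hcm
  have hf1 : u c₁ = c₁ := hfix _ (by simp)
  have hf2 : u c₂ = c₂ := hfix _ (by simp)
  have hf3 : u c₃ = c₃ := hfix _ (by simp)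
  let lab : Fin 9 → α := ![a, u a, u (u a), b, u b, u (u b), c₁, c₂, c₃]
  have hinj : Function.Injective lab := by
    have h1 := hmove a ha
    have h2 := hmove b hb
    have h3 : ∀ c, u c = c → a ≠ c ∧ u a ≠ c ∧ u (u a) ≠ c ∧ b ≠ c ∧ u b ≠ c ∧ u (u b) ≠ c := by
      intro c hc'
      refine ⟨fun h => ha (h ▸ hc'), fun h => ha ?_, fun h => ha ?_, fun h => hb (h ▸ hc'), fun h => hb ?_,
        fun h => hb ?_⟩
      · apply u.injective; rw [h, hc']
      · have := hu3' a; rw [h, hc'] at this; rw [← this, hc']
      · apply u.injective; rw [h, hc']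
      · have := hu3' b; rw [h, hc'] at this; rw [← this, hc']
    obtain ⟨p1, p2, p3, p4, p5, p6⟩ := h3 c₁ hf1
    obtain ⟨q1, q2, q3, q4, q5, q6⟩ := h3 c₂ hf2
    obtain ⟨r1, r2, r3, r4, r5, r6⟩ := h3 c₃ hf3
    have k1 : u b ≠ a := fun h => hba2 (by rw [← hu3' b, h])
    have k2 : u (u b) ≠ a := fun h => hba1 (by rw [← hu3' b, h])
    have k3 : u b ≠ u a := fun h => hba (u.injective h)
    have k4 : u (u b) ≠ u a := fun h => k1 (u.injective h)
    have k5 : u b ≠ u (u a) := fun h => hba1 (u.injective h)
    have k6 : u (u b) ≠ u (u a) := fun h => k3 (u.injective h)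
    have k7 : u (u a) ≠ u a := fun h => ha (u.injective h)
    have k8 : u (u b) ≠ u b := fun h => hb (u.injective h)
    intro i j hij
    fin_cases i <;> fin_cases j <;>
      first
        | rfl
        | exact absurd hij (by first | assumption | (apply Ne.symm; assumption))
  have hbij : Function.Bijective lab :=
    (Fintype.bijective_iff_injective_and_card lab).2 ⟨hinj, by rw [hα]; rfl⟩
  let ε : Fin 9 ≃ α := Equiv.ofBijective lab hbij
  have hε : ∀ i, ε i = lab i := fun i => rfl
  let φ : Perm (Fin 9) ≃* Perm α := ε.permCongrHom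
  have hφ : ∀ (σ : Perm (Fin 9)) (i : Fin 9), φ σ (lab i) = lab (σ i) := by
    intro σ i
    show ε (σ (ε.symm (ε i))) = ε (σ i)
    rw [Equiv.symm_apply_apply]
  have hφu : φ uNine = u := by
    ext y
    obtain ⟨i, rfl⟩ := hbij.2 y
    rw [hφ]
    fin_cases i <;>
      first
        | rfl
        | exact (hu3' a).symm
        | exact (hu3' b).symm
        | exact hf1.symm
        | exact hf2.symm
        | exact hf3.symm
  -- the conjugating element
  obtain ⟨g, hg, hmap⟩ := exists_mem_map (x := fun i => lab ((![0, 1, 3, 4] : Fin 4 → Fin 9) i))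
    (y := fun i => lab ((![0, 2, 3, 4] : Fin 4 → Fin 9) i)) hG le_rfl (by omega)
    (hinj.comp (by decide)) (hinj.comp (by decide))
  have g0 : g (lab 0) = lab 0 := hmap 0
  have g1 : g (lab 1) = lab 2 := hmap 1
  have g3 : g (lab 3) = lab 3 := hmap 2
  have g4 : g (lab 4) = lab 4 := hmap 3
  obtain ⟨e, he⟩ := hbij.2 (g (lab 2))
  obtain ⟨f, hf⟩ := hbij.2 (g (lab 5))
  have hmemL : ∀ (x : Fin 9) (i : Fin 9), lab x = g (lab i) → i = 2 ∨ i = 5 →
      x ∈ ([1, 5, 6, 7, 8] : List (Fin 9)) := by
    intro x i hx hi
    have hne : x ≠ 0 ∧ x ≠ 2 ∧ x ≠ 3 ∧ x ≠ 4 := by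
      refine ⟨?_, ?_, ?_, ?_⟩ <;> rintro rfl
      · rw [← g0] at hx
        rcases hi with rfl | rfl <;> exact absurd (hinj (g.injective hx)) (by decide)
      · rw [← g1] at hx
        rcases hi with rfl | rfl <;> exact absurd (hinj (g.injective hx)) (by decide)
      · rw [← g3] at hx
        rcases hi with rfl | rfl <;> exact absurd (hinj (g.injective hx)) (by decide)
      · rw [← g4] at hx
        rcases hi with rfl | rfl <;> exact absurd (hinj (g.injective hx)) (by decide)
    revert hne
    revert x
    intro x _ hne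
    fin_cases x <;> simp_all
  have hef : e ≠ f := fun h => by
    rw [h] at he
    exact absurd (hinj (g.injective (he.symm.trans hf))) (by decide)
  have hφv : φ (vNine e f) = g * u * g⁻¹ := by
    have hv : vNine e f = swap 0 2 * swap 2 e * (swap 3 4 * swap 4 f) := rfl
    have hu' : uNine = swap 0 1 * swap 1 2 * (swap 3 4 * swap 4 5) := rfl
    have hsw : ∀ i j, φ (swap i j) = swap (lab i) (lab j) := fun i j => by
      show ε.permCongr (swap i j) = _
      exact Equiv.symm_trans_swap_trans i j ε
    rw [← hφu, hv, hu']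
    simp only [map_mul, hsw]
    rw [show ∀ A B C D : Perm α, g * (A * B * (C * D)) * g⁻¹ =
        (g * A * g⁻¹) * (g * B * g⁻¹) * ((g * C * g⁻¹) * (g * D * g⁻¹)) from fun _ _ _ _ => by group,
      ← swap_apply_apply, ← swap_apply_apply, ← swap_apply_apply, ← swap_apply_apply, g0, g1, g3, g4,
      he, hf]
  have hwG : φ (wNine e f) ∈ G := by
    have h1 : φ uNine ∈ G := by rw [hφu]; exact hu
    have h2 : φ (vNine e f) ∈ G := by rw [hφv]; exact mul_mem (mul_mem hg hu) (inv_mem hg)
    unfold wNine
    split_ifs <;> simp only [map_mul] <;>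
      first
        | exact mul_mem h1 h2
        | exact mul_mem (mul_mem h1 h1) h2
        | exact mul_mem (mul_mem h1 h2) (mul_mem h1 h2)
  set w := φ (wNine e f) with hw
  have hcard : w.support.card = (Finset.univ.filter fun i => wNine e f i ≠ i).card := by
    rw [← Finset.card_image_of_injective _ hinj]
    congr 1
    ext y
    obtain ⟨i, rfl⟩ := hbij.2 y
    simp [hw, hφ, hinj.eq_iff]
  have hwapp : ∀ i, w (lab i) = lab (wNine e f i) := fun i => hφ _ i
  rcases wNine_small e (hmemL e 2 he (Or.inl rfl)) f (hmemL f 5 hf (Or.inr rfl)) hef with h | ⟨h, h'⟩ | ⟨h, h'⟩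
  · exact alternatingGroup_le_of_isPreprimitive_of_isThreeCycle_mem hprim
      (card_support_eq_three_iff.1 (hcard.trans h)) hwG
  · have hinv : ∀ y, w (w y) = y := fun y => by
      obtain ⟨i, rfl⟩ := hbij.2 y
      rw [hwapp, hwapp, h']
    have hc4 : w.support.card = 4 := hcard.trans h
    obtain ⟨x, hx⟩ := Finset.card_pos.1 (by omega : 0 < w.support.card)
    obtain ⟨z, hz, hz'⟩ : ∃ z ∈ w.support, z ∉ ({x, w x} : Finset α) :=
      Finset.exists_mem_notMem_of_card_lt_card (lt_of_le_of_lt Finset.card_le_two (by omega))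
    rw [mem_support] at hx hz
    simp only [Finset.mem_insert, Finset.mem_singleton, not_or] at hz'
    obtain ⟨hzx, hzwx⟩ := hz'
    have hwz : w z ≠ x := fun e => hzwx (by rw [← e, hinv])
    have hwzwx : w z ≠ w x := fun e => hzx (w.injective e)
    have hsub : w.support = {x, w x, z, w z} := by
      refine (Finset.eq_of_subset_of_card_le (fun y hy => ?_) ?_).symm
      · simp only [Finset.mem_insert, Finset.mem_singleton] at hy
        rcases hy with rfl | rfl | rfl | rfl
        · exact mem_support.2 hx
        · exact mem_support.2 (fun e => hx (w.injective e))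
        · exact mem_support.2 hz
        · exact mem_support.2 (fun e => hz (w.injective e))
      · rw [hc4, Finset.card_eq_four.2 ⟨x, w x, z, w z, Ne.symm hx, Ne.symm hzx, Ne.symm hwz, Ne.symm hzwx,
          Ne.symm hwzwx, Ne.symm hz, rfl⟩]
    have hweq : w = swap x (w x) * swap z (w z) := by
      ext y
      rw [mul_apply]
      by_cases hy : y ∈ w.support
      · rw [hsub] at hy
        simp only [Finset.mem_insert, Finset.mem_singleton] at hy
        rcases hy with rfl | rfl | rfl | rfl
        · rw [swap_apply_of_ne_of_ne (Ne.symm hzx) (Ne.symm hwz), swap_apply_left]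
        · rw [swap_apply_of_ne_of_ne (Ne.symm hzwx) (Ne.symm hwzwx), swap_apply_right, hinv]
        · rw [swap_apply_left, swap_apply_of_ne_of_ne hwz hwzwx]
        · rw [swap_apply_right, swap_apply_of_ne_of_ne hzx hzwx, hinv]
      · rw [hsub] at hy
        simp only [Finset.mem_insert, Finset.mem_singleton, not_or] at hy
        rw [swap_apply_of_ne_of_ne hy.2.2.1 hy.2.2.2, swap_apply_of_ne_of_ne hy.1 hy.2.1]
        by_contra hne
        have h5 : y ∈ w.support := mem_support.2 hne
        rw [hsub] at h5
        simp only [Finset.mem_insert, Finset.mem_singleton] at h5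
        rcases h5 with h5 | h5 | h5 | h5
        · exact hy.1 h5
        · exact hy.2.1 h5
        · exact hy.2.2.1 h5
        · exact hy.2.2.2 h5
    rw [hweq] at hwG
    exact alternatingGroup_le_of_double hG (by omega) (Ne.symm hx) (Ne.symm hzx) (Ne.symm hwz)
      (Ne.symm hzwx) (Ne.symm hwzwx) (Ne.symm hz) hwG
  · have hc5 : w.support.card = 5 := hcard.trans h
    have hpow : w ^ 5 = 1 := by
      ext y
      obtain ⟨i, rfl⟩ := hbij.2 y
      show w (w (w (w (w (lab i))))) = lab i
      rw [hwapp, hwapp, hwapp, hwapp, hwapp, h']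
    have hw1 : w ≠ 1 := fun e => by rw [e, support_one] at hc5; simp at hc5
    haveI := Fact.mk (show Nat.Prime 5 by norm_num)
    have ho : orderOf w = 5 := orderOf_eq_prime hpow hw1
    have hcyc : w.IsCycle := isCycle_of_prime_order (by rw [ho]; norm_num) (by rw [ho, hc5]; norm_num)
    exact Cfsg.Agent.S0713.result G hprim (p := 5) (by norm_num) (by omega) (by omega) hcyc hc5 hwG

end Nine

end Cfsg.Agent.H77
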