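import Mathlib
import Cfsg.Agent.H77.JordanTools
import Cfsg.Agent.S0713

/-!
# Small supports in 5-fold transitive groups

A 5-fold transitive group of degree `n` with a nontrivial element moving fewer than half of the points
contains the alternating group (Bochert), by averaging the support of `[x, x^h]`.
-/

set_option autoImplicit false
set_option linter.style.haveILetI false
set_option linter.unusedSectionVars false

namespace Cfsg.Agent.H77.Bochert

open Equiv Equiv.Perm MulAction Finset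

variable {α : Type*} [Fintype α] [DecidableEq α] {H : Subgroup (Perm α)}

/-- The elements of `H` mapping `u, v, w` to `a, b, c`. -/
noncomputable def fam (H : Subgroup (Perm α)) (u v w a b c : α) : Finset (Perm α) := by
  classical exact Finset.univ.filter fun h => h ∈ H ∧ h u = a ∧ h v = b ∧ h w = c

theorem mem_fam {u v w a b c : α} {h : Perm α} :
    h ∈ fam H u v w a b c ↔ h ∈ H ∧ h u = a ∧ h v = b ∧ h w = c := by
  classical simp [fam]

variable (h5 : IsMultiplyPretransitive H α 5) (hn : 5 ≤ Fintype.card α)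

include h5 hn in
/-- The number of elements with five prescribed values does not depend on the last two. -/
theorem fibre_const {u v w a b c s t s' t' y z y' z' : α}
    (hu : u ≠ v ∧ u ≠ w ∧ v ≠ w) (ha : a ≠ b ∧ a ≠ c ∧ b ≠ c)
    (hs : s ∉ ({u, v, w} : Finset α) ∧ t ∉ ({u, v, w} : Finset α) ∧ s ≠ t)
    (hs' : s' ∉ ({u, v, w} : Finset α) ∧ t' ∉ ({u, v, w} : Finset α) ∧ s' ≠ t')
    (hy : y ∉ ({a, b, c} : Finset α) ∧ z ∉ ({a, b, c} : Finset α) ∧ y ≠ z)
    (hy' : y' ∉ ({a, b, c} : Finset α) ∧ z' ∉ ({a, b, c} : Finset α) ∧ y' ≠ z') :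
    ((fam H u v w a b c).filter fun h => h s = y ∧ h t = z).card =
      ((fam H u v w a b c).filter fun h => h s' = y' ∧ h t' = z').card := by
  simp only [mem_insert, mem_singleton, not_or] at hs hs' hy hy'
  have hinj : ∀ (a b c d e : α), a ≠ b → a ≠ c → a ≠ d → a ≠ e → b ≠ c → b ≠ d → b ≠ e → c ≠ d →
      c ≠ e → d ≠ e → Function.Injective ![a, b, c, d, e] := by
    intro a b c d e h1 h2 h3 h4 h5 h6 h7 h8 h9 h10 i j hij
    fin_cases i <;> fin_cases j <;>
      first
        | rfl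
        | exact absurd hij (by first | assumption | (apply Ne.symm; assumption))
  obtain ⟨⟨s1, s2, s3⟩, ⟨t1, t2, t3⟩, hst⟩ := hs
  obtain ⟨⟨s1', s2', s3'⟩, ⟨t1', t2', t3'⟩, hst'⟩ := hs'
  obtain ⟨⟨y1, y2, y3⟩, ⟨z1, z2, z3⟩, hyz⟩ := hy
  obtain ⟨⟨y1', y2', y3'⟩, ⟨z1', z2', z3'⟩, hyz'⟩ := hy'
  have i1 := hinj u v w s t hu.1 hu.2.1 (Ne.symm s1) (Ne.symm t1) hu.2.2 (Ne.symm s2) (Ne.symm t2)
    (Ne.symm s3) (Ne.symm t3) hst
  have i2 := hinj u v w s' t' hu.1 hu.2.1 (Ne.symm s1') (Ne.symm t1') hu.2.2 (Ne.symm s2') (Ne.symm t2')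
    (Ne.symm s3') (Ne.symm t3') hst'
  have i3 := hinj a b c y z ha.1 ha.2.1 (Ne.symm y1) (Ne.symm z1) ha.2.2 (Ne.symm y2) (Ne.symm z2)
    (Ne.symm y3) (Ne.symm z3) hyz
  have i4 := hinj a b c y' z' ha.1 ha.2.1 (Ne.symm y1') (Ne.symm z1') ha.2.2 (Ne.symm y2') (Ne.symm z2')
    (Ne.symm y3') (Ne.symm z3') hyz'
  obtain ⟨g, hg, hgm⟩ := exists_mem_map h5 le_rfl hn i2 i1
  obtain ⟨k, hk, hkm⟩ := exists_mem_map h5 le_rfl hn i3 i4
  have g1 : g u = u := hgm 0
  have g2 : g v = v := hgm 1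
  have g3 : g w = w := hgm 2
  have g4 : g s' = s := hgm 3
  have g5 : g t' = t := hgm 4
  have k1 : k a = a := hkm 0
  have k2 : k b = b := hkm 1
  have k3 : k c = c := hkm 2
  have k4 : k y = y' := hkm 3
  have k5 : k z = z' := hkm 4
  refine card_bij (fun h _ => k * h * g) ?_ (fun h _ h' _ e => mul_left_cancel (mul_right_cancel e)) ?_
  · intro h hh
    simp only [mem_filter, mem_fam] at hh ⊢
    obtain ⟨⟨hH, hu1, hv1, hw1⟩, hs1, ht1⟩ := hh
    refine ⟨⟨mul_mem (mul_mem hk hH) hg, ?_, ?_, ?_⟩, ?_, ?_⟩ <;> simp [g1, g2, g3, g4, g5, hu1, hv1, hw1, hs1, ht1, k1, k2, k3, k4, k5]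
  · intro h hh
    refine ⟨k⁻¹ * h * g⁻¹, ?_, by group⟩
    simp only [mem_filter, mem_fam] at hh ⊢
    obtain ⟨⟨hH, hu1, hv1, hw1⟩, hs1, ht1⟩ := hh
    have G1 : g⁻¹ u = u := by rw [inv_eq_iff_eq, g1]
    have G2 : g⁻¹ v = v := by rw [inv_eq_iff_eq, g2]
    have G3 : g⁻¹ w = w := by rw [inv_eq_iff_eq, g3]
    have G4 : g⁻¹ s = s' := by rw [inv_eq_iff_eq, g4]
    have G5 : g⁻¹ t = t' := by rw [inv_eq_iff_eq, g5]
    have K1 : k⁻¹ a = a := by rw [inv_eq_iff_eq, k1]
    have K2 : k⁻¹ b = b := by rw [inv_eq_iff_eq, k2]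
    have K3 : k⁻¹ c = c := by rw [inv_eq_iff_eq, k3]
    have K4 : k⁻¹ y' = y := by rw [inv_eq_iff_eq, k4]
    have K5 : k⁻¹ z' = z := by rw [inv_eq_iff_eq, k5]
    refine ⟨⟨mul_mem (mul_mem (inv_mem hk) hH) (inv_mem hg), ?_, ?_, ?_⟩, ?_, ?_⟩ <;>
      simp only [mul_apply, G1, G2, G3, G4, G5, hu1, hv1, hw1, hs1, ht1, K1, K2, K3, K4, K5]

/-- Ordered pairs with the first entry in `A`. -/
theorem card_pairs (A T : Finset α) (hA : A ⊆ T) :
    ((A ×ˢ T).filter fun q => q.1 ≠ q.2).card = A.card * (T.card - 1) := by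
  have h : ((A ×ˢ T).filter fun q => q.1 ≠ q.2) = A.biUnion (fun a => ({a} : Finset α) ×ˢ T.erase a) := by
    ext ⟨a, b⟩
    simp only [mem_filter, mem_product, mem_biUnion, mem_singleton, mem_erase]
    constructor
    · rintro ⟨⟨ha, hb⟩, hne⟩; exact ⟨a, ha, rfl, Ne.symm hne, hb⟩
    · rintro ⟨a', ha, rfl, hne, hb⟩; exact ⟨⟨ha, hb⟩, Ne.symm hne⟩
  rw [h, card_biUnion]
  · rw [sum_congr rfl (fun a ha => ?_), sum_const, smul_eq_mul]
    rw [card_product, card_singleton, one_mul, card_erase_of_mem (hA ha)]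
  · intro a _ b _ hab
    rw [Function.onFun, disjoint_left]
    rintro ⟨p, q⟩ hp hq
    simp only [mem_product, mem_singleton] at hp hq
    exact hab (hp.1.symm.trans hq.1)

/-- Data for counting. -/
structure Ctx (H : Subgroup (Perm α)) (u v w a b c : α) (M N : ℕ) : Prop where
  src : ∀ s t : α, s ∉ ({u, v, w} : Finset α) → t ∉ ({u, v, w} : Finset α) → s ≠ t →
    ∀ Q : Finset (α × α), (∀ q ∈ Q, q.1 ∉ ({a, b, c} : Finset α) ∧ q.2 ∉ ({a, b, c} : Finset α) ∧ q.1 ≠ q.2) →
      ((fam H u v w a b c).filter fun h => (h s, h t) ∈ Q).card = Q.card * N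
  tgt : ∀ y z : α, y ∉ ({a, b, c} : Finset α) → z ∉ ({a, b, c} : Finset α) → y ≠ z →
    ∀ Q : Finset (α × α), (∀ q ∈ Q, q.1 ∉ ({u, v, w} : Finset α) ∧ q.2 ∉ ({u, v, w} : Finset α) ∧ q.1 ≠ q.2) →
      ((fam H u v w a b c).filter fun h => (h⁻¹ y, h⁻¹ z) ∈ Q).card = Q.card * N
  deg : M + 3 = Fintype.card α
  big : 2 ≤ M
  pos : 0 < N

include h5 hn in
theorem exists_ctx {u v w a b c : α} (hu : u ≠ v ∧ u ≠ w ∧ v ≠ w) (ha : a ≠ b ∧ a ≠ c ∧ b ≠ c) :
    ∃ N, Ctx H u v w a b c (Fintype.card α - 3) N := by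
  have hfree : ∀ (p q r : α), ∃ s t : α, s ∉ ({p, q, r} : Finset α) ∧ t ∉ ({p, q, r} : Finset α) ∧ s ≠ t := by
    intro p q r
    have h : 1 < ({p, q, r} : Finset α)ᶜ.card := by
      have := Finset.card_le_three (a := p) (b := q) (c := r)
      rw [card_compl]; omega
    obtain ⟨s, hs, t, ht, hne⟩ := one_lt_card.1 h
    exact ⟨s, t, mem_compl.1 hs, mem_compl.1 ht, hne⟩
  obtain ⟨s₀, t₀, hs₀⟩ := hfree u v w
  obtain ⟨y₀, z₀, hy₀⟩ := hfree a b c
  refine ⟨((fam H u v w a b c).filter fun h => h s₀ = y₀ ∧ h t₀ = z₀).card, ?_, ?_, by omega, by omega, ?_⟩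
  · intro s t hs ht hst Q hQ
    rw [card_eq_sum_card_fiberwise (s := (fam H u v w a b c).filter fun h => (h s, h t) ∈ Q)
      (f := fun h : Perm α => (h s, h t)) (t := Q)
      (fun h hh => (mem_filter.1 hh).2), sum_congr rfl (fun q hq => ?_), sum_const, smul_eq_mul]
    rw [filter_filter, ← fibre_const h5 hn hu ha ⟨hs, ht, hst⟩ hs₀ (hQ q hq) hy₀]
    congr 1
    refine filter_congr fun h _ => ?_
    constructor
    · rintro ⟨-, h'⟩
      exact ⟨congrArg Prod.fst h', congrArg Prod.snd h'⟩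
    · rintro ⟨h1, h2⟩
      have : (h s, h t) = q := Prod.ext h1 h2
      exact ⟨this ▸ hq, this⟩
  · intro y z hy hz hyz Q hQ
    rw [card_eq_sum_card_fiberwise (s := (fam H u v w a b c).filter fun h => (h⁻¹ y, h⁻¹ z) ∈ Q)
      (f := fun h : Perm α => (h⁻¹ y, h⁻¹ z)) (t := Q)
      (fun h hh => (mem_filter.1 hh).2), sum_congr rfl (fun q hq => ?_), sum_const, smul_eq_mul]
    rw [filter_filter, ← fibre_const h5 hn hu ha (hQ q hq) hs₀ ⟨hy, hz, hyz⟩ hy₀]
    congr 1
    refine filter_congr fun h _ => ?_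
    constructor
    · rintro ⟨-, h'⟩
      constructor
      · rw [← congrArg Prod.fst h']; simp
      · rw [← congrArg Prod.snd h']; simp
    · rintro ⟨h1, h2⟩
      have : (h⁻¹ y, h⁻¹ z) = q := Prod.ext (by rw [← h1]; simp) (by rw [← h2]; simp)
      exact ⟨this ▸ hq, this⟩
  · obtain ⟨s1, t1, hst⟩ := hs₀
    obtain ⟨y1, z1, hyz⟩ := hy₀
    simp only [mem_insert, mem_singleton, not_or] at s1 t1 y1 z1
    obtain ⟨g, hg, hgm⟩ := exists_mem_map (x := ![u, v, w, s₀, t₀]) (y := ![a, b, c, y₀, z₀]) h5 le_rfl hn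
      (by intro i j hij; fin_cases i <;> fin_cases j <;> simp_all)
      (by intro i j hij; fin_cases i <;> fin_cases j <;> simp_all)
    exact card_pos.2 ⟨g, mem_filter.2 ⟨mem_fam.2 ⟨hg, hgm 0, hgm 1, hgm 2⟩, hgm 3, hgm 4⟩⟩

section Derived

variable {u v w a b c : α} {M N : ℕ} (C : Ctx H u v w a b c M N)

theorem card_compl_three {p q r : α} (h : p ≠ q ∧ p ≠ r ∧ q ≠ r) :
    ({p, q, r} : Finset α)ᶜ.card + 3 = Fintype.card α := by
  have h3 : ({p, q, r} : Finset α).card = 3 := card_eq_three.2 ⟨p, q, r, h.1, h.2.1, h.2.2, rfl⟩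
  have := card_le_univ ({p, q, r} : Finset α)
  rw [card_compl]; omega

include C in
theorem src_one (ha : a ≠ b ∧ a ≠ c ∧ b ≠ c) {s : α} (hs : s ∉ ({u, v, w} : Finset α)) {A : Finset α}
    (hA : A ⊆ ({a, b, c} : Finset α)ᶜ) :
    ((fam H u v w a b c).filter fun h => h s ∈ A).card = A.card * (M - 1) * N := by
  obtain ⟨t, ht, hts⟩ : ∃ t ∈ ({u, v, w} : Finset α)ᶜ, t ≠ s := exists_mem_ne (by
    have := Finset.card_le_three (a := u) (b := v) (c := w)
    have := C.deg; have := C.big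
    rw [card_compl]; omega) s
  rw [mem_compl] at ht
  have hT : ({a, b, c} : Finset α)ᶜ.card = M := by have := card_compl_three ha; have := C.deg; omega
  rw [← hT, ← card_pairs A _ hA, ← C.src s t hs ht (Ne.symm hts) _ (fun q hq => by
    simp only [mem_filter, mem_product] at hq
    exact ⟨mem_compl.1 (hA hq.1.1), mem_compl.1 hq.1.2, hq.2⟩)]
  congr 1
  refine filter_congr fun h hh => ?_
  simp only [mem_filter, mem_product, mem_compl]
  refine ⟨fun h1 => ⟨⟨h1, fun hm => ?_⟩, fun e => hts (h.injective e.symm)⟩, fun h1 => h1.1.1⟩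
  obtain ⟨-, e1, e2, e3⟩ := mem_fam.1 hh
  simp only [mem_insert, mem_singleton] at hm ht
  rcases hm with e | e | e
  · exact ht (Or.inl (h.injective (e.trans e1.symm)))
  · exact ht (Or.inr (Or.inl (h.injective (e.trans e2.symm))))
  · exact ht (Or.inr (Or.inr (h.injective (e.trans e3.symm))))

include C in
theorem tgt_one (hu : u ≠ v ∧ u ≠ w ∧ v ≠ w) {y : α} (hy : y ∉ ({a, b, c} : Finset α)) {A : Finset α}
    (hA : A ⊆ ({u, v, w} : Finset α)ᶜ) :
    ((fam H u v w a b c).filter fun h => h⁻¹ y ∈ A).card = A.card * (M - 1) * N := by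
  obtain ⟨z, hz, hzy⟩ : ∃ z ∈ ({a, b, c} : Finset α)ᶜ, z ≠ y := exists_mem_ne (by
    have := Finset.card_le_three (a := a) (b := b) (c := c)
    have := C.deg; have := C.big
    rw [card_compl]; omega) y
  rw [mem_compl] at hz
  have hT : ({u, v, w} : Finset α)ᶜ.card = M := by have := card_compl_three hu; have := C.deg; omega
  rw [← hT, ← card_pairs A _ hA, ← C.tgt y z hy hz (Ne.symm hzy) _ (fun q hq => by
    simp only [mem_filter, mem_product] at hq
    exact ⟨mem_compl.1 (hA hq.1.1), mem_compl.1 hq.1.2, hq.2⟩)]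
  congr 1
  refine filter_congr fun h hh => ?_
  simp only [mem_filter, mem_product, mem_compl]
  refine ⟨fun h1 => ⟨⟨h1, fun hm => ?_⟩, fun e => hzy (h⁻¹.injective e.symm)⟩, fun h1 => h1.1.1⟩
  obtain ⟨-, e1, e2, e3⟩ := mem_fam.1 hh
  simp only [mem_insert, mem_singleton] at hm hz
  rcases hm with e | e | e
  · exact hz (Or.inl (by rw [← e1, ← e]; simp))
  · exact hz (Or.inr (Or.inl (by rw [← e2, ← e]; simp)))
  · exact hz (Or.inr (Or.inr (by rw [← e3, ← e]; simp)))

include C in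
theorem card_fam (ha : a ≠ b ∧ a ≠ c ∧ b ≠ c) : (fam H u v w a b c).card = M * (M - 1) * N := by
  obtain ⟨s, hs⟩ : ∃ s, s ∈ ({u, v, w} : Finset α)ᶜ := card_pos.1 (by
    have := Finset.card_le_three (a := u) (b := v) (c := w)
    have := C.deg; have := C.big
    rw [card_compl]; omega)
  have hT : ({a, b, c} : Finset α)ᶜ.card = M := by have := card_compl_three ha; have := C.deg; omega
  have h := src_one C ha (mem_compl.1 hs) (subset_refl (({a, b, c} : Finset α)ᶜ))
  rw [hT] at h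
  rw [← h]
  refine (congrArg Finset.card ?_).symm
  refine filter_true_of_mem fun h hh => ?_
  rw [mem_compl]
  intro hm
  obtain ⟨-, e1, e2, e3⟩ := mem_fam.1 hh
  simp only [mem_compl, mem_insert, mem_singleton] at hm hs
  rcases hm with e | e | e
  · exact hs (Or.inl (h.injective (e.trans e1.symm)))
  · exact hs (Or.inr (Or.inl (h.injective (e.trans e2.symm))))
  · exact hs (Or.inr (Or.inr (h.injective (e.trans e3.symm))))

end Derived

/-- The bound for the number of points moved by `x (h x h⁻¹) x⁻¹ (h x h⁻¹)⁻¹`. -/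
def bound (S : Finset α) (x h : Perm α) : ℕ :=
  (S.filter fun z => h⁻¹ z ∈ S).card + (S.filter fun z => h⁻¹ z ∈ S ∧ h⁻¹ (x z) ∉ S).card +
    (S.filter fun z => h z ∈ S ∧ h (x z) ∉ S).card

theorem moved_le (x h : Perm α) :
    (x * (h * x * h⁻¹) * x⁻¹ * (h * x * h⁻¹)⁻¹).support.card ≤ bound x.support x h := by
  set S := x.support with hS
  set y := h * x * h⁻¹ with hy
  have hyS : ∀ z, z ∈ y.support ↔ h⁻¹ z ∈ S := by
    intro z
    rw [mem_support, hS, mem_support, hy]
    simp only [mul_apply]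
    constructor
    · intro h1 h2; apply h1; rw [h2]; simp
    · intro h1 h2; apply h1
      apply h.injective
      rw [h2]; simp
  set I := S.filter fun z => h⁻¹ z ∈ S with hI
  set J := S.filter fun z => h⁻¹ z ∈ S ∧ h⁻¹ (x z) ∉ S with hJ
  set K := S.filter fun z => h z ∈ S ∧ h (x z) ∉ S with hK
  have hsub : (x * y * x⁻¹ * y⁻¹).support ⊆ I ∪ J.image x ∪ K.image (fun z => h (x z)) := by
    intro z hz
    rw [mem_support] at hz
    simp only [mem_union, mem_image, hI, hJ, hK, mem_filter]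
    by_cases hzS : z ∈ S <;> by_cases hzy : h⁻¹ z ∈ S
    · exact Or.inl (Or.inl ⟨hzS, hzy⟩)
    · refine Or.inl (Or.inr ⟨x⁻¹ z, ⟨?_, ?_, by simpa using hzy⟩, by simp⟩)
      · rw [hS] at hzS ⊢; exact apply_mem_support.1 (by simpa using hzS)
      · by_contra h1
        apply hz
        have e1 : y⁻¹ z = z := by
          rw [inv_eq_iff_eq]; exact (notMem_support.1 (fun h' => hzy ((hyS z).1 h'))).symm
        have e2 : y (x⁻¹ z) = x⁻¹ z := notMem_support.1 (fun h' => h1 ((hyS _).1 h'))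
        simp only [mul_apply]
        rw [e1, e2]; simp
    · refine Or.inr ⟨x⁻¹ (h⁻¹ z), ⟨?_, ?_, by simpa using hzS⟩, by simp⟩
      · rw [hS] at hzy ⊢; exact apply_mem_support.1 (by simpa using hzy)
      · by_contra h1
        apply hz
        have e0 : y⁻¹ z = h (x⁻¹ (h⁻¹ z)) := by simp [hy, mul_inv_rev]
        have e1 : x⁻¹ (y⁻¹ z) = y⁻¹ z := by
          rw [inv_eq_iff_eq]; rw [e0]; exact (notMem_support.1 h1).symm
        simp only [mul_apply]
        rw [e1]
        rw [← mul_apply y, mul_inv_cancel, one_apply]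
        exact notMem_support.1 hzS
    · exfalso
      apply hz
      have e1 : y⁻¹ z = z := by
        rw [inv_eq_iff_eq]; exact (notMem_support.1 (fun h' => hzy ((hyS z).1 h'))).symm
      have e2 : x⁻¹ z = z := by rw [inv_eq_iff_eq]; exact (notMem_support.1 hzS).symm
      have e3 : y z = z := notMem_support.1 (fun h' => hzy ((hyS z).1 h'))
      simp only [mul_apply]
      rw [e1, e2, e3]
      exact notMem_support.1 hzS
  refine (card_le_card hsub).trans ((card_union_le _ _).trans ?_)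
  refine Nat.add_le_add ((card_union_le _ _).trans ?_) card_image_le
  exact Nat.add_le_add le_rfl card_image_le

/-- Exchange of the sums in `bound`. -/
theorem sum_bound (F : Finset (Perm α)) (S : Finset α) (x : Perm α) :
    ∑ h ∈ F, bound S x h = (∑ z ∈ S, (F.filter fun h => h⁻¹ z ∈ S).card) +
      (∑ z ∈ S, (F.filter fun h => h⁻¹ z ∈ S ∧ h⁻¹ (x z) ∉ S).card) +
      ∑ z ∈ S, (F.filter fun h => h z ∈ S ∧ h (x z) ∉ S).card := by
  simp only [bound, sum_add_distrib, card_filter]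
  congr 1
  · congr 1 <;> rw [sum_comm]
  · rw [sum_comm]

theorem sum_le_of {S T : Finset α} (hT : T ⊆ S) (f : α → ℕ) (B : ℕ) (hB : ∀ z ∈ S, z ∉ T → f z ≤ B) :
    ∑ z ∈ S, f z ≤ (∑ z ∈ T, f z) + (S.card - T.card) * B := by
  rw [← sum_sdiff hT, add_comm]
  refine Nat.add_le_add le_rfl ?_
  rw [← card_sdiff_of_subset hT, ← smul_eq_mul]
  exact sum_le_card_nsmul _ _ _ fun z hz => hB z (mem_sdiff.1 hz).1 (mem_sdiff.1 hz).2

theorem arith_odd {s n M : ℕ} (hs : 5 ≤ s) (hn : 2 * s + 1 ≤ n) (hM : M + 3 = n) :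
    M * (M - 1) + (s - 3) * ((s - 1) * (M - 1)) + (M * (M - 1) + (s - 1) * (M - 1) +
      (s - 5) * ((s - 1) * (n - s - 2))) + ((n - s) * (M - 1) + (s - 2) * ((s - 3) * (n - s))) <
      s * (M * (M - 1)) := by
  obtain ⟨t, rfl⟩ : ∃ t, s = t + 5 := ⟨s - 5, by omega⟩
  obtain ⟨j, rfl⟩ : ∃ j, n = 2 * t + 11 + j := ⟨n - (2 * t + 11), by omega⟩
  obtain rfl : M = 2 * t + 8 + j := by omega
  rw [show 2 * t + 8 + j - 1 = 2 * t + 7 + j by omega, show t + 5 - 3 = t + 2 by omega,
    show t + 5 - 1 = t + 4 by omega, show t + 5 - 5 = t by omega,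
    show 2 * t + 11 + j - (t + 5) - 2 = t + 4 + j by omega,
    show 2 * t + 11 + j - (t + 5) = t + 6 + j by omega, show t + 5 - 2 = t + 3 by omega]
  ring_nf
  nlinarith

theorem arith_two {s n M : ℕ} (hs : 4 ≤ s) (hn : 2 * s + 1 ≤ n) (hM : M + 3 = n) :
    M * (M - 1) + (s - 3) * ((s - 1) * (M - 1)) + (M * (M - 1) + (s - 1) * (M - 1) +
      (s - 4) * ((s - 1) * (n - s - 2))) + ((n - s) * (M - 1) + (s - 2) * ((s - 3) * (n - s))) <
      s * (M * (M - 1)) + (n - s) * (M - 1) := by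
  obtain ⟨t, rfl⟩ : ∃ t, s = t + 4 := ⟨s - 4, by omega⟩
  obtain ⟨j, rfl⟩ : ∃ j, n = 2 * t + 9 + j := ⟨n - (2 * t + 9), by omega⟩
  obtain rfl : M = 2 * t + 6 + j := by omega
  rw [show 2 * t + 6 + j - 1 = 2 * t + 5 + j by omega, show t + 4 - 3 = t + 1 by omega,
    show t + 4 - 1 = t + 3 by omega, show t + 4 - 4 = t by omega,
    show 2 * t + 9 + j - (t + 4) - 2 = t + 3 + j by omega,
    show 2 * t + 9 + j - (t + 4) = t + 5 + j by omega, show t + 4 - 2 = t + 2 by omega]
  ring_nf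
  nlinarith

/-- Points of the support of an element of prime order. -/
theorem prime_moves {x : Perm α} {p : ℕ} (hp : p.Prime) (ho : orderOf x = p) {z : α}
    (hz : z ∈ x.support) {i j : ℕ} (hij : i < p) (hjp : j < p) (h : (x ^ i) z = (x ^ j) z) : i = j := by
  by_contra hne
  wlog hlt : i < j generalizing i j
  · exact this hjp hij h.symm (Ne.symm hne) (by omega)
  have h' : (x ^ (j - i)) z = z := by
    apply (x ^ i).injective
    rw [← mul_apply, ← pow_add, Nat.add_sub_cancel' hlt.le, h]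
  haveI := Fact.mk hp
  obtain ⟨k, hk⟩ := exists_pow_eq_self_of_coprime (x := x) (n := j - i) (by
    rw [ho]
    exact (hp.coprime_iff_not_dvd.2 fun hd => by
      have := Nat.le_of_dvd (by omega) hd; omega).symm)
  apply mem_support.1 hz
  rw [← hk]
  exact pow_apply_eq_self_of_apply_eq_self h' k

/-- A minimal element of prime order either gives a cycle or room for the argument. -/
theorem exists_other_orbit {x : Perm α} {p : ℕ} (hp : p.Prime) (ho : orderOf x = p)
    (hnc : ¬ x.IsCycle) {γ : α} (hγ : γ ∈ x.support) :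
    ∃ ε ∈ x.support, ∀ i : ℕ, (x ^ i) γ ≠ ε := by
  by_contra h
  push Not at h
  have hcard : x.support.card ≤ p := by
    have hsub : x.support ⊆ (range p).image fun i => (x ^ i) γ := by
      intro e he
      obtain ⟨i, hi⟩ := h e he
      refine mem_image.2 ⟨i % p, mem_range.2 (Nat.mod_lt _ hp.pos), ?_⟩
      rw [← hi, ← ho, pow_mod_orderOf]
    exact (card_le_card hsub).trans (card_image_le.trans (card_range p).le)
  exact hnc (isCycle_of_prime_order (by rw [ho]; exact hp) (by rw [ho]; have := hp.pos; omega))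

include h5 hn in
/-- The averaging for odd prime order. -/
theorem odd_case {x : Perm α} (hx : x ∈ H) {p : ℕ} (hp : p.Prime) (hp2 : p ≠ 2) (ho : orderOf x = p)
    (hs : 2 * x.support.card + 1 ≤ Fintype.card α) (hnc : ¬ x.IsCycle)
    (hmin : ∀ y ∈ H, y ≠ 1 → x.support.card ≤ y.support.card) : False := by
  set S := x.support with hS
  set s := S.card with hscard
  set n := Fintype.card α with hnn
  obtain ⟨γ, hγ⟩ : S.Nonempty := by
    rw [nonempty_iff_ne_empty, hS, Ne, support_eq_empty_iff]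
    intro e; rw [e, orderOf_one] at ho; exact hp.ne_one ho.symm
  obtain ⟨ε, hε, hεγ⟩ := exists_other_orbit hp ho hnc hγ
  have hp3 : 3 ≤ p := by have := hp.two_le; omega
  set δ := x γ with hδ
  have hxi : x ^ (p - 1) = x⁻¹ := by
    apply eq_inv_of_mul_eq_one_left
    rw [← pow_succ, Nat.sub_add_cancel (by omega), ← ho, pow_orderOf_eq_one]
  have hδS : δ ∈ S := apply_mem_support.2 hγ
  have hiγS : x⁻¹ γ ∈ S := apply_mem_support.1 (by rw [show x (x⁻¹ γ) = γ by simp]; exact hγ)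
  have hiεS : x⁻¹ ε ∈ S := apply_mem_support.1 (by rw [show x (x⁻¹ ε) = ε by simp]; exact hε)
  have hδγ : δ ≠ γ := mem_support.1 hγ
  have hiγ : x⁻¹ γ ≠ γ := fun e => hδγ (inv_eq_iff_eq.1 e).symm
  have hiγδ : x⁻¹ γ ≠ δ := fun e => by
    have h1 : (x ^ (p - 1)) γ = (x ^ 1) γ := by rw [hxi, pow_one]; exact e
    have := prime_moves hp ho hγ (by omega) (by omega) h1
    omega
  have hεγ' : ε ≠ γ := fun e => hεγ 0 (by simp [e])
  have hεδ : ε ≠ δ := fun e => hεγ 1 (by simp [e, hδ])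
  have hεi : ε ≠ x⁻¹ γ := fun e => hεγ (p - 1) (by rw [hxi, e])
  have hiεε : x⁻¹ ε ≠ ε := fun e => mem_support.1 hε (inv_eq_iff_eq.1 e).symm
  have hiεγ : x⁻¹ ε ≠ γ := fun e => hεδ (by rw [inv_eq_iff_eq] at e; exact e)
  have hiεδ : x⁻¹ ε ≠ δ := fun e => hεγ 2 (by rw [inv_eq_iff_eq] at e; rw [e, pow_two, mul_apply, hδ])
  have hiεi : x⁻¹ ε ≠ x⁻¹ γ := fun e => hεγ' (x⁻¹.injective e)
  -- five special points
  set T5 : Finset α := {γ, δ, ε, x⁻¹ γ, x⁻¹ ε} with hT5
  have hT5s : T5 ⊆ S := by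
    intro z hz
    simp only [hT5, mem_insert, mem_singleton] at hz
    rcases hz with rfl | rfl | rfl | rfl | rfl <;> assumption
  have hT5c : T5.card = 5 := by
    rw [hT5, card_insert_of_notMem, card_insert_of_notMem, card_insert_of_notMem, card_pair (Ne.symm hiεi)] <;>
      simp only [mem_insert, mem_singleton, not_or] <;>
      and_intros <;> first | assumption | (apply Ne.symm; assumption)
  have hs5 : 5 ≤ s := hT5c ▸ card_le_card hT5s
  obtain ⟨v, hv, w, hw, hvw⟩ := one_lt_card.1 (show 1 < Sᶜ.card by rw [card_compl]; omega)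
  rw [mem_compl] at hv hw
  have hu : γ ≠ v ∧ γ ≠ w ∧ v ≠ w := ⟨fun e => hv (e ▸ hγ), fun e => hw (e ▸ hγ), hvw⟩
  have ha : γ ≠ δ ∧ γ ≠ ε ∧ δ ≠ ε := ⟨Ne.symm hδγ, Ne.symm hεγ', Ne.symm hεδ⟩
  obtain ⟨N, C⟩ := exists_ctx h5 hn hu ha
  set M := n - 3 with hM
  set F := fam H γ v w γ δ ε with hF
  have hFc : F.card = M * (M - 1) * N := card_fam C ha
  have hT3 : ({γ, δ, ε} : Finset α) ⊆ S := by
    intro z hz
    simp only [mem_insert, mem_singleton] at hz
    rcases hz with rfl | rfl | rfl <;> assumption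
  have hT3c : ({γ, δ, ε} : Finset α).card = 3 := card_eq_three.2 ⟨γ, δ, ε, ha.1, ha.2.1, ha.2.2, rfl⟩
  have hinvδ : ∀ h ∈ F, h⁻¹ δ = v := fun h hh => by
    rw [inv_eq_iff_eq]; exact (mem_fam.1 hh).2.2.1.symm
  have hinvε : ∀ h ∈ F, h⁻¹ ε = w := fun h hh => by
    rw [inv_eq_iff_eq]; exact (mem_fam.1 hh).2.2.2.symm
  have hinvγ : ∀ h ∈ F, h⁻¹ γ = γ := fun h hh => by
    rw [inv_eq_iff_eq]; exact (mem_fam.1 hh).2.1.symm
  set Ss := S.erase γ with hSs
  have hSsc : Ss.card = s - 1 := card_erase_of_mem hγ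
  have hSsub : Ss ⊆ ({γ, v, w} : Finset α)ᶜ := by
    intro z hz
    obtain ⟨h1, h2⟩ := mem_erase.1 hz
    simp only [mem_compl, mem_insert, mem_singleton, not_or]
    exact ⟨h1, fun e => hv (e ▸ h2), fun e => hw (e ▸ h2)⟩
  set Os := (Sᶜ.erase v).erase w with hOs
  have hOsc : Os.card = n - s - 2 := by
    rw [hOs, card_erase_of_mem (mem_erase.2 ⟨Ne.symm hvw, mem_compl.2 hw⟩), card_erase_of_mem (mem_compl.2 hv),
      card_compl]
    omega
  -- first sum
  have b1 : ∑ z ∈ S, (F.filter fun h => h⁻¹ z ∈ S).card ≤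
      M * (M - 1) * N + (s - 3) * ((s - 1) * (M - 1) * N) := by
    refine (sum_le_of hT3 _ ((s - 1) * (M - 1) * N) fun z _ hz => ?_).trans ?_
    · rw [← hSsc, ← tgt_one C hu hz hSsub]
      refine card_le_card fun h hh => ?_
      obtain ⟨hhF, h1⟩ := mem_filter.1 hh
      refine mem_filter.2 ⟨hhF, mem_erase.2 ⟨fun e => ?_, h1⟩⟩
      simp only [mem_insert, mem_singleton, not_or] at hz
      exact hz.1 (h⁻¹.injective (e.trans (hinvγ h hhF).symm))
    · rw [hT3c]
      refine Nat.add_le_add ?_ le_rfl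
      rw [sum_insert (by simp [ha.1, ha.2.1]), sum_pair ha.2.2]
      rw [filter_false_of_mem (s := F) (p := fun h => h⁻¹ δ ∈ S) (fun h hh => by rw [hinvδ h hh]; exact hv),
        filter_false_of_mem (s := F) (p := fun h => h⁻¹ ε ∈ S) (fun h hh => by rw [hinvε h hh]; exact hw)]
      simp only [card_empty, add_zero]
      exact (card_filter_le _ _).trans hFc.le
  -- second sum
  have b2 : ∑ z ∈ S, (F.filter fun h => h⁻¹ z ∈ S ∧ h⁻¹ (x z) ∉ S).card ≤
      M * (M - 1) * N + (s - 1) * (M - 1) * N + (s - 5) * ((s - 1) * (n - s - 2) * N) := by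
    refine (sum_le_of hT5s _ ((s - 1) * (n - s - 2) * N) fun z hzS hz => ?_).trans ?_
    · simp only [hT5, mem_insert, mem_singleton, not_or] at hz
      obtain ⟨z1, z2, z3, z4, z5⟩ := hz
      have h1 : z ∉ ({γ, δ, ε} : Finset α) := by simp [z1, z2, z3]
      have h2 : x z ∉ ({γ, δ, ε} : Finset α) := by
        simp only [mem_insert, mem_singleton, not_or]
        exact ⟨fun e => z4 (by rw [← e]; simp), fun e => z1 (x.injective (e.trans hδ)),
          fun e => z5 (by rw [← e]; simp)⟩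
      have hne : z ≠ x z := fun e => mem_support.1 hzS e.symm
      have h3 := C.tgt z (x z) h1 h2 hne (Ss ×ˢ Os) (fun q hq => by
        obtain ⟨q1, q2⟩ := mem_product.1 hq
        refine ⟨mem_compl.1 (hSsub q1), ?_, ?_⟩
        · simp only [hOs, mem_erase, mem_compl] at q2
          simp only [mem_insert, mem_singleton, not_or]
          exact ⟨fun e => q2.2.2 (e ▸ hγ), q2.2.1, q2.1⟩
        · simp only [hOs, mem_erase, mem_compl] at q2
          exact fun e => q2.2.2 (e ▸ (mem_erase.1 q1).2))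
      rw [card_product, hSsc, hOsc] at h3
      rw [← h3]
      refine card_le_card fun h hh => ?_
      obtain ⟨hhF, h4, h5'⟩ := mem_filter.1 hh
      simp only [mem_insert, mem_singleton, not_or] at h2
      refine mem_filter.2 ⟨hhF, mem_product.2 ⟨mem_erase.2 ⟨fun e => z1 (h⁻¹.injective (e.trans (hinvγ h hhF).symm)), h4⟩,
        mem_erase.2 ⟨fun e => h2.2.2 (h⁻¹.injective (e.trans (hinvε h hhF).symm)),
          mem_erase.2 ⟨fun e => h2.2.1 (h⁻¹.injective (e.trans (hinvδ h hhF).symm)), mem_compl.2 h5'⟩⟩⟩⟩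
    · rw [hT5c]
      refine Nat.add_le_add ?_ le_rfl
      rw [hT5, sum_insert, sum_insert, sum_insert, sum_pair (Ne.symm hiεi)]
      rotate_left
      · simp only [mem_insert, mem_singleton, not_or]
        exact ⟨hεi, Ne.symm hiεε⟩
      · simp only [mem_insert, mem_singleton, not_or]
        exact ⟨Ne.symm hεδ, Ne.symm hiγδ, Ne.symm hiεδ⟩
      · simp only [mem_insert, mem_singleton, not_or]
        exact ⟨ha.1, ha.2.1, Ne.symm hiγ, Ne.symm hiεγ⟩
      rw [filter_false_of_mem (s := F) (p := fun h => h⁻¹ δ ∈ S ∧ h⁻¹ (x δ) ∉ S)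
          (fun h hh h' => hv (hinvδ h hh ▸ h'.1)),
        filter_false_of_mem (s := F) (p := fun h => h⁻¹ ε ∈ S ∧ h⁻¹ (x ε) ∉ S)
          (fun h hh h' => hw (hinvε h hh ▸ h'.1)),
        filter_false_of_mem (s := F) (p := fun h => h⁻¹ (x⁻¹ γ) ∈ S ∧ h⁻¹ (x (x⁻¹ γ)) ∉ S)
          (fun h hh h' => h'.2 (by
            rw [show x (x⁻¹ γ) = γ by simp, hinvγ h hh]; exact hγ))]
      simp only [card_empty, zero_add]
      refine Nat.add_le_add ((card_filter_le _ _).trans hFc.le) ?_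
      have h1 : x⁻¹ ε ∉ ({γ, δ, ε} : Finset α) := by
        simp only [mem_insert, mem_singleton, not_or]
        exact ⟨hiεγ, hiεδ, hiεε⟩
      rw [← hSsc, ← tgt_one C hu h1 hSsub]
      refine card_le_card fun h hh => ?_
      obtain ⟨hhF, h4, -⟩ := mem_filter.1 hh
      exact mem_filter.2 ⟨hhF, mem_erase.2 ⟨fun e => hiεγ (h⁻¹.injective (e.trans (hinvγ h hhF).symm)), h4⟩⟩
  -- third sum
  have b3 : ∑ z ∈ S, (F.filter fun h => h z ∈ S ∧ h (x z) ∉ S).card ≤
      (n - s) * (M - 1) * N + (s - 2) * ((s - 3) * (n - s) * N) := by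
    have hT2 : ({γ, x⁻¹ γ} : Finset α) ⊆ S := by
      intro z hz; simp only [mem_insert, mem_singleton] at hz; rcases hz with rfl | rfl <;> assumption
    have hT2c : ({γ, x⁻¹ γ} : Finset α).card = 2 := card_pair (Ne.symm hiγ)
    have hA : Sᶜ ⊆ ({γ, δ, ε} : Finset α)ᶜ := compl_subset_compl.2 hT3
    refine (sum_le_of hT2 _ ((s - 3) * (n - s) * N) fun z hzS hz => ?_).trans ?_
    · simp only [mem_insert, mem_singleton, not_or] at hz
      obtain ⟨z1, z2⟩ := hz
      have h1 : z ∉ ({γ, v, w} : Finset α) := by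
        simp only [mem_insert, mem_singleton, not_or]
        exact ⟨z1, fun e => hv (e ▸ hzS), fun e => hw (e ▸ hzS)⟩
      have hxzS : x z ∈ S := apply_mem_support.2 hzS
      have h2 : x z ∉ ({γ, v, w} : Finset α) := by
        simp only [mem_insert, mem_singleton, not_or]
        exact ⟨fun e => z2 (by rw [← e]; simp), fun e => hv (e ▸ hxzS), fun e => hw (e ▸ hxzS)⟩
      have h3 := C.src z (x z) h1 h2 (fun e => mem_support.1 hzS e.symm)
        ((S \ {γ, δ, ε}) ×ˢ Sᶜ) (fun q hq => by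
          obtain ⟨q1, q2⟩ := mem_product.1 hq
          obtain ⟨q11, q12⟩ := mem_sdiff.1 q1
          exact ⟨q12, mem_compl.1 (hA q2), fun e => mem_compl.1 q2 (e ▸ q11)⟩)
      rw [card_product, card_sdiff_of_subset hT3, hT3c, card_compl] at h3
      rw [← h3]
      refine card_le_card fun h hh => ?_
      obtain ⟨hhF, h4, h5'⟩ := mem_filter.1 hh
      obtain ⟨-, e1, e2, e3⟩ := mem_fam.1 hhF
      refine mem_filter.2 ⟨hhF, mem_product.2 ⟨mem_sdiff.2 ⟨h4, fun hm => ?_⟩, mem_compl.2 h5'⟩⟩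
      simp only [mem_insert, mem_singleton] at hm
      rcases hm with e | e | e
      · exact z1 (h.injective (e.trans e1.symm))
      · exact hv (h.injective (e.trans e2.symm) ▸ hzS)
      · exact hw (h.injective (e.trans e3.symm) ▸ hzS)
    · rw [hT2c]
      refine Nat.add_le_add ?_ le_rfl
      rw [sum_pair (Ne.symm hiγ)]
      rw [filter_false_of_mem (s := F) (p := fun h => h (x⁻¹ γ) ∈ S ∧ h (x (x⁻¹ γ)) ∉ S)
          (fun h hh h' => h'.2 (by
            rw [show x (x⁻¹ γ) = γ by simp, (mem_fam.1 hh).2.1]; exact hγ))]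
      rw [card_empty, add_zero, show n - s = Sᶜ.card from (card_compl S).symm, ← src_one C ha (s := x γ) (by
        simp only [mem_insert, mem_singleton, not_or]
        exact ⟨hδγ, fun e => hv (e ▸ hδS), fun e => hw (e ▸ hδS)⟩) hA]
      exact card_le_card fun h hh => mem_filter.2 ⟨(mem_filter.1 hh).1, mem_compl.2 (mem_filter.1 hh).2.2⟩
  -- every commutator has support at least `s`
  have hlow : s * F.card ≤ ∑ h ∈ F, bound S x h := by
    rw [mul_comm, ← smul_eq_mul]
    refine card_nsmul_le_sum _ _ _ fun h hh => le_trans ?_ (moved_le x h)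
    obtain ⟨hH, e1, e2, e3⟩ := mem_fam.1 hh
    refine hmin _ (mul_mem (mul_mem (mul_mem hx (mul_mem (mul_mem hH hx) (inv_mem hH))) (inv_mem hx))
      (inv_mem (mul_mem (mul_mem hH hx) (inv_mem hH)))) fun e => ?_
    have h1 := congrArg (fun g : Perm α => g δ) e
    simp only [mul_apply, mul_inv_rev, inv_inv, one_apply] at h1
    rw [hinvδ h hh, show x⁻¹ v = v from inv_eq_iff_eq.2 (notMem_support.1 hv).symm, e2,
      show x⁻¹ δ = γ by simp [hδ], hinvγ h hh] at h1
    exact mem_support.1 hγ (h.injective ((x.injective h1).trans e1.symm))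
  rw [sum_bound, hFc] at hlow
  have key := hlow.trans (Nat.add_le_add (Nat.add_le_add b1 b2) b3)
  have hnum := arith_odd hs5 hs (show M + 3 = n by omega)
  have := Nat.mul_lt_mul_of_pos_right hnum C.pos
  nlinarith

include h5 hn in
/-- The averaging for involutions: it produces an element of order divisible by 3. -/
theorem two_case {x : Perm α} (hx : x ∈ H) (ho : orderOf x = 2)
    (hs : 2 * x.support.card + 1 ≤ Fintype.card α) (hnc : ¬ x.IsCycle)
    (hmin : ∀ y ∈ H, y ≠ 1 → x.support.card ≤ y.support.card) :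
    ∃ y ∈ H, orderOf y = 3 ∧ y.support.card = x.support.card := by
  by_contra hcon
  push Not at hcon
  set S := x.support with hS
  set s := S.card with hscard
  set n := Fintype.card α with hnn
  obtain ⟨γ, hγ⟩ : S.Nonempty := by
    rw [nonempty_iff_ne_empty, hS, Ne, support_eq_empty_iff]
    intro e; rw [e, orderOf_one] at ho; omega
  obtain ⟨ε, hε, hεγ⟩ := exists_other_orbit Nat.prime_two ho hnc hγ
  have hxx : ∀ z, x (x z) = z := fun z => by
    rw [← mul_apply, ← pow_two, ← ho, pow_orderOf_eq_one, one_apply]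
  set δ := x γ with hδ
  have hδS : δ ∈ S := apply_mem_support.2 hγ
  have hxεS : x ε ∈ S := apply_mem_support.2 hε
  have hδγ : δ ≠ γ := mem_support.1 hγ
  have hεγ' : ε ≠ γ := fun e => hεγ 0 (by simp [e])
  have hεδ : ε ≠ δ := fun e => hεγ 1 (by simp [e, hδ])
  have hxεε : x ε ≠ ε := mem_support.1 hε
  have hxεγ : x ε ≠ γ := fun e => hεδ (by rw [hδ, ← e, hxx])
  have hxεδ : x ε ≠ δ := fun e => hεγ' (x.injective e)
  set T4 : Finset α := {γ, δ, ε, x ε} with hT4
  have hT4s : T4 ⊆ S := by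
    intro z hz
    simp only [hT4, mem_insert, mem_singleton] at hz
    rcases hz with rfl | rfl | rfl | rfl <;> assumption
  have hT4c : T4.card = 4 := card_eq_four.2 ⟨γ, δ, ε, x ε, Ne.symm hδγ, Ne.symm hεγ', Ne.symm hxεγ,
    Ne.symm hεδ, Ne.symm hxεδ, Ne.symm hxεε, rfl⟩
  have hs4 : 4 ≤ s := hT4c ▸ card_le_card hT4s
  obtain ⟨v, hv, w, hw, hvw⟩ := one_lt_card.1 (show 1 < Sᶜ.card by rw [card_compl]; omega)
  rw [mem_compl] at hv hw
  have hu : γ ≠ v ∧ γ ≠ w ∧ v ≠ w := ⟨fun e => hv (e ▸ hγ), fun e => hw (e ▸ hγ), hvw⟩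
  have ha : γ ≠ δ ∧ γ ≠ ε ∧ δ ≠ ε := ⟨Ne.symm hδγ, Ne.symm hεγ', Ne.symm hεδ⟩
  obtain ⟨N, C⟩ := exists_ctx h5 hn hu ha
  set M := n - 3 with hM
  set F := fam H γ v w γ δ ε with hF
  have hFc : F.card = M * (M - 1) * N := card_fam C ha
  have hT3 : ({γ, δ, ε} : Finset α) ⊆ S := by
    intro z hz
    simp only [mem_insert, mem_singleton] at hz
    rcases hz with rfl | rfl | rfl <;> assumption
  have hT3c : ({γ, δ, ε} : Finset α).card = 3 := card_eq_three.2 ⟨γ, δ, ε, ha.1, ha.2.1, ha.2.2, rfl⟩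
  have hinvδ : ∀ h ∈ F, h⁻¹ δ = v := fun h hh => by
    rw [inv_eq_iff_eq]; exact (mem_fam.1 hh).2.2.1.symm
  have hinvε : ∀ h ∈ F, h⁻¹ ε = w := fun h hh => by
    rw [inv_eq_iff_eq]; exact (mem_fam.1 hh).2.2.2.symm
  have hinvγ : ∀ h ∈ F, h⁻¹ γ = γ := fun h hh => by
    rw [inv_eq_iff_eq]; exact (mem_fam.1 hh).2.1.symm
  set Ss := S.erase γ with hSs
  have hSsc : Ss.card = s - 1 := card_erase_of_mem hγ
  have hSsub : Ss ⊆ ({γ, v, w} : Finset α)ᶜ := by
    intro z hz
    obtain ⟨h1, h2⟩ := mem_erase.1 hz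
    simp only [mem_compl, mem_insert, mem_singleton, not_or]
    exact ⟨h1, fun e => hv (e ▸ h2), fun e => hw (e ▸ h2)⟩
  set Os := (Sᶜ.erase v).erase w with hOs
  have hOsc : Os.card = n - s - 2 := by
    rw [hOs, card_erase_of_mem (mem_erase.2 ⟨Ne.symm hvw, mem_compl.2 hw⟩), card_erase_of_mem (mem_compl.2 hv),
      card_compl]
    omega
  have b1 : ∑ z ∈ S, (F.filter fun h => h⁻¹ z ∈ S).card ≤
      M * (M - 1) * N + (s - 3) * ((s - 1) * (M - 1) * N) := by
    refine (sum_le_of hT3 _ ((s - 1) * (M - 1) * N) fun z _ hz => ?_).trans ?_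
    · rw [← hSsc, ← tgt_one C hu hz hSsub]
      refine card_le_card fun h hh => ?_
      obtain ⟨hhF, h1⟩ := mem_filter.1 hh
      refine mem_filter.2 ⟨hhF, mem_erase.2 ⟨fun e => ?_, h1⟩⟩
      simp only [mem_insert, mem_singleton, not_or] at hz
      exact hz.1 (h⁻¹.injective (e.trans (hinvγ h hhF).symm))
    · rw [hT3c]
      refine Nat.add_le_add ?_ le_rfl
      rw [sum_insert (by simp [ha.1, ha.2.1]), sum_pair ha.2.2]
      rw [filter_false_of_mem (s := F) (p := fun h => h⁻¹ δ ∈ S) (fun h hh => by rw [hinvδ h hh]; exact hv),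
        filter_false_of_mem (s := F) (p := fun h => h⁻¹ ε ∈ S) (fun h hh => by rw [hinvε h hh]; exact hw)]
      simp only [card_empty, add_zero]
      exact (card_filter_le _ _).trans hFc.le
  have b2 : ∑ z ∈ S, (F.filter fun h => h⁻¹ z ∈ S ∧ h⁻¹ (x z) ∉ S).card ≤
      M * (M - 1) * N + (s - 1) * (M - 1) * N + (s - 4) * ((s - 1) * (n - s - 2) * N) := by
    refine (sum_le_of hT4s _ ((s - 1) * (n - s - 2) * N) fun z hzS hz => ?_).trans ?_
    · simp only [hT4, mem_insert, mem_singleton, not_or] at hz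
      obtain ⟨z1, z2, z3, z4⟩ := hz
      have h1 : z ∉ ({γ, δ, ε} : Finset α) := by simp [z1, z2, z3]
      have h2 : x z ∉ ({γ, δ, ε} : Finset α) := by
        simp only [mem_insert, mem_singleton, not_or]
        exact ⟨fun e => z2 (by rw [hδ, ← e, hxx]), fun e => z1 (x.injective (e.trans hδ)),
          fun e => z4 (by rw [← e, hxx])⟩
      have hne : z ≠ x z := fun e => mem_support.1 hzS e.symm
      have h3 := C.tgt z (x z) h1 h2 hne (Ss ×ˢ Os) (fun q hq => by
        obtain ⟨q1, q2⟩ := mem_product.1 hq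
        refine ⟨mem_compl.1 (hSsub q1), ?_, ?_⟩
        · simp only [hOs, mem_erase, mem_compl] at q2
          simp only [mem_insert, mem_singleton, not_or]
          exact ⟨fun e => q2.2.2 (e ▸ hγ), q2.2.1, q2.1⟩
        · simp only [hOs, mem_erase, mem_compl] at q2
          exact fun e => q2.2.2 (e ▸ (mem_erase.1 q1).2))
      rw [card_product, hSsc, hOsc] at h3
      rw [← h3]
      refine card_le_card fun h hh => ?_
      obtain ⟨hhF, h4, h5'⟩ := mem_filter.1 hh
      simp only [mem_insert, mem_singleton, not_or] at h2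
      refine mem_filter.2 ⟨hhF, mem_product.2 ⟨mem_erase.2 ⟨fun e => z1 (h⁻¹.injective (e.trans (hinvγ h hhF).symm)), h4⟩,
        mem_erase.2 ⟨fun e => h2.2.2 (h⁻¹.injective (e.trans (hinvε h hhF).symm)),
          mem_erase.2 ⟨fun e => h2.2.1 (h⁻¹.injective (e.trans (hinvδ h hhF).symm)), mem_compl.2 h5'⟩⟩⟩⟩
    · rw [hT4c]
      refine Nat.add_le_add ?_ le_rfl
      rw [hT4, sum_insert, sum_insert, sum_pair (Ne.symm hxεε)]
      rotate_left
      · simp [Ne.symm hεδ, Ne.symm hxεδ]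
      · simp [ha.1, ha.2.1, Ne.symm hxεγ]
      rw [filter_false_of_mem (s := F) (p := fun h => h⁻¹ δ ∈ S ∧ h⁻¹ (x δ) ∉ S)
          (fun h hh h' => hv (hinvδ h hh ▸ h'.1)),
        filter_false_of_mem (s := F) (p := fun h => h⁻¹ ε ∈ S ∧ h⁻¹ (x ε) ∉ S)
          (fun h hh h' => hw (hinvε h hh ▸ h'.1))]
      simp only [card_empty, zero_add]
      refine Nat.add_le_add ((card_filter_le _ _).trans hFc.le) ?_
      have h1 : x ε ∉ ({γ, δ, ε} : Finset α) := by simp [hxεγ, hxεδ, hxεε]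
      rw [← hSsc, ← tgt_one C hu h1 hSsub]
      refine card_le_card fun h hh => ?_
      obtain ⟨hhF, h4, -⟩ := mem_filter.1 hh
      exact mem_filter.2 ⟨hhF, mem_erase.2 ⟨fun e => hxεγ (h⁻¹.injective (e.trans (hinvγ h hhF).symm)), h4⟩⟩
  have hA : Sᶜ ⊆ ({γ, δ, ε} : Finset α)ᶜ := compl_subset_compl.2 hT3
  have hδfree : δ ∉ ({γ, v, w} : Finset α) := by
    simp only [mem_insert, mem_singleton, not_or]
    exact ⟨hδγ, fun e => hv (e ▸ hδS), fun e => hw (e ▸ hδS)⟩
  have b3 : ∑ z ∈ S, (F.filter fun h => h z ∈ S ∧ h (x z) ∉ S).card ≤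
      (n - s) * (M - 1) * N + (s - 2) * ((s - 3) * (n - s) * N) := by
    have hT2 : ({γ, δ} : Finset α) ⊆ S := by
      intro z hz; simp only [mem_insert, mem_singleton] at hz; rcases hz with rfl | rfl <;> assumption
    have hT2c : ({γ, δ} : Finset α).card = 2 := card_pair (Ne.symm hδγ)
    refine (sum_le_of hT2 _ ((s - 3) * (n - s) * N) fun z hzS hz => ?_).trans ?_
    · simp only [mem_insert, mem_singleton, not_or] at hz
      obtain ⟨z1, z2⟩ := hz
      have h1 : z ∉ ({γ, v, w} : Finset α) := by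
        simp only [mem_insert, mem_singleton, not_or]
        exact ⟨z1, fun e => hv (e ▸ hzS), fun e => hw (e ▸ hzS)⟩
      have hxzS : x z ∈ S := apply_mem_support.2 hzS
      have h2 : x z ∉ ({γ, v, w} : Finset α) := by
        simp only [mem_insert, mem_singleton, not_or]
        exact ⟨fun e => z2 (by rw [hδ, ← e, hxx]), fun e => hv (e ▸ hxzS), fun e => hw (e ▸ hxzS)⟩
      have h3 := C.src z (x z) h1 h2 (fun e => mem_support.1 hzS e.symm)
        ((S \ {γ, δ, ε}) ×ˢ Sᶜ) (fun q hq => by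
          obtain ⟨q1, q2⟩ := mem_product.1 hq
          obtain ⟨q11, q12⟩ := mem_sdiff.1 q1
          exact ⟨q12, mem_compl.1 (hA q2), fun e => mem_compl.1 q2 (e ▸ q11)⟩)
      rw [card_product, card_sdiff_of_subset hT3, hT3c, card_compl] at h3
      rw [← h3]
      refine card_le_card fun h hh => ?_
      obtain ⟨hhF, h4, h5'⟩ := mem_filter.1 hh
      obtain ⟨-, e1, e2, e3⟩ := mem_fam.1 hhF
      refine mem_filter.2 ⟨hhF, mem_product.2 ⟨mem_sdiff.2 ⟨h4, fun hm => ?_⟩, mem_compl.2 h5'⟩⟩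
      simp only [mem_insert, mem_singleton] at hm
      rcases hm with e | e | e
      · exact z1 (h.injective (e.trans e1.symm))
      · exact hv (h.injective (e.trans e2.symm) ▸ hzS)
      · exact hw (h.injective (e.trans e3.symm) ▸ hzS)
    · rw [hT2c]
      refine Nat.add_le_add ?_ le_rfl
      rw [sum_pair (Ne.symm hδγ)]
      rw [filter_false_of_mem (s := F) (p := fun h => h δ ∈ S ∧ h (x δ) ∉ S)
          (fun h hh h' => h'.2 (by
            rw [hδ, hxx, (mem_fam.1 hh).2.1]; exact hγ))]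
      rw [card_empty, add_zero, show n - s = Sᶜ.card from (card_compl S).symm, ← src_one C ha hδfree hA]
      exact card_le_card fun h hh => mem_filter.2 ⟨(mem_filter.1 hh).1, mem_compl.2 (mem_filter.1 hh).2.2⟩
  -- the commutators
  have hlow : s * F.card + (n - s) * (M - 1) * N ≤ ∑ h ∈ F, bound S x h := by
    rw [show n - s = Sᶜ.card from (card_compl S).symm, ← src_one C ha hδfree hA, mul_comm, ← smul_eq_mul, ← sum_const, card_filter,
      ← sum_add_distrib]
    refine sum_le_sum fun h hh => le_trans ?_ (moved_le x h)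
    obtain ⟨hH, e1, e2, e3⟩ := mem_fam.1 hh
    set c := x * (h * x * h⁻¹) * x⁻¹ * (h * x * h⁻¹)⁻¹ with hc
    have hxi : x⁻¹ = x := by ext z; rw [inv_eq_iff_eq, hxx]
    have hyi : (h * x * h⁻¹)⁻¹ = h * x * h⁻¹ := by rw [mul_inv_rev, mul_inv_rev, inv_inv, hxi, mul_assoc]
    have hcH : c ∈ H := mul_mem (mul_mem (mul_mem hx (mul_mem (mul_mem hH hx) (inv_mem hH))) (inv_mem hx))
      (inv_mem (mul_mem (mul_mem hH hx) (inv_mem hH)))
    have hxv : x v = v := notMem_support.1 hv
    have hcδ : c δ = x (h δ) := by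
      simp only [hc, hyi, hxi, mul_apply]
      rw [hinvδ h hh, hxv, e2, hδ, hxx, hinvγ h hh, ← hδ]
    have hne : c ≠ 1 := fun e => by
      rw [e, one_apply] at hcδ
      exact mem_support.1 hγ (h.injective ((x.injective hcδ.symm).trans e1.symm))
    have hge := hmin c hcH hne
    by_cases hout : h δ ∈ Sᶜ
    · rw [if_pos hout]
      by_contra hlt
      push Not at hlt
      have heq : c.support.card = s := by omega
      rw [mem_compl, hS, notMem_support] at hout
      rw [hout] at hcδ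
      have hcd : c (h δ) = γ := by
        simp only [hc, hyi, hxi, mul_apply]
        rw [show h⁻¹ (h δ) = δ by simp, show x δ = γ by rw [hδ, hxx], e1, ← hδ, hinvδ h hh, hxv, e2, hδ, hxx]
      have hcg : c γ = δ := by
        simp only [hc, hyi, hxi, mul_apply]
        rw [hinvγ h hh, ← hδ, hout, show h⁻¹ (h δ) = δ by simp, show x δ = γ by rw [hδ, hxx], e1, ← hδ]
      have h3 : (c ^ 3) δ = δ := by
        simp only [pow_succ, pow_zero, one_mul, mul_apply]
        rw [hcδ, hcd, hcg]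
      have hdiv : 3 ∣ orderOf c := by
        by_contra hnd
        obtain ⟨k, hk⟩ := exists_pow_eq_self_of_coprime (x := c) (n := 3)
          ((Nat.prime_three.coprime_iff_not_dvd).2 hnd)
        have : c δ = δ := by
          conv_lhs => rw [← hk]
          exact pow_apply_eq_self_of_apply_eq_self h3 k
        rw [hcδ] at this
        exact mem_support.1 hδS (by
          rw [← this]; exact hout)
      obtain ⟨d, hd⟩ := hdiv
      have hd0 : d ≠ 0 := fun e => (orderOf_pos c).ne' (by rw [hd, e, mul_zero])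
      have hy3 : orderOf (c ^ d) = 3 := by
        rw [orderOf_pow, hd, Nat.gcd_mul_left_left, Nat.mul_div_cancel _ (Nat.pos_of_ne_zero hd0)]
      refine hcon _ (pow_mem hcH d) hy3 (le_antisymm ?_ (hmin _ (pow_mem hcH d) fun e => ?_))
      · exact (card_le_card (support_pow_le c d)).trans_eq heq
      · rw [e, orderOf_one] at hy3; omega
    · rw [if_neg hout]
      simpa using hge
  rw [sum_bound, hFc] at hlow
  have key := hlow.trans (Nat.add_le_add (Nat.add_le_add b1 b2) b3)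
  have hnum := arith_two hs4 hs (show M + 3 = n by omega)
  have := Nat.mul_lt_mul_of_pos_right hnum C.pos
  nlinarith

include h5 in
/-- **Bochert**: a 5-fold transitive group with an element moving fewer than half the points contains
the alternating group. -/
theorem alternatingGroup_le_of_small_support {g : Perm α} (hg : g ∈ H) (hg1 : g ≠ 1)
    (hs : 2 * g.support.card + 1 ≤ Fintype.card α) : alternatingGroup α ≤ H := by
  classical
  have h2 : 2 ≤ g.support.card := two_le_card_support_of_ne_one hg1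
  have hn : 5 ≤ Fintype.card α := by omega
  haveI := h5
  haveI : IsMultiplyPretransitive H α 2 :=
    MulAction.isMultiplyPretransitive_of_le (n := 5) (by norm_num) (by rw [Nat.card_eq_fintype_card]; omega)
  have hprim : IsPreprimitive H α := isPreprimitive_of_is_two_pretransitive inferInstance
  obtain ⟨x, hxm, hxmin⟩ := (univ.filter fun y : Perm α => y ∈ H ∧ y ≠ 1).exists_min_image
    (fun y => y.support.card) ⟨g, by simp [hg, hg1]⟩
  simp only [mem_filter, mem_univ, true_and] at hxm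
  obtain ⟨hx, hx1⟩ := hxm
  have hmin : ∀ y ∈ H, y ≠ 1 → x.support.card ≤ y.support.card := fun y hy hy1 =>
    hxmin y (by simp [hy, hy1])
  have hxs : 2 * x.support.card + 1 ≤ Fintype.card α := by have := hmin g hg hg1; omega
  -- a power of prime order
  have cyc : ∀ y ∈ H, ∀ p : ℕ, p.Prime → orderOf y = p → y.support.card = x.support.card → y.IsCycle →
      alternatingGroup α ≤ H := by
    intro y hy p hp hop hys hc
    have hp' : y.support.card = p := hc.orderOf.symm.trans hop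
    exact Cfsg.Agent.S0713.result H hprim hp hn (by omega) hc hp' hy
  obtain ⟨p, hp, hpd⟩ := Nat.exists_prime_and_dvd (n := orderOf x) (fun e => hx1 (orderOf_eq_one_iff.1 e))
  set y := x ^ (orderOf x / p) with hy
  have hyo : orderOf y = p := orderOf_pow_orderOf_div (orderOf_pos x).ne' hpd
  have hy1 : y ≠ 1 := fun e => by rw [e, orderOf_one] at hyo; exact hp.ne_one hyo.symm
  have hyH : y ∈ H := pow_mem hx _
  have hys : y.support.card = x.support.card :=
    le_antisymm (card_le_card (support_pow_le x _)) (hmin y hyH hy1)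
  have hminy : ∀ z ∈ H, z ≠ 1 → y.support.card ≤ z.support.card := fun z hz hz1 => hys ▸ hmin z hz hz1
  by_cases hc : y.IsCycle
  · exact cyc y hyH p hp hyo hys hc
  by_cases hp2 : p = 2
  · subst hp2
    obtain ⟨z, hz, hzo, hzs⟩ := two_case h5 hn hyH hyo (by omega) hc hminy
    by_cases hc' : z.IsCycle
    · exact cyc z hz 3 Nat.prime_three hzo (hzs.trans hys) hc'
    · exact (odd_case h5 hn hz Nat.prime_three (by norm_num) hzo (by omega) hc'
        (fun w hw hw1 => hzs ▸ hminy w hw hw1)).elim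
  · exact (odd_case h5 hn hyH hp hp2 hyo (by omega) hc hminy).elim

end Cfsg.Agent.H77.Bochert
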