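import Mathlib.GroupTheory.Transfer
import Mathlib.GroupTheory.SpecificGroups.Cyclic
import Mathlib.GroupTheory.Solvable
import Cfsg.Agent.H24.Solv
import Cfsg.Agent.H77.Subnormal

/-!
A subgroup of prime power index which is cyclic-by-(cyclic 2-group) forces solvability, given
Burnside's theorem on conjugacy classes of prime power size.
-/

namespace Cfsg.Agent.H77

open Subgroup

universe u

/-- `X` is cyclic-by-(cyclic 2-group). -/
def IsCycByTwoCyc (X : Type*) [Group X] : Prop :=
  ∃ (B : Subgroup X) (_ : B.Normal), IsCyclic B ∧ IsCyclic (X ⧸ B) ∧ ∃ r, B.index = 2 ^ r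

theorem IsCycByTwoCyc.isSolvable {X : Type*} [Group X] (h : IsCycByTwoCyc X) : Group.IsSolvable X := by
  obtain ⟨B, hB, hBc, hQ, -⟩ := h
  haveI := hBc
  haveI := hQ
  haveI : Group.IsSolvable B := Group.isSolvable_of_comm fun a b =>
    (IsCyclic.isMulCommutative (α := B)).is_comm.comm a b
  haveI : Group.IsSolvable (X ⧸ B) := Group.isSolvable_of_comm fun a b =>
    (IsCyclic.isMulCommutative (α := X ⧸ B)).is_comm.comm a b
  exact Group.isSolvable_of_ker_le_range B.subtype (QuotientGroup.mk' B)
    (by rw [QuotientGroup.ker_mk', Subgroup.range_subtype])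

theorem IsCycByTwoCyc.of_surjective {X Y : Type*} [Group X] [Group Y] (h : IsCycByTwoCyc X)
    (f : X →* Y) (hf : Function.Surjective f) : IsCycByTwoCyc Y := by
  obtain ⟨B, hB, hBc, hQ, r, hr⟩ := h
  haveI hBn : (B.map f).Normal := hB.map f hf
  haveI := hBc
  haveI := hQ
  refine ⟨B.map f, hBn, isCyclic_of_surjective (f.subgroupMap B) (f.subgroupMap_surjective B),
    isCyclic_of_surjective (QuotientGroup.map B (B.map f) f (Subgroup.le_comap_map f B)) ?_, ?_⟩
  · intro y
    obtain ⟨y, rfl⟩ := QuotientGroup.mk_surjective y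
    obtain ⟨x, rfl⟩ := hf y
    exact ⟨x, rfl⟩
  · obtain ⟨k, -, hk⟩ := (Nat.dvd_prime_pow Nat.prime_two).mp (hr ▸ B.index_map_dvd hf)
    exact ⟨k, hk⟩

theorem IsCycByTwoCyc.of_injective {X Y : Type*} [Group X] [Group Y] (h : IsCycByTwoCyc Y)
    (f : X →* Y) (hf : Function.Injective f) : IsCycByTwoCyc X := by
  obtain ⟨B, hB, hBc, hQ, r, hr⟩ := h
  haveI hBn : (B.comap f).Normal := hB.comap f
  haveI := hBc
  haveI := hQ
  let g : B.comap f →* B := (f.comp (B.comap f).subtype).codRestrict B fun x => x.2
  have hg : Function.Injective g := fun a b hab =>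
    Subtype.ext (hf (congrArg Subtype.val hab))
  let q : (X ⧸ B.comap f) →* Y ⧸ B := QuotientGroup.map (B.comap f) B f le_rfl
  have hq : Function.Injective q := by
    rw [← MonoidHom.ker_eq_bot_iff, eq_bot_iff]
    intro x hx
    obtain ⟨x, rfl⟩ := QuotientGroup.mk_surjective x
    have : f x ∈ B := (QuotientGroup.eq_one_iff _).mp hx
    exact Subgroup.mem_bot.mpr ((QuotientGroup.eq_one_iff x).mpr this)
  refine ⟨B.comap f, hBn, isCyclic_of_injective g hg, isCyclic_of_injective q hq, ?_⟩
  have hd : (B.comap f).index ∣ 2 ^ r := by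
    rw [← hr, Subgroup.index_comap]
    exact Subgroup.relIndex_dvd_index_of_normal B f.range
  obtain ⟨k, -, hk⟩ := (Nat.dvd_prime_pow Nat.prime_two).mp hd
  exact ⟨k, hk⟩

/-- Burnside's theorem on classes of prime power size, as a hypothesis. -/
def BurnsideClassProp : Prop :=
  ∀ (G : Type u) [Group G] [Finite G] [IsSimpleGroup G] (p k : ℕ), p.Prime → ∀ g : G, g ≠ 1 →
    (Subgroup.centralizer ({g} : Set G)).index = p ^ k → (Nat.card G).Prime

theorem solvable_of_prime_power_index (HB : BurnsideClassProp.{u}) {G : Type u} [Group G] [Finite G]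
    (A : Subgroup G) (p s : ℕ) (hp : p.Prime) (hA : A.index = p ^ s) (hP : IsCycByTwoCyc A) :
    Group.IsSolvable G := by
  induction hn : Nat.card G using Nat.strong_induction_on generalizing G s with
  | _ n ih =>
    subst hn
    rcases subsingleton_or_nontrivial G with hsub | hnt
    · exact Group.isSolvable_of_comm fun a b => Subsingleton.elim _ _
    obtain ⟨N, -, hN, hNb, hmin⟩ := H24.exists_minimal_normal (⊤ : Subgroup G) inferInstance top_ne_bot
    haveI := hN
    by_cases hNt : N = ⊤
    · -- simple case
      subst hNt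
      haveI : IsSimpleGroup G := ⟨fun M hM => hmin M hM le_top⟩
      by_contra hns
      have hnp : ¬ (Nat.card G).Prime := by
        intro hpr
        haveI := Fact.mk hpr
        haveI := isCyclic_of_prime_card (α := G) rfl
        exact hns (Group.isSolvable_of_comm fun a b => (IsCyclic.isMulCommutative (α := G)).is_comm.comm a b)
      -- an element of prime power class size gives a contradiction
      have hkey : ∀ g : G, g ≠ 1 → ∀ q k : ℕ, q.Prime →
          (Subgroup.centralizer ({g} : Set G)).index ∣ q ^ k → False := by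
        intro g hg q k hq hd
        obtain ⟨j, -, hj⟩ := (Nat.dvd_prime_pow hq).mp hd
        exact hnp (HB G q j hq g hg hj)
      have hAab : IsMulCommutative A → False := by
        intro hab
        by_cases hAb : A = ⊥
        · subst hAb
          rw [Subgroup.index_bot] at hA
          haveI := Fact.mk hp
          haveI := (IsPGroup.of_card hA).isNilpotent
          exact hns inferInstance
        · obtain ⟨a, ha, ha1⟩ := A.bot_or_exists_ne_one.resolve_left hAb
          refine hkey a ha1 p s hp (hA ▸ Subgroup.index_dvd_of_le ?_)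
          intro x hx
          rw [Subgroup.mem_centralizer_singleton_iff]
          exact congrArg Subtype.val (hab.is_comm.comm ⟨x, hx⟩ ⟨a, ha⟩)
      obtain ⟨B, hBn, hBc, hQ, r, hr⟩ := hP
      haveI := hBn
      haveI := hBc
      haveI := hQ
      by_cases hBb : B = ⊥
      · subst hBb
        refine hAab ⟨⟨fun x y => ?_⟩⟩
        have := (IsCyclic.isMulCommutative (α := A ⧸ (⊥ : Subgroup A))).is_comm.comm (x : A ⧸ (⊥ : Subgroup A)) y
        rw [← QuotientGroup.mk_mul, ← QuotientGroup.mk_mul, QuotientGroup.eq, Subgroup.mem_bot] at this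
        exact inv_mul_eq_one.mp this
      have hcA : ∀ b : B, ((b : A) : G) ≠ 1 → (∀ a : A, a * (b : A) = (b : A) * a) → False := by
        intro b hb hc
        refine hkey _ hb p s hp (hA ▸ Subgroup.index_dvd_of_le ?_)
        intro x hx
        rw [Subgroup.mem_centralizer_singleton_iff]
        exact congrArg Subtype.val (hc ⟨x, hx⟩)
      by_cases h2B : 2 ∣ Nat.card B
      · haveI : Fact (Nat.Prime 2) := ⟨Nat.prime_two⟩
        obtain ⟨z, hz⟩ := exists_prime_orderOf_dvd_card' 2 h2B
        refine hcA z (fun h => ?_) fun a => ?_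
        · have : z = 1 := Subtype.ext (Subtype.ext h)
          rw [this, orderOf_one] at hz
          exact absurd hz (by norm_num)
        · haveI := Fintype.ofFinite B
          have hw : (⟨a * (z : A) * a⁻¹, hBn.conj_mem _ z.2 a⟩ : B) ∈
              Finset.univ.filter (fun w : B => orderOf w = 2) := by
            rw [Finset.mem_filter]
            refine ⟨Finset.mem_univ _, ?_⟩
            rw [← Subgroup.orderOf_coe]
            show orderOf (MulAut.conj a (z : A)) = 2
            rw [MulEquiv.orderOf_eq, Subgroup.orderOf_coe, hz]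
          have hcard := IsCyclic.card_orderOf_eq_totient (α := B) (d := 2)
            (by rwa [← Nat.card_eq_fintype_card])
          rw [Nat.totient_two, Finset.card_eq_one] at hcard
          obtain ⟨w, hwu⟩ := hcard
          have e1 := hwu ▸ hw
          have e2 : z ∈ Finset.univ.filter (fun w : B => orderOf w = 2) :=
            Finset.mem_filter.mpr ⟨Finset.mem_univ _, hz⟩
          rw [hwu, Finset.mem_singleton] at e2
          rw [Finset.mem_singleton] at e1
          have : a * (z : A) * a⁻¹ = (z : A) := congrArg Subtype.val (e1.trans e2.symm)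
          exact mul_inv_eq_iff_eq_mul.mp this
      have hcardA : Nat.card A = Nat.card B * 2 ^ r := by rw [← hr, B.card_mul_index]
      by_cases hp2 : p = 2
      · subst hp2
        obtain ⟨b, hbB, hb1⟩ := B.bot_or_exists_ne_one.resolve_left hBb
        refine hkey (b : G) (fun h => hb1 (Subtype.ext h)) 2 (r + s) Nat.prime_two ?_
        have hle : B.map A.subtype ≤ Subgroup.centralizer ({(b : G)} : Set G) := by
          rintro _ ⟨x, hx, rfl⟩
          rw [Subgroup.mem_centralizer_singleton_iff]
          have := (IsCyclic.isMulCommutative (α := B)).is_comm.comm ⟨x, hx⟩ ⟨b, hbB⟩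
          exact congrArg (fun y : B => ((y : A) : G)) this
        refine (Subgroup.index_dvd_of_le hle).trans ?_
        rw [Subgroup.index_map_subtype, hr, hA, pow_add]
      rcases Nat.eq_zero_or_pos r with hr0 | hr0
      · subst hr0
        rw [pow_zero, Subgroup.index_eq_one] at hr
        subst hr
        refine hAab ⟨⟨fun x y => ?_⟩⟩
        exact congrArg Subtype.val ((IsCyclic.isMulCommutative (α := (⊤ : Subgroup A))).is_comm.comm
          ⟨x, Subgroup.mem_top x⟩ ⟨y, Subgroup.mem_top y⟩)
      haveI : Fact (Nat.Prime 2) := ⟨Nat.prime_two⟩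
      have hcop2 : ¬ 2 ∣ Nat.card B * p ^ s := by
        intro h
        rcases Nat.prime_two.dvd_mul.mp h with h | h
        · exact h2B h
        · exact hp2 ((Nat.prime_dvd_prime_iff_eq Nat.prime_two hp).mp (Nat.prime_two.dvd_of_dvd_pow h)).symm
      have hcardG : Nat.card G = 2 ^ r * (Nat.card B * p ^ s) := by
        rw [← A.card_mul_index, hA, hcardA]; ring
      have hfac : (Nat.card G).factorization 2 = r := by
        rw [hcardG, Nat.factorization_mul (by positivity)
          (Nat.mul_ne_zero Nat.card_pos.ne' (pow_ne_zero _ hp.ne_zero)), Finsupp.add_apply,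
          Nat.Prime.factorization_pow Nat.prime_two, Finsupp.single_eq_same,
          Nat.factorization_eq_zero_of_not_dvd hcop2, add_zero]
      obtain ⟨T, hT⟩ := Sylow.exists_subgroup_card_pow_prime (G := A) 2 (n := r)
        (hcardA ▸ Dvd.intro_left _ rfl)
      let T' : Sylow 2 G := Sylow.ofCard (T.map A.subtype) (by
        rw [← Nat.card_congr (T.equivMapOfInjective _ A.subtype_injective).toEquiv, hT, hfac])
      have hTc : IsCyclic T' := by
        let f : T →* A ⧸ B := (QuotientGroup.mk' B).comp T.subtype
        have hf : Function.Injective f := by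
          rw [← MonoidHom.ker_eq_bot_iff, eq_bot_iff]
          intro x hx
          have hxB : (x : A) ∈ B := (QuotientGroup.eq_one_iff _).mp hx
          have h1 : orderOf (x : A) ∣ Nat.card B := Subgroup.orderOf_dvd_natCard B hxB
          have h2 : orderOf (x : A) ∣ 2 ^ r := hT ▸ Subgroup.orderOf_dvd_natCard T x.2
          have h3 : orderOf (x : A) ∣ 1 :=
            (Nat.Coprime.pow_right r ((Nat.prime_two.coprime_iff_not_dvd).mpr h2B).symm) ▸ Nat.dvd_gcd h1 h2
          exact Subgroup.mem_bot.mpr (Subtype.ext (orderOf_eq_one_iff.mp (Nat.dvd_one.mp h3)))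
        haveI := isCyclic_of_injective f hf
        exact isCyclic_of_surjective (T.equivMapOfInjective _ A.subtype_injective).toMonoidHom
          (MulEquiv.surjective _)
      have hmin2 : (Nat.card G).minFac = 2 := by
        refine (Nat.minFac_eq_two_iff _).mpr ?_
        rw [hcardG]; exact Dvd.dvd.mul_right (dvd_pow_self 2 hr0.ne') _
      have hC := IsCyclic.isComplement' hmin2 (P := T') hTc
      set K := (MonoidHom.transferSylow T' (hTc.normalizer_le_centralizer hmin2)).ker
      have hTb : (T' : Subgroup G) ≠ ⊥ :=
        T'.ne_bot_of_dvd_card (by rw [hcardG]; exact Dvd.dvd.mul_right (dvd_pow_self 2 hr0.ne') _)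
      rcases hmin K inferInstance le_top with hK | hK
      · rw [hK] at hC
        have hTt := Subgroup.isComplement'_bot_left.mp hC
        have h2g : IsPGroup 2 G := fun x => by
          obtain ⟨k, hk⟩ := T'.isPGroup' ⟨x, hTt ▸ Subgroup.mem_top x⟩
          exact ⟨k, congrArg Subtype.val hk⟩
        haveI := h2g.isNilpotent
        exact hns inferInstance
      · rw [hK] at hC
        exact hTb (Subgroup.isComplement'_top_left.mp hC)
    · -- reduction to `N` and `G ⧸ N`
      have h1 : Group.IsSolvable N := by
        obtain ⟨j, -, hj⟩ := (Nat.dvd_prime_pow hp).mp (hA ▸ relIndex_dvd_index_of_right_normal N A)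
        let g : A.subgroupOf N →* A := (N.subtype.comp (A.subgroupOf N).subtype).codRestrict A fun x => x.2
        have hg : Function.Injective g := fun a b hab =>
          Subtype.ext (Subtype.ext (congrArg (fun y : A => (y : G)) hab))
        exact ih _ (lt_of_le_of_ne (Subgroup.card_le_card_group N) fun e =>
          hNt (Subgroup.eq_top_of_card_eq N e)) (A.subgroupOf N) j hj (hP.of_injective g hg) rfl
      have h2 : Group.IsSolvable (G ⧸ N) := by
        have hs := QuotientGroup.mk'_surjective N
        obtain ⟨j, -, hj⟩ := (Nat.dvd_prime_pow hp).mp (hA ▸ A.index_map_dvd hs)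
        refine ih _ ?_ (A.map (QuotientGroup.mk' N)) j hj
          (hP.of_surjective ((QuotientGroup.mk' N).subgroupMap A) (MonoidHom.subgroupMap_surjective _ A)) rfl
        rw [N.card_eq_card_quotient_mul_card_subgroup]
        exact lt_mul_of_one_lt_right Nat.card_pos (N.one_lt_card_iff_ne_bot.mpr hNb)
      exact Group.isSolvable_of_ker_le_range N.subtype (QuotientGroup.mk' N)
        (by rw [QuotientGroup.ker_mk', Subgroup.range_subtype])

end Cfsg.Agent.H77
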