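import Cfsg.Agent.H77.Splitting

/-!
Kegel: if all elements outside a normal subgroup `H` of prime index `p` have order dividing `p`
then `H` is nilpotent. Hughes-Thompson: the index of a proper Hughes subgroup of a non-`p`-group
is `p`.
-/

namespace Cfsg.Agent.H77

open Subgroup
open scoped IsMulCommutative

universe u

theorem isNilpotent_of_injective {A B : Type*} [Group A] [Group B] (f : A →* B)
    (hf : Function.Injective f) [Group.IsNilpotent B] : Group.IsNilpotent A :=
  Subgroup.isNilpotent_of_ker_le_center f (by rw [(MonoidHom.ker_eq_bot_iff f).mpr hf]; exact bot_le)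

theorem isNilpotent_of_subgroup_le {G : Type*} [Group G] {A B : Subgroup G} (h : A ≤ B)
    (hB : Group.IsNilpotent B) : Group.IsNilpotent A :=
  haveI := hB
  isNilpotent_of_injective (Subgroup.inclusion h) (Subgroup.inclusion_injective h)

variable {G : Type u} [Group G] [Finite G]

/-- A subgroup containing a normal subgroup of prime index and an element outside it is everything. -/
theorem eq_top_of_prime_index {p : ℕ} (hp : p.Prime) {H K : Subgroup G} (hidx : H.index = p)
    (hle : H ≤ K) {x : G} (hxK : x ∈ K) (hxH : x ∉ H) : K = ⊤ := by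
  have hd : K.index ∣ p := hidx ▸ Subgroup.index_dvd_of_le hle
  rcases (Nat.dvd_prime hp).mp hd with h | h
  · exact Subgroup.index_eq_one.mp h
  · exfalso
    have := Subgroup.relIndex_mul_index hle
    rw [h, hidx] at this
    have h1 : H.relIndex K = 1 := by
      have := hp.pos; nlinarith
    exact hxH (Subgroup.relIndex_eq_one.mp h1 hxK)

/-- A conjugation product over a subgroup is fixed by that subgroup. -/
theorem conj_prod_fixed {W Q : Subgroup G} [IsMulCommutative W] [Fintype Q]
    (hQW : Q ≤ Subgroup.normalizer (W : Set G)) (w : W) (t : Q) :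
    cAut (W := W) ⟨t, hQW t.2⟩ (∏ s : Q, cAut (W := W) ⟨s, hQW s.2⟩ w) =
      ∏ s : Q, cAut (W := W) ⟨s, hQW s.2⟩ w := by
  rw [map_prod]
  refine Fintype.prod_equiv (Equiv.mulLeft t) _ _ fun s => ?_
  refine Subtype.ext ?_
  simp only [cAut_coe, Equiv.coe_mulLeft, Subgroup.coe_mul]
  group

theorem nilpotent_of_split (GT : GTHyp.{u}) {p : ℕ} (hp : p.Prime) (H : Subgroup G) (hHn : H.Normal)
    (hidx : H.index = p) (hsp : ∀ g : G, g ∉ H → g ^ p = 1) : Group.IsNilpotent H := by
  induction hn : Nat.card G using Nat.strong_induction_on generalizing G with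
  | _ n ih =>
    subst hn
    haveI := Fact.mk hp
    haveI := hHn
    by_cases hHb : H = ⊥
    · subst hHb; infer_instance
    -- proper invariant subgroups of `H` are nilpotent
    have hsub : ∀ H' : Subgroup G, H' < H → ∀ x : G, x ∉ H →
        x ∈ Subgroup.normalizer (H' : Set G) → Group.IsNilpotent H' := by
      intro H' hH' x hxH hxN
      set G' := H' ⊔ Subgroup.zpowers x with hG'
      have hxo : orderOf x = p := orderOf_eq_prime (hsp x hxH) fun e => hxH (e ▸ one_mem H)
      have hcard : Nat.card G' < Nat.card G := by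
        have hd : H' ⊓ Subgroup.zpowers x = ⊥ := by
          rw [eq_bot_iff]
          rintro y ⟨hy, hyx⟩
          by_contra hy1
          obtain ⟨k, rfl⟩ := Subgroup.mem_zpowers_iff.mp hyx
          haveI : Fact p.Prime := ⟨hp⟩
          have hc : Nat.card (Subgroup.zpowers x) = p := by rw [Nat.card_zpowers, hxo]
          have : Subgroup.zpowers (x ^ k) = Subgroup.zpowers x := by
            have hle : Subgroup.zpowers (x ^ k) ≤ Subgroup.zpowers x :=
              Subgroup.zpowers_le.mpr (Subgroup.zpow_mem_zpowers x k)
            refine Subgroup.eq_of_le_of_card_ge hle ?_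
            rcases (Nat.dvd_prime hp).mp (hc ▸ Subgroup.card_dvd_of_le hle) with h | h
            · exact absurd (Subgroup.card_eq_one.mp h) (fun e => hy1 (Subgroup.zpowers_eq_bot.mp e ▸ one_mem _))
            · rw [h, hc]
          exact hxH ((Subgroup.zpowers_le.mpr (hH'.le hy)) (this ▸ Subgroup.mem_zpowers x))
        rw [hG', Coprime.card_sup (Subgroup.zpowers_le.mpr hxN) hd, Nat.card_zpowers, hxo,
          ← H.card_mul_index, hidx]
        refine Nat.mul_lt_mul_of_pos_right ?_ hp.pos
        exact lt_of_le_of_ne (Subgroup.card_le_of_le hH'.le) fun e =>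
          hH'.ne (Subgroup.eq_of_le_of_card_ge hH'.le e.ge)
      have hidx' : (H.subgroupOf G').index = p := by
        refine ((Nat.dvd_prime hp).mp (hidx ▸ Subgroup.relIndex_dvd_index_of_normal H G')).resolve_left
          fun e => hxH ?_
        exact Subgroup.relIndex_eq_one.mp e (Subgroup.mem_sup_right (Subgroup.mem_zpowers x))
      haveI := ih _ hcard (H.subgroupOf G') inferInstance hidx'
        (fun g hg => Subtype.ext (hsp g hg)) rfl
      let f : H' →* H.subgroupOf G' :=
        (Subgroup.inclusion (le_sup_left : H' ≤ G')).codRestrict _ fun y => hH'.le y.2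
      exact isNilpotent_of_injective f fun a b hab =>
        Subtype.ext (congrArg (fun y : H.subgroupOf G' => ((y : G') : G)) hab)
    -- quotients
    have hquot : ∀ N : Subgroup G, N.Normal → N ≤ H → N ≠ ⊥ →
        ∃ k, H.lowerCentralSeries k ≤ N := by
      intro N hN hNH hNb
      haveI := hN
      have hs := QuotientGroup.mk'_surjective N
      have hcard : Nat.card (G ⧸ N) < Nat.card G := by
        rw [N.card_eq_card_quotient_mul_card_subgroup]
        exact lt_mul_of_one_lt_right Nat.card_pos (N.one_lt_card_iff_ne_bot.mpr hNb)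
      have hker : (QuotientGroup.mk' N).ker ≤ H := by rw [QuotientGroup.ker_mk']; exact hNH
      have hnil := ih _ hcard (H.map (QuotientGroup.mk' N)) (hHn.map _ hs)
        (by rw [Subgroup.index_map_eq H hs hker, hidx]) (fun g hg => by
          obtain ⟨g, rfl⟩ := hs g
          rw [← map_pow, hsp g fun hc => hg (Subgroup.mem_map_of_mem _ hc), map_one]) rfl
      obtain ⟨k, hk⟩ := (isNilpotent_iff_lowerCentralSeries _).mp hnil
      refine ⟨k, ?_⟩
      rw [← map_lowerCentralSeries, Subgroup.map_eq_bot_iff, QuotientGroup.ker_mk'] at hk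
      exact hk
    obtain ⟨N, hNH, hN, hNb, hmin⟩ := H24.exists_minimal_normal H hHn hHb
    haveI := hN
    by_cases hNH' : N = H
    · -- no proper invariant normal subgroup
      subst hNH'
      by_contra hnot
      obtain ⟨q, hq, hqd, hq2⟩ : ∃ q : ℕ, q.Prime ∧ q ∣ Nat.card N ∧ q ≠ 2 := by
        by_contra hc
        push Not at hc
        haveI : Fact (Nat.Prime 2) := ⟨Nat.prime_two⟩
        exact hnot (IsPGroup.of_card (Nat.eq_prime_pow_of_unique_prime_dvd Nat.card_pos.ne'
          (fun {d} hd hdd => hc d hd hdd))).isNilpotent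
      haveI := Fact.mk hq
      let P0 : Sylow q N := default
      set L := (P0 : Subgroup N).map N.subtype with hL
      have hLN : L ≤ N := Subgroup.map_subtype_le _
      have hnot_p : ¬ IsPGroup q N := fun h => hnot h.isNilpotent
      obtain ⟨x, hxL, hxN⟩ : ∃ x, x ∈ Subgroup.normalizer (L : Set G) ∧ x ∉ N := by
        by_contra hc
        push Not at hc
        have := Sylow.normalizer_sup_eq_top P0
        rw [sup_eq_right.mpr hc] at this
        rw [this, Subgroup.index_top] at hidx
        exact hp.ne_one hidx.symm
      set W := Cfsg.centerThompsonOf q L with hW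
      have hxW : x ∈ Subgroup.normalizer (W : Set G) := normalizer_le_normalizer_centerThompsonOf q L hxL
      set H' := Subgroup.normalizer (W : Set G) ⊓ N with hH'
      have hxH' : x ∈ Subgroup.normalizer (H' : Set G) := by
        rw [Subgroup.mem_normalizer_iff]
        intro y
        rw [hH', Subgroup.mem_inf, Subgroup.mem_inf]
        refine and_congr ⟨fun hy => ?_, fun hy => ?_⟩ ⟨fun hy => hN.conj_mem y hy x, fun hy => ?_⟩
        · exact mul_mem (mul_mem hxW hy) (inv_mem hxW)
        · simpa [mul_assoc] using mul_mem (mul_mem (inv_mem hxW) hy) hxW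
        · simpa [mul_assoc] using hN.conj_mem _ hy x⁻¹
      by_cases hH'N : H' = N
      · have : Subgroup.normalizer (W : Set G) = ⊤ :=
          eq_top_of_prime_index hp hidx (hH'N.ge.trans inf_le_left) hxW hxN
        haveI := Subgroup.normalizer_eq_top_iff.mp this
        have hLp : IsPGroup q L := P0.isPGroup'.map _
        have hLb : L ≠ ⊥ := by
          rw [hL, Ne, Subgroup.map_eq_bot_iff_of_injective _ N.subtype_injective]
          exact P0.ne_bot_of_dvd_card hqd
        have hWL : W ≤ L := centerThompsonOf_le q L
        rcases hmin W inferInstance (hWL.trans hLN) with h | h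
        · exact centerThompsonOf_ne_bot hLp hLb h
        · exact hnot_p (hLp.to_le (h.ge.trans hWL))
      have hnil := hsub H' (lt_of_le_of_ne inf_le_right hH'N) x hxN hxH'
      have hNPC : Cfsg.HasNormalPComplement q
          (Subgroup.normalizer (Cfsg.centerThompsonOf q (P0 : Subgroup N) : Set N)) := by
        haveI := hnil
        haveI : Group.IsNilpotent (Subgroup.normalizer (Cfsg.centerThompsonOf q (P0 : Subgroup N) : Set N)) := by
          have hle : (Subgroup.normalizer (Cfsg.centerThompsonOf q (P0 : Subgroup N) : Set N)).map N.subtype ≤ H' := by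
            rintro _ ⟨y, hy, rfl⟩
            refine ⟨?_, y.2⟩
            rw [hW, hL, ← centerThompsonOf_map q N.subtype N.subtype_injective]
            exact Subgroup.le_normalizer_map _ ⟨y, hy, rfl⟩
          exact isNilpotent_of_injective ((N.subtype.comp (Subgroup.subtype _)).codRestrict H'
            fun y => hle ⟨_, y.2, rfl⟩) fun a b hab =>
              Subtype.ext (Subtype.ext (congrArg (fun y : H' => (y : G)) hab))
        exact Fusion.hasNormalPComplement_of_isNilpotent
      have h := GT N q hq2 P0 hNPC
      have hK := (Fusion.hasNormalPComplement_iff_pResidual).mp h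
      haveI : (Cfsg.pResidual q N).Characteristic := inferInstance
      rcases hmin ((Cfsg.pResidual q N).map N.subtype) inferInstance (Subgroup.map_subtype_le _) with e | e
      · rw [Subgroup.map_eq_bot_iff_of_injective _ N.subtype_injective] at e
        have hq' := Fusion.isPGroup_quotient_pResidual (p := q) (G := N)
        refine hnot_p (hq'.of_injective (QuotientGroup.mk' (Cfsg.pResidual q N)) ?_)
        rw [← MonoidHom.ker_eq_bot_iff, QuotientGroup.ker_mk', e]
      · have : Cfsg.pResidual q N = ⊤ := by
          refine Subgroup.map_injective N.subtype_injective ?_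
          rw [e, ← MonoidHom.range_eq_map, Subgroup.range_subtype]
        rw [this, Subgroup.card_top] at hK
        exact hK hqd
    -- the solvable case
    have hltN : N < H := lt_of_le_of_ne hNH hNH'
    obtain ⟨x₀, hx₀⟩ : ∃ x, x ∉ H := by
      by_contra hc
      push Not at hc
      rw [show H = ⊤ from top_le_iff.mp fun y _ => hc y, Subgroup.index_top] at hidx
      exact hp.ne_one hidx.symm
    have hNnil := hsub N hltN x₀ hx₀ (Subgroup.normalizer_eq_top_iff.mpr hN ▸ Subgroup.mem_top _)
    haveI : Group.IsSolvable N := by haveI := hNnil; infer_instance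
    obtain ⟨hNc, r, hr, hNexp⟩ := H24.minimal_normal_elementary N hNb
      fun M hM hMN => hmin M hM hMN
    haveI := Fact.mk hr
    have hNr : IsPGroup r N := fun v => ⟨1, Subtype.ext (by simpa using hNexp v v.2)⟩
    by_cases huniq : ∀ M : Subgroup G, M.Normal → M ≤ H → M ≠ ⊥ → N ≤ M
    swap
    · push Not at huniq
      obtain ⟨M, hM, hMH, hMb, hNM⟩ := huniq
      haveI := hM
      have hbot : M ⊓ N = ⊥ := (hmin (M ⊓ N) inferInstance inf_le_right).resolve_right
        fun e => hNM (e ▸ inf_le_left)
      obtain ⟨k1, hk1⟩ := hquot M hM hMH hMb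
      obtain ⟨k2, hk2⟩ := hquot N hN hNH hNb
      refine isNilpotent_of_lowerCentralSeries_eq_bot (n := max k1 k2) (le_bot_iff.mp ?_)
      rw [← hbot]
      exact le_inf ((H.lowerCentralSeries_antitone (le_max_left _ _)).trans hk1)
        ((H.lowerCentralSeries_antitone (le_max_right _ _)).trans hk2)
    by_contra hnot
    obtain ⟨q, hq, hqd, hqr⟩ : ∃ q : ℕ, q.Prime ∧ q ∣ Nat.card H ∧ q ≠ r := by
      by_contra hc
      push Not at hc
      exact hnot (IsPGroup.of_card (Nat.eq_prime_pow_of_unique_prime_dvd Nat.card_pos.ne'
        (fun {d} hd hdd => hc d hd hdd))).isNilpotent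
    haveI := Fact.mk hq
    let Q0 : Sylow q H := default
    set Q := (Q0 : Subgroup H).map H.subtype with hQ
    have hQH : Q ≤ H := Subgroup.map_subtype_le _
    have hQq : IsPGroup q Q := Q0.isPGroup'.map _
    have hQb : Q ≠ ⊥ := by
      rw [hQ, Ne, Subgroup.map_eq_bot_iff_of_injective _ H.subtype_injective]
      exact Q0.ne_bot_of_dvd_card hqd
    have hdisj : N ⊓ Q = ⊥ := (IsPGroup.disjoint_of_ne r q (Ne.symm hqr) _ _ hNr hQq).eq_bot
    set L := N ⊔ Q with hLdef
    haveI hLn : L.Normal := by
      set f := QuotientGroup.mk' N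
      have hs := QuotientGroup.mk'_surjective N
      haveI hHb' : (H.map f).Normal := hHn.map _ hs
      have hnil : Group.IsNilpotent (H.map f) := by
        obtain ⟨k, hk⟩ := hquot N hN hNH hNb
        refine isNilpotent_of_lowerCentralSeries_eq_bot (n := k) ?_
        rw [← map_lowerCentralSeries, Subgroup.map_eq_bot_iff, QuotientGroup.ker_mk']
        exact hk
      let Qb : Sylow q (H.map f) := Q0.mapSurjective (f.subgroupMap_surjective H)
      haveI := hnil
      haveI hQbn : (Qb : Subgroup (H.map f)).Normal :=
        ((Group.isNilpotent_of_finite_tfae (G := H.map f)).out 0 3 rfl rfl |>.mp hnil) q inferInstance Qb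
      haveI := Qb.characteristic_of_normal hQbn
      have hmap : (Qb : Subgroup (H.map f)).map (H.map f).subtype = Q.map f := by
        rw [Sylow.coe_mapSurjective, hQ, Subgroup.map_map, Subgroup.map_map]
        rfl
      haveI : (Q.map f).Normal := hmap ▸ inferInstance
      have : (Q.map f).comap f = L := by
        rw [Subgroup.comap_map_eq, QuotientGroup.ker_mk', sup_comm]
      rw [← this]; infer_instance
    have hLcard : Nat.card L = Nat.card N * Nat.card Q :=
      Coprime.card_sup Subgroup.le_normalizer_of_normal hdisj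
    let QL : Sylow q L := Sylow.ofCard (Q.subgroupOf L) (by
      obtain ⟨a, ha⟩ := IsPGroup.iff_card.mp hQq
      obtain ⟨b, hb⟩ := IsPGroup.iff_card.mp hNr
      rw [Nat.card_congr (Subgroup.subgroupOfEquivOfLe le_sup_right).toEquiv, hLcard, ha, hb,
        Nat.factorization_mul (pow_ne_zero _ hr.ne_zero) (pow_ne_zero _ hq.ne_zero), Finsupp.add_apply,
        hr.factorization_pow, hq.factorization_pow, Finsupp.single_eq_of_ne hqr,
        Finsupp.single_eq_same, zero_add])
    have hNQ : Subgroup.normalizer (Q : Set G) ⊔ N = ⊤ := by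
      have := Sylow.normalizer_sup_eq_top QL
      rw [show ((QL : Subgroup L)).map L.subtype = Q from Subgroup.map_subgroupOf_eq_of_le le_sup_right] at this
      rw [eq_top_iff, ← this]
      exact sup_le le_sup_left (sup_le le_sup_right (Subgroup.le_normalizer.trans le_sup_left))
    haveI := hNc
    obtain ⟨x, hxQ, hxH⟩ : ∃ x, x ∈ Subgroup.normalizer (Q : Set G) ∧ x ∉ H := by
      by_contra hc
      push Not at hc
      exact hx₀ ((sup_le hc hNH : _ ≤ H) (hNQ ▸ Subgroup.mem_top x₀))
    set C := N ⊓ Subgroup.centralizer (Q : Set G) with hC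
    haveI hCn : C.Normal := by
      refine Subgroup.normalizer_eq_top_iff.mp (top_le_iff.mp (hNQ.ge.trans (sup_le ?_ ?_)))
      · refine fun g hg => Subgroup.mem_normalizer_iff.mpr fun y => ?_
        have key : ∀ g ∈ Subgroup.normalizer (Q : Set G), ∀ y ∈ C, g * y * g⁻¹ ∈ C := by
          intro g hg y hy
          refine ⟨hN.conj_mem y hy.1 g, Subgroup.mem_centralizer_iff.mpr fun s hs => ?_⟩
          have h1 : g⁻¹ * s * g ∈ Q := (Subgroup.mem_normalizer_iff''.mp hg s).mp hs
          have h2 := Subgroup.mem_centralizer_iff.mp hy.2 _ h1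
          calc s * (g * y * g⁻¹) = g * (g⁻¹ * s * g * y) * g⁻¹ := by group
            _ = g * (y * (g⁻¹ * s * g)) * g⁻¹ := by rw [h2]
            _ = g * y * g⁻¹ * s := by group
        exact ⟨key g hg y, fun hy => by simpa [mul_assoc] using key g⁻¹ (inv_mem hg) _ hy⟩
      · intro g hg
        refine Subgroup.mem_normalizer_iff.mpr fun y => ?_
        constructor
        · intro hy
          have := congrArg Subtype.val (mul_comm (⟨g, hg⟩ : N) ⟨y, hy.1⟩)
          simp only [Subgroup.coe_mul] at this
          rwa [this, mul_inv_cancel_right]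
        · intro hy
          have hyN : y ∈ N := by simpa [mul_assoc] using hN.conj_mem _ hy.1 g⁻¹
          have := congrArg Subtype.val (mul_comm (⟨g, hg⟩ : N) ⟨y, hyN⟩)
          simp only [Subgroup.coe_mul] at this
          rwa [this, mul_inv_cancel_right] at hy
    rcases hmin C hCn inf_le_left with hCb | hCN
    swap
    · have hNle : N ≤ Subgroup.normalizer (Q : Set G) := fun g hg => by
        have hc := Subgroup.mem_centralizer_iff.mp (hCN.ge hg).2
        refine Subgroup.mem_normalizer_iff.mpr fun s => ⟨fun hs => ?_, fun hs => ?_⟩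
        · rwa [← hc s hs, mul_inv_cancel_right]
        · have := hc _ hs
          rw [inv_mul_cancel_right] at this
          have e : s = g * s * g⁻¹ := mul_left_cancel this
          rwa [← e] at hs
      rw [sup_eq_left.mpr hNle] at hNQ
      haveI := Subgroup.normalizer_eq_top_iff.mp hNQ
      have := huniq Q inferInstance hQH hQb
      rw [inf_eq_left.mpr this] at hdisj
      exact hNb hdisj
    -- the norm identity
    classical
    haveI := Fintype.ofFinite Q
    have hQW : Q ≤ Subgroup.normalizer (N : Set G) := Subgroup.le_normalizer_of_normal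
    have hM : ∀ w : N, ∏ s : Q, cAut (⟨s, hQW s.2⟩ : Subgroup.normalizer (N : Set G)) w = 1 := by
      intro w
      set m := ∏ s : Q, cAut (⟨s, hQW s.2⟩ : Subgroup.normalizer (N : Set G)) w with hm
      have : (m : G) ∈ C := by
        refine ⟨m.2, Subgroup.mem_centralizer_iff.mpr fun t ht => ?_⟩
        have h1 := congrArg Subtype.val (conj_prod_fixed hQW w ⟨t, ht⟩)
        rw [← hm, cAut_coe] at h1
        exact mul_inv_eq_iff_eq_mul.mp h1
      rw [hCb, Subgroup.mem_bot] at this
      exact Subtype.ext this
    have hout : ∀ y : Q, (y : G) * x ∉ H := fun y hc => hxH (by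
      simpa using mul_mem (inv_mem (hQH y.2)) hc)
    let nn : ∀ g : G, Subgroup.normalizer (N : Set G) := fun g =>
      ⟨g, Subgroup.normalizer_eq_top_iff.mpr hN ▸ Subgroup.mem_top g⟩
    have hnorm : ∀ (y : Q) (v : N), normMap (cAut (nn (y * x))) p v = 1 := fun y v =>
      norm_eq_one _ v (hsp _ (hout y)) (hsp _ fun hc => hout y (by
        simpa using mul_mem (inv_mem (hNH v.2)) hc))
    have hkey : ∀ v : N, v ^ Nat.card Q = 1 := by
      intro v
      have hsum : ∏ y : Q, normMap (cAut (nn (y * x))) p v = 1 := Finset.prod_eq_one fun y _ => hnorm y v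
      simp only [normMap] at hsum
      rw [Finset.prod_comm, ← Finset.mul_prod_erase _ _ (Finset.mem_range.mpr hp.pos)] at hsum
      rw [Finset.prod_eq_one (s := (Finset.range p).erase 0)] at hsum
      · simpa [Finset.prod_const, Nat.card_eq_fintype_card] using hsum
      intro j hj
      have hj0 := Finset.ne_of_mem_erase hj
      have hjp : j < p := Finset.mem_range.mp (Finset.mem_of_mem_erase hj)
      have hmem : ∀ i, ∀ y : Q, ((y : G) * x) ^ i * (x ^ i)⁻¹ ∈ Q := by
        intro i y
        induction i with
        | zero => simp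
        | succ i ihi =>
          have e : ((y : G) * x) ^ (i + 1) * (x ^ (i + 1))⁻¹ =
              y * (x * (((y : G) * x) ^ i * (x ^ i)⁻¹) * x⁻¹) := by
            rw [pow_succ', pow_succ' x]; group
          rw [e]
          exact mul_mem y.2 ((Subgroup.mem_normalizer_iff.mp hxQ _).mp ihi)
      let σ : Q → Q := fun y => ⟨_, hmem j y⟩
      have hcop : j.Coprime p :=
        ((hp.coprime_iff_not_dvd).mpr fun hd => hj0 (Nat.eq_zero_of_dvd_of_lt hd hjp)).symm
      have hσ : Function.Injective σ := by
        intro y y' hyy
        have he : ((y : G) * x) ^ j = ((y' : G) * x) ^ j := mul_right_cancel (congrArg Subtype.val hyy)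
        obtain ⟨m, hm⟩ := exists_pow_eq_self_of_coprime (x := (y : G) * x) (n := j)
          (hcop.coprime_dvd_right (orderOf_dvd_of_pow_eq_one (hsp _ (hout y))))
        obtain ⟨m', hm'⟩ := exists_pow_eq_self_of_coprime (x := (y' : G) * x) (n := j)
          (hcop.coprime_dvd_right (orderOf_dvd_of_pow_eq_one (hsp _ (hout y'))))
        have hjm : (j * m) % p = 1 % p := by
          have ho : orderOf ((y : G) * x) = p :=
            orderOf_eq_prime (hsp _ (hout y)) fun e => hout y (e ▸ one_mem H)
          have : ((y : G) * x) ^ (j * m) = ((y : G) * x) ^ 1 := by rw [pow_mul, hm, pow_one]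
          rwa [pow_inj_mod, ho] at this
        have hm2 : (((y' : G) * x) ^ j) ^ m = (y' : G) * x := by
          rw [← pow_mul, pow_eq_pow_mod _ (hsp _ (hout y')), hjm, Nat.one_mod_eq_one.mpr hp.ne_one, pow_one]
        rw [← he, hm] at hm2
        exact Subtype.ext (mul_right_cancel hm2)
      have hbij : Function.Bijective σ := Finite.injective_iff_bijective.mp hσ
      rw [← hM ((cAut (nn x) ^ j) v)]
      refine Fintype.prod_bijective σ hbij _ _ fun y => ?_
      rw [← cAut_pow, ← cAut_pow]
      refine Subtype.ext ?_
      simp only [cAut_coe, SubmonoidClass.coe_pow, nn, σ]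
      group
    have : ∀ v : N, v = 1 := by
      intro v
      have hc : (Nat.card N).Coprime (Nat.card Q) := IsPGroup.coprime_card_of_ne r q (Ne.symm hqr) _ _ hNr hQq
      exact (powCoprime hc).injective (by simp only [powCoprime_apply, hkey v, one_pow])
    exact hNb ((Subgroup.eq_bot_iff_forall N).mpr fun v hv => congrArg Subtype.val (this ⟨v, hv⟩))

end Cfsg.Agent.H77
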