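import Cfsg.Agent.H77.Hughes

/-!
Hughes–Thompson: a proper Hughes subgroup of a group that is not a `p`-group has index `p`.
-/

namespace Cfsg.Agent.H77

open Subgroup
open scoped IsMulCommutative

universe u

variable {G : Type u} [Group G] [Finite G]

theorem hughes_index {p : ℕ} (hp : p.Prime) (hG : ¬ IsPGroup p G) (H : Subgroup G) (hHn : H.Normal)
    (hne : H ≠ ⊤) (hout : ∀ g : G, g ∉ H → g ^ p = 1) : H.index = p := by
  haveI := Fact.mk hp
  haveI := hHn
  have hquo : IsPGroup p (G ⧸ H) := fun x => ⟨1, by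
    obtain ⟨g, rfl⟩ := QuotientGroup.mk_surjective x
    rw [pow_one, ← QuotientGroup.mk_pow, QuotientGroup.eq_one_iff]
    by_cases hg : g ∈ H
    · exact pow_mem hg p
    · rw [hout g hg]; exact one_mem H⟩
  obtain ⟨k, hk⟩ := IsPGroup.iff_card.mp hquo
  have hk' : H.index = p ^ k := hk
  rcases Nat.lt_or_ge k 2 with hk2 | hk2
  · rcases Nat.lt_or_ge k 1 with h0 | h1
    · rw [show k = 0 by omega, pow_zero, Subgroup.index_eq_one] at hk'
      exact absurd hk' hne
    · rw [hk', show k = 1 by omega, pow_one]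
  exfalso
  obtain ⟨q, hq, hqd, hqp⟩ : ∃ q : ℕ, q.Prime ∧ q ∣ Nat.card G ∧ q ≠ p := by
    by_contra hc
    push Not at hc
    exact hG (IsPGroup.of_card (Nat.eq_prime_pow_of_unique_prime_dvd Nat.card_pos.ne'
      (fun {d} hd hdd => hc d hd hdd)))
  haveI := Fact.mk hq
  have hqH : q ∣ Nat.card H := by
    obtain ⟨v, hv⟩ := exists_prime_orderOf_dvd_card' q hqd
    have hvH : v ∈ H := by
      by_contra hc
      have := orderOf_dvd_of_pow_eq_one (hout v hc)
      rw [hv] at this
      exact hqp ((Nat.prime_dvd_prime_iff_eq hq hp).mp this)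
    exact hv ▸ Subgroup.orderOf_dvd_natCard H hvH
  let Q0 : Sylow q H := default
  set Q := (Q0 : Subgroup H).map H.subtype with hQ
  set N := Subgroup.normalizer (Q : Set G) with hN
  have hNH : N ⊔ H = ⊤ := Sylow.normalizer_sup_eq_top Q0
  let R0 : Sylow p N := default
  set R := (R0 : Subgroup N).map N.subtype with hR
  have hRN : R ≤ N := Subgroup.map_subtype_le _
  have hRH : R ⊔ H = ⊤ := by
    let f : N →* G ⧸ H := (QuotientGroup.mk' H).comp N.subtype
    have hf : Function.Surjective f := by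
      intro y
      obtain ⟨g, rfl⟩ := QuotientGroup.mk'_surjective H y
      have hg : g ∈ N ⊔ H := hNH ▸ Subgroup.mem_top g
      rw [← SetLike.mem_coe, Subgroup.mul_normal] at hg
      obtain ⟨n, hn, h, hh, rfl⟩ := hg
      exact ⟨⟨n, hn⟩, by simp [f, (QuotientGroup.eq_one_iff h).mpr hh]⟩
    have htop : (R0 : Subgroup N).map f = ⊤ := by
      have hidx := ((R0 : Subgroup N).index_map_dvd hf)
      obtain ⟨j, hj⟩ := IsPGroup.iff_card.mp hquo
      obtain ⟨i, -, hi⟩ := (Nat.dvd_prime_pow hp).mp (hj ▸ Subgroup.index_dvd_card ((R0 : Subgroup N).map f))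
      rw [hi] at hidx
      rcases Nat.eq_zero_or_pos i with h0 | h0
      · exact Subgroup.index_eq_one.mp (by rw [hi, h0, pow_zero])
      · exact absurd ((dvd_pow_self p h0.ne').trans hidx) R0.not_dvd_index
    rw [eq_top_iff]
    intro g _
    obtain ⟨n, hn, hn'⟩ : (g : G ⧸ H) ∈ (R0 : Subgroup N).map f := htop ▸ Subgroup.mem_top _
    have : (n : G)⁻¹ * g ∈ H := QuotientGroup.eq.mp hn'
    have h2 := mul_mem (Subgroup.mem_sup_left (T := H) (Subgroup.mem_map_of_mem N.subtype hn))
      (Subgroup.mem_sup_right (S := R) this)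
    simpa using h2
  set W := Q ⊓ Subgroup.centralizer (Q : Set G) with hW
  haveI : IsMulCommutative W :=
    ⟨⟨fun a b => Subtype.ext (Subgroup.mem_centralizer_iff.mp b.2.2 a a.2.1)⟩⟩
  have hQq : IsPGroup q Q := Q0.isPGroup'.map _
  have hWq : IsPGroup q W := hQq.to_le inf_le_left
  have hWb : W ≠ ⊥ := by
    haveI : Nontrivial Q := by
      rw [Subgroup.nontrivial_iff_ne_bot, hQ, Ne,
        Subgroup.map_eq_bot_iff_of_injective _ H.subtype_injective]
      exact Q0.ne_bot_of_dvd_card hqH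
    haveI := IsPGroup.center_nontrivial hQq
    obtain ⟨z, hz, hz1⟩ := (Subgroup.center Q).bot_or_exists_ne_one.resolve_left
      ((Subgroup.nontrivial_iff_ne_bot _).mp inferInstance)
    intro hb
    have : (z : G) ∈ W := ⟨z.2, Subgroup.mem_centralizer_iff.mpr fun y hy =>
      congrArg Subtype.val (Subgroup.mem_center_iff.mp hz ⟨y, hy⟩)⟩
    rw [hb, Subgroup.mem_bot] at this
    exact hz1 (Subtype.ext this)
  have hcop : (Nat.card W).Coprime p := by
    obtain ⟨a, ha⟩ := IsPGroup.iff_card.mp hWq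
    rw [ha]
    exact Nat.Coprime.pow_left a ((Nat.coprime_primes hq hp).mpr hqp)
  have hNW : N ≤ Subgroup.normalizer (W : Set G) := by
    have key : ∀ g ∈ N, ∀ y ∈ W, g * y * g⁻¹ ∈ W := by
      intro g hg y hy
      refine ⟨(Subgroup.mem_normalizer_iff.mp hg y).mp hy.1, Subgroup.mem_centralizer_iff.mpr fun s hs => ?_⟩
      have h1 : g⁻¹ * s * g ∈ Q := (Subgroup.mem_normalizer_iff''.mp hg s).mp hs
      have h2 := Subgroup.mem_centralizer_iff.mp hy.2 _ h1
      calc s * (g * y * g⁻¹) = g * (g⁻¹ * s * g * y) * g⁻¹ := by group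
        _ = g * (y * (g⁻¹ * s * g)) * g⁻¹ := by rw [h2]
        _ = g * y * g⁻¹ * s := by group
    exact fun g hg => Subgroup.mem_normalizer_iff.mpr fun y =>
      ⟨key g hg y, fun hy => by simpa [mul_assoc] using key g⁻¹ (inv_mem hg) _ hy⟩
  let ι : R →* Subgroup.normalizer (W : Set G) := Subgroup.inclusion (hRN.trans hNW)
  let φ : R →* MulAut W := W.normalizerMonoidHom.comp ι
  have hφ : ∀ (g : R) (w : W), ((φ g w : W) : G) = (g : G) * w * (g : G)⁻¹ := fun g w => rfl
  set K := H.subgroupOf R with hK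
  have hKidx : K.index = p ^ k := by
    rw [hK, ← Subgroup.relIndex, ← Subgroup.relIndex_sup_right, hRH, Subgroup.relIndex_top_right, hk']
  have hnorm : ∀ g : R, g ∉ K → ∀ w : W, normMap (φ g) p w = 1 := by
    intro g hg w
    have hgH : (g : G) ∉ H := hg
    have hwH : (w : G) ∈ H := (Subgroup.map_subtype_le _) w.2.1
    exact norm_eq_one (ι g) w (hout _ hgH) (hout _ fun hc => hgH (by
      simpa [ι] using mul_mem (inv_mem hwH) hc))
  obtain ⟨x₀, hx₀⟩ : ∃ x : R, x ∉ K := by
    by_contra hc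
    push Not at hc
    rw [show K = ⊤ from top_le_iff.mp fun y _ => hc y, Subgroup.index_top] at hKidx
    have h1 := Nat.one_lt_pow (show k ≠ 0 by omega) hp.one_lt
    omega
  have hx₀1 : φ x₀ ≠ 1 := by
    intro he
    obtain ⟨w, hw, hw1⟩ := W.bot_or_exists_ne_one.resolve_left hWb
    have h1 := hnorm x₀ hx₀ ⟨w, hw⟩
    simp only [normMap, he, one_pow, MulAut.one_apply, Finset.prod_const, Finset.card_range] at h1
    exact hw1 (congrArg Subtype.val ((powCoprime hcop).injective
      (a₁ := (⟨w, hw⟩ : W)) (a₂ := 1) (by simp only [powCoprime_apply, h1, one_pow])))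
  have hRp : IsPGroup p R := R0.isPGroup'.map _
  let T := φ.range
  have hTp : IsPGroup p T := fun t => by
    obtain ⟨g, hg⟩ := t.2
    obtain ⟨j, hj⟩ := hRp g
    exact ⟨j, Subtype.ext (by rw [SubmonoidClass.coe_pow, ← hg, ← map_pow, hj, map_one]; rfl)⟩
  haveI : Nontrivial T :=
    ⟨⟨⟨φ x₀, ⟨x₀, rfl⟩⟩, 1, fun e => hx₀1 (congrArg Subtype.val e)⟩⟩
  haveI := hTp.center_nontrivial
  haveI : Finite T := Finite.of_surjective φ.rangeRestrict φ.rangeRestrict_surjective
  obtain ⟨j, hj⟩ := IsPGroup.iff_card.mp (hTp.to_subgroup (Subgroup.center T))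
  have hdvd : p ∣ Nat.card (Subgroup.center T) := by
    rw [hj]
    refine dvd_pow_self p fun h => ?_
    rw [h, pow_zero] at hj
    exact absurd hj (Finite.one_lt_card (α := Subgroup.center T)).ne'
  obtain ⟨t, ht⟩ := exists_prime_orderOf_dvd_card' p hdvd
  obtain ⟨z, hz⟩ := (t : T).2
  have hzp : φ z ^ p = 1 := by
    have := congrArg (fun u : Subgroup.center T => ((u : T) : MulAut W)) (ht ▸ pow_orderOf_eq_one t)
    rw [hz]; simpa using this
  have hzK : z ^ p ∈ K := by
    by_cases hc : z ∈ K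
    · exact pow_mem hc p
    · have : z ^ p = 1 := Subtype.ext (hout z hc)
      rw [this]; exact one_mem K
  obtain ⟨x, hx⟩ : ∃ x : R, x ∉ K ⊔ Subgroup.zpowers z := by
    by_contra hc
    push Not at hc
    let f := QuotientGroup.mk' K
    have htop : Subgroup.zpowers (f z) = ⊤ := by
      rw [← MonoidHom.map_zpowers, eq_top_iff]
      intro y _
      obtain ⟨y, rfl⟩ := QuotientGroup.mk'_surjective K y
      have hy := hc y
      rw [← SetLike.mem_coe, Subgroup.normal_mul] at hy
      obtain ⟨a, ha, b, hb, rfl⟩ := hy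
      exact ⟨b, hb, by simp [f, (QuotientGroup.eq_one_iff a).mpr ha]⟩
    have h1 : orderOf (f z) ∣ p :=
      orderOf_dvd_of_pow_eq_one (by rw [← map_pow]; exact (QuotientGroup.eq_one_iff _).mpr hzK)
    rw [← Nat.card_zpowers, htop, Subgroup.card_top, ← Subgroup.index_eq_card, hKidx] at h1
    have h2 := (Nat.pow_dvd_pow_iff_le_right hp.one_lt).mp ((pow_one p).symm ▸ h1 : p ^ k ∣ p ^ 1)
    omega
  have hcomm : Commute (φ x) (φ z) := by
    have h1 := congrArg Subtype.val (Subgroup.mem_center_iff.mp t.2 ⟨φ x, ⟨x, rfl⟩⟩)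
    rw [Subgroup.coe_mul, Subgroup.coe_mul, ← hz] at h1
    exact h1
  have hb := eq_one_of_norms hp hcop (φ x) (φ z) hcomm hzp fun i w => by
    rw [← map_pow, ← map_mul]
    refine hnorm _ (fun hc => hx ?_) w
    have h2 := mul_mem (Subgroup.mem_sup_left (T := Subgroup.zpowers z) hc)
      (Subgroup.mem_sup_right (S := K) (inv_mem (pow_mem (Subgroup.mem_zpowers z) i)))
    simpa using h2
  have hone : t = 1 := by
    refine Subtype.ext (Subtype.ext ?_)
    rw [← hz, hb]; rfl
  rw [hone, orderOf_one] at ht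
  exact hp.ne_one ht.symm

/-- A proper Hughes subgroup of a non-`p`-group is nilpotent of index `p`. -/
theorem hughes_subgroup (GT : GTHyp.{u}) {p : ℕ} (hp : p.Prime) (hG : ¬ IsPGroup p G)
    (hH : Subgroup.closure {g : G | g ^ p ≠ 1} ≠ ⊤) :
    Group.IsNilpotent (Subgroup.closure {g : G | g ^ p ≠ 1}) ∧
      (Subgroup.closure {g : G | g ^ p ≠ 1}).index = p := by
  set H := Subgroup.closure {g : G | g ^ p ≠ 1} with hHdef
  have hout : ∀ g : G, g ∉ H → g ^ p = 1 := fun g hg => by
    by_contra hc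
    exact hg (Subgroup.subset_closure hc)
  have hn : H.Normal := by
    refine ⟨fun x hx g => ?_⟩
    have : H.map (MulAut.conj g).toMonoidHom ≤ H := by
      rw [hHdef, MonoidHom.map_closure, Subgroup.closure_le]
      rintro _ ⟨y, hy, rfl⟩
      refine Subgroup.subset_closure fun hc => hy ?_
      simp only [MulEquiv.coe_toMonoidHom] at hc
      rw [← map_pow] at hc
      exact (MulEquiv.map_eq_one_iff _).mp hc
    exact this (Subgroup.mem_map_of_mem _ hx)
  have hidx := hughes_index hp hG H hn hH hout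
  exact ⟨nilpotent_of_split GT hp H hn hidx hout, hidx⟩

end Cfsg.Agent.H77
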