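import Mathlib
import Cfsg.Agent.H77.Bochert

/-!
# Primitive groups with a small Jordan set

A primitive group of degree `n` with a Jordan set of size `m`, `2 ≤ m`, `2 * m < n`, contains the
alternating group (Marggraff). The proof shows 5-fold transitivity and then uses Bochert's averaging.
-/

set_option autoImplicit false
set_option linter.style.haveILetI false
set_option linter.unusedSectionVars false

namespace Cfsg.Agent.H77.Marggraff

open Equiv Equiv.Perm MulAction Finset
open scoped Pointwise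

section Generic

variable {G α : Type*} [Group G] [MulAction G α] [Finite α]

/-- Jordan's criterion, with the Jordan set itself. -/
theorem two_pretransitive_of_jordan (hprim : IsPreprimitive G α) (X : Set α) (hX : 2 ≤ X.ncard)
    (hX' : X.ncard < Nat.card α)
    (hJ : ∀ a ∈ X, ∀ b ∈ X, ∃ g : G, (∀ x, x ∉ X → g • x = x) ∧ g • a = b) :
    IsMultiplyPretransitive G α 2 := by
  have hsum := Set.ncard_add_ncard_compl X
  obtain ⟨j, hj⟩ : ∃ j, Xᶜ.ncard = j + 1 := ⟨Xᶜ.ncard - 1, by omega⟩
  refine hprim.is_two_pretransitive hj (by omega) ⟨fun p q => ?_⟩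
  have hmem : ∀ z : SubMulAction.ofFixingSubgroup G Xᶜ, (z : α) ∈ X := fun z => by
    have := z.2
    rw [SubMulAction.mem_ofFixingSubgroup_iff] at this
    simpa using this
  obtain ⟨g, hg, hgpq⟩ := hJ p (hmem p) q (hmem q)
  exact ⟨⟨g, (mem_fixingSubgroup_iff G).2 fun x hx => hg x hx⟩, Subtype.ext hgpq⟩

/-- Enough small Jordan sets in a doubly transitive group make the point stabilisers primitive. -/
theorem isPreprimitive_stabilizer (h2 : IsMultiplyPretransitive G α 2) {m : ℕ}
    (𝒳 : Set (Set α)) (hcard : ∀ X ∈ 𝒳, X.ncard = m)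
    (hJ : ∀ X ∈ 𝒳, ∀ a ∈ X, ∀ b ∈ X, ∃ g : G, (∀ x, x ∉ X → g • x = x) ∧ g • a = b)
    (hP : ∀ b c, b ≠ c → ∃ X ∈ 𝒳, b ∈ X ∧ c ∈ X)
    (hE : ∀ a b b', a ≠ b → a ≠ b' → b ≠ b' → ∃ X ∈ 𝒳, b ∈ X ∧ a ∉ X ∧ b' ∉ X) (a₀ : α) :
    IsPreprimitive (stabilizer G a₀) (SubMulAction.ofStabilizer G a₀) := by
  classical
  letI := Fintype.ofFinite α
  rw [is_two_pretransitive_iff] at h2
  haveI : IsPretransitive (stabilizer G a₀) (SubMulAction.ofStabilizer G a₀) := ⟨fun p q => by
    obtain ⟨g, hg1, hg2⟩ := h2 (Ne.symm (SubMulAction.neq_of_mem_ofStabilizer G a₀ (x := p)))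
      (Ne.symm (SubMulAction.neq_of_mem_ofStabilizer G a₀ (x := q)))
    exact ⟨⟨g, hg1⟩, Subtype.ext hg2⟩⟩
  refine { isTrivialBlock_of_isBlock := fun {B'} hB' => ?_ }
  by_contra htriv
  simp only [IsTrivialBlock, not_or] at htriv
  obtain ⟨hsub, huniv⟩ := htriv
  set B : Set α := Subtype.val '' B' with hBdef
  have haB : a₀ ∉ B := by
    rintro ⟨z, -, hz⟩
    exact SubMulAction.neq_of_mem_ofStabilizer G a₀ (x := z) hz
  obtain ⟨p, hp, q, hq, hpq⟩ := Set.not_subsingleton_iff.1 hsub
  have hb2 : 2 ≤ B.ncard := (Set.one_lt_ncard (Set.toFinite B)).2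
    ⟨p, ⟨p, hp, rfl⟩, q, ⟨q, hq, rfl⟩, fun e => hpq (Subtype.ext e)⟩
  have hblock : ∀ g : G, g • a₀ = a₀ → ∀ z ∈ B, g • z ∈ B → g • B = B := by
    intro g hg z hz hgz
    obtain ⟨z', hz', rfl⟩ := hz
    obtain ⟨w, hw, hwz⟩ := hgz
    have hw' : w = (⟨g, hg⟩ : stabilizer G a₀) • z' := Subtype.ext hwz
    have h' : (⟨g, hg⟩ : stabilizer G a₀) • B' = B' :=
      isBlock_iff_smul_eq_of_mem.1 hB' hz' (hw' ▸ hw)
    rw [hBdef]
    conv_rhs => rw [← h']
    ext x
    simp only [Set.mem_smul_set, Set.mem_image]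
    constructor
    · rintro ⟨y, ⟨y', hy', rfl⟩, rfl⟩
      exact ⟨_, ⟨y', hy', rfl⟩, rfl⟩
    · rintro ⟨y, ⟨y', hy', rfl⟩, rfl⟩
      exact ⟨_, ⟨y', hy', rfl⟩, rfl⟩
  -- members of the conjugate block systems
  let Mem : α → Set α → Prop := fun a S => ∃ h : G, h • a₀ = a ∧ h • B = S
  have hcover : ∀ a β : α, a ≠ β → ∃ S, Mem a S ∧ β ∈ S := by
    intro a β hne
    obtain ⟨h, h1, h2'⟩ := h2 (Ne.symm (SubMulAction.neq_of_mem_ofStabilizer G a₀ (x := p))) hne
    exact ⟨h • B, ⟨h, h1, rfl⟩, h2' ▸ Set.smul_mem_smul_set ⟨p, hp, rfl⟩⟩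
  have huniq : ∀ a S S' β, Mem a S → Mem a S' → β ∈ S → β ∈ S' → S = S' := by
    rintro a S S' β ⟨h, h1, rfl⟩ ⟨h', h1', rfl⟩ hβ hβ'
    rw [Set.mem_smul_set_iff_inv_smul_mem] at hβ hβ'
    have hfix : (h'⁻¹ * h) • a₀ = a₀ := by rw [mul_smul, h1, ← h1', inv_smul_smul]
    have := hblock _ hfix (h⁻¹ • β) hβ (by rwa [mul_smul, smul_inv_smul])
    rw [mul_smul, inv_smul_eq_iff] at this
    exact this
  have hnot : ∀ a S, Mem a S → a ∉ S := by
    rintro a S ⟨h, rfl, rfl⟩ hmem
    exact haB (Set.smul_mem_smul_set_iff.1 hmem)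
  have hequiv : ∀ (g : G) a S, Mem a S → g • a = a → Mem a (g • S) := by
    rintro g a S ⟨h, h1, rfl⟩ hg
    exact ⟨g * h, by rw [mul_smul, h1, hg], mul_smul g h B⟩
  have hbcard : ∀ a S, Mem a S → S.ncard = B.ncard := by
    rintro a S ⟨h, -, rfl⟩
    exact Set.ncard_smul_set h B
  -- the dichotomy
  have hdich : ∀ X ∈ 𝒳, ∀ a, a ∉ X → ∀ S, Mem a S → ∀ β ∈ S, β ∈ X → ¬ S ⊆ X → X ⊆ S := by
    intro X hX a ha S hS β hβS hβX hns δ hδ
    obtain ⟨y, hyS, hyX⟩ := Set.not_subset.1 hns
    obtain ⟨g, hg, hgβ⟩ := hJ X hX β hβX δ hδ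
    have heq : g • S = S := huniq a _ _ y (hequiv g a S hS (hg a ha)) hS
      (by have := Set.smul_mem_smul_set (a := g) hyS; rwa [hg y hyX] at this) hyS
    rw [← heq, ← hgβ]
    exact Set.smul_mem_smul_set hβS
  have hn2 : 2 * B.ncard + 1 ≤ Nat.card α := by
    obtain ⟨z, hz⟩ : ∃ z, z ∉ B' := by
      by_contra hh
      push Not at hh
      exact huniv (Set.eq_univ_of_forall hh)
    have hza : a₀ ≠ (z : α) := Ne.symm (SubMulAction.neq_of_mem_ofStabilizer G a₀ (x := z))
    obtain ⟨S, hS, hzS⟩ := hcover a₀ z hza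
    have hzB : (z : α) ∉ B := fun ⟨w, hw, hwz⟩ => hz (Subtype.ext hwz ▸ hw)
    have hd : Disjoint B S := Set.disjoint_left.2 fun y hyB hyS => hzB
      (huniq a₀ B S y ⟨1, one_smul _ _, one_smul _ _⟩ hS hyB hyS ▸ hzS)
    have h1 : (insert a₀ (B ∪ S)).ncard = 2 * B.ncard + 1 := by
      rw [Set.ncard_insert_of_notMem (fun h => h.elim haB (hnot a₀ S hS)) (Set.toFinite _),
        Set.ncard_union_eq hd (Set.toFinite _) (Set.toFinite _), hbcard a₀ S hS]
      omega
    rw [← h1]
    exact Set.ncard_le_card _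
  choose Bl hBlMem hBl using hcover
  -- blocks are at least as large as the Jordan sets
  have hmb : m ≤ B.ncard := by
    by_contra hlt
    push Not at hlt
    obtain ⟨β, hβ, β', hβ', hne⟩ := (Set.one_lt_ncard (Set.toFinite B)).1 hb2
    have hBm : Mem a₀ B := ⟨1, one_smul _ _, one_smul _ _⟩
    obtain ⟨X, hX, hβX, haX, hβ'X⟩ := hE a₀ β β' (fun e => haB (e ▸ hβ)) (fun e => haB (e ▸ hβ')) hne
    have h1 := hdich X hX a₀ haX B hBm β hβ hβX fun h => hβ'X (h hβ')
    have h2 := Set.ncard_le_ncard h1 (Set.toFinite _)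
    rw [hcard X hX] at h2
    omega
  have hin : ∀ X ∈ 𝒳, ∀ a, a ∉ X → ∀ β (h : a ≠ β), β ∈ X → X ⊆ Bl a β h := by
    intro X hX a ha β h hβX
    by_cases hs : Bl a β h ⊆ X
    · rw [Set.eq_of_subset_of_ncard_le hs (by rw [hcard X hX, hbcard a _ (hBlMem a β h)]; exact hmb)
        (Set.toFinite _)]
    · exact hdich X hX a ha _ (hBlMem a β h) β (hBl a β h) hβX hs
  -- averaging
  obtain ⟨β, hβ⟩ : ∃ β : α, β = p.1 := ⟨_, rfl⟩
  let bl : α → Finset α := fun a => if h : a ≠ β then (Bl a β h).toFinset.erase β else ∅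
  have hblc : ∀ a ∈ univ.erase β, (bl a).card = B.ncard - 1 := by
    intro a ha
    have h := (mem_erase.1 ha).1
    simp only [bl, dif_pos h]
    rw [card_erase_of_mem (Set.mem_toFinset.2 (hBl a β h)), ← Set.ncard_eq_toFinset_card',
      hbcard a _ (hBlMem a β h)]
  have hsum : ∑ γ ∈ univ.erase β, ((univ.erase β).filter fun a => γ ∈ bl a).card ≤
      ∑ _γ ∈ univ.erase β, (B.ncard - 1) := by
    simp only [card_filter]
    rw [sum_comm]
    refine sum_le_sum fun a ha => ?_
    rw [← card_filter, ← hblc a ha]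
    exact card_le_card fun γ hγ => (mem_filter.1 hγ).2
  have hne : (univ.erase β).Nonempty := ⟨a₀, mem_erase.2
    ⟨by rw [hβ]; exact Ne.symm (SubMulAction.neq_of_mem_ofStabilizer G a₀ (x := p)), mem_univ _⟩⟩
  obtain ⟨γ, hγ, hγle⟩ := exists_le_of_sum_le hne hsum
  obtain ⟨X, hX, hβX, hγX⟩ := hP β γ (Ne.symm (mem_erase.1 hγ).1)
  have hsub' : X.toFinsetᶜ ⊆ (univ.erase β).filter fun a => γ ∈ bl a := by
    intro a ha
    rw [mem_compl, Set.mem_toFinset] at ha
    have h : a ≠ β := fun e => ha (e ▸ hβX)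
    simp only [mem_filter, mem_erase, mem_univ, and_true, bl, dif_pos h, Set.mem_toFinset]
    exact ⟨h, (mem_erase.1 hγ).1, hin X hX a ha β h hβX hγX⟩
  have h3 := (card_le_card hsub').trans hγle
  rw [card_compl, ← Set.ncard_eq_toFinset_card', hcard X hX, ← Nat.card_eq_fintype_card] at h3
  omega

end Generic

section Count

variable {α : Type*} [Fintype α] [DecidableEq α] {H : Subgroup (Perm α)}

/-- Multiple transitivity for maps from a small index type. -/
theorem exists_mem_map_index {k : ℕ} (hH : IsMultiplyPretransitive H α k) (hk : k ≤ Fintype.card α)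
    {ι : Type*} [Fintype ι] (hι : Fintype.card ι ≤ k) {x y : ι → α} (hx : Function.Injective x)
    (hy : Function.Injective y) : ∃ g ∈ H, ∀ i, g (x i) = y i := by
  obtain ⟨g, hg, hgm⟩ := exists_mem_map hH hι hk (hx.comp (Fintype.equivFin ι).symm.injective)
    (hy.comp (Fintype.equivFin ι).symm.injective)
  exact ⟨g, hg, fun i => by simpa using hgm (Fintype.equivFin ι i)⟩

theorem exists_translate {k : ℕ} (hH : IsMultiplyPretransitive H α k) (hk : k ≤ Fintype.card α)
    (Γ A B : Finset α) (hAB : Disjoint A B) (hcard : A.card + B.card ≤ k) (hA : A.card ≤ Γ.card)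
    (hB : B.card + Γ.card ≤ Fintype.card α) :
    ∃ h ∈ H, A ⊆ Γ.image h ∧ Disjoint B (Γ.image h) := by
  obtain ⟨A₀, hA₀, hA₀c⟩ := exists_subset_card_eq hA
  obtain ⟨B₀, hB₀, hB₀c⟩ := exists_subset_card_eq (show B.card ≤ Γᶜ.card by rw [card_compl]; omega)
  let eA := A.equivOfCardEq hA₀c.symm
  let eB := B.equivOfCardEq hB₀c.symm
  obtain ⟨h, hh, hm⟩ := exists_mem_map_index (ι := ↥A ⊕ ↥B) hH hk (by simpa using hcard)
    (x := Sum.elim (fun a => (eA a : α)) (fun b => (eB b : α)))
    (y := Sum.elim (fun a => (a : α)) (fun b => (b : α)))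
    (Function.Injective.sumElim (Subtype.val_injective.comp eA.injective)
      (Subtype.val_injective.comp eB.injective)
      fun a b e => mem_compl.1 (hB₀ (eB b).2) (e ▸ hA₀ (eA a).2))
    (Function.Injective.sumElim Subtype.val_injective Subtype.val_injective
      fun a b e => disjoint_left.1 hAB a.2 (e ▸ b.2))
  refine ⟨h, hh, fun a ha => ?_, disjoint_left.2 fun b hb hbi => ?_⟩
  · exact mem_image.2 ⟨_, hA₀ (eA ⟨a, ha⟩).2, hm (Sum.inl ⟨a, ha⟩)⟩
  · obtain ⟨z, hz, hzb⟩ := mem_image.1 hbi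
    have : z = eB ⟨b, hb⟩ := h.injective (hzb.trans (hm (Sum.inr ⟨b, hb⟩)).symm)
    exact mem_compl.1 (hB₀ (eB ⟨b, hb⟩).2) (this ▸ hz)

theorem exists_fix_map {k : ℕ} (hH : IsMultiplyPretransitive H α k) (hk : k ≤ Fintype.card α)
    (U : Finset α) (hU : U.card + 1 ≤ k) {r r' : α} (hr : r ∉ U) (hr' : r' ∉ U) :
    ∃ g ∈ H, (∀ u ∈ U, g u = u) ∧ g r = r' := by
  obtain ⟨g, hg, hm⟩ := exists_mem_map_index (ι := Option ↥U) hH hk (by simpa using hU)
    (x := fun o => o.elim r Subtype.val) (y := fun o => o.elim r' Subtype.val)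
    (by
      rintro (_ | a) (_ | b) e
      · rfl
      · exact absurd (show r = b from e) fun e' => hr (e' ▸ b.2)
      · exact absurd (show (a : α) = r from e) fun e' => hr (e' ▸ a.2)
      · exact congrArg some (Subtype.ext e))
    (by
      rintro (_ | a) (_ | b) e
      · rfl
      · exact absurd (show r' = b from e) fun e' => hr' (e' ▸ b.2)
      · exact absurd (show (a : α) = r' from e) fun e' => hr' (e' ▸ a.2)
      · exact congrArg some (Subtype.ext e))
  exact ⟨g, hg, fun u hu => hm (some ⟨u, hu⟩), hm none⟩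

/-- Translates of `Γ` under `H`. -/
noncomputable def orb (H : Subgroup (Perm α)) (Γ : Finset α) : Finset (Finset α) := by
  classical exact (univ.filter fun h => h ∈ H).image fun h => Γ.image h

theorem mem_orb {Γ X : Finset α} : X ∈ orb H Γ ↔ ∃ h ∈ H, Γ.image h = X := by
  classical simp [orb]

theorem card_of_mem_orb {Γ X : Finset α} (h : X ∈ orb H Γ) : X.card = Γ.card := by
  obtain ⟨g, -, rfl⟩ := mem_orb.1 h
  exact card_image_of_injective _ g.injective

/-- The number of translates containing `A` and missing `B`. -/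
noncomputable def cnt (H : Subgroup (Perm α)) (Γ A B : Finset α) : ℕ :=
  ((orb H Γ).filter fun X => A ⊆ X ∧ Disjoint B X).card

theorem cnt_split (Γ A B : Finset α) (r : α) :
    cnt H Γ A B = cnt H Γ (insert r A) B + cnt H Γ A (insert r B) := by
  unfold cnt
  rw [← card_filter_add_card_filter_not (s := (orb H Γ).filter fun X => A ⊆ X ∧ Disjoint B X)
    (fun X => r ∈ X), filter_filter, filter_filter]
  congr 2 <;> ext X <;> simp only [mem_filter, insert_subset_iff, disjoint_insert_left] <;> tauto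

theorem cnt_pos {Γ A B : Finset α} (h : ∃ g ∈ H, A ⊆ Γ.image g ∧ Disjoint B (Γ.image g)) :
    0 < cnt H Γ A B := by
  obtain ⟨g, hg, h1⟩ := h
  exact card_pos.2 ⟨_, mem_filter.2 ⟨mem_orb.2 ⟨g, hg, rfl⟩, h1⟩⟩

theorem cnt_le_map {Γ A B : Finset α} {g : Perm α} (hg : g ∈ H) :
    cnt H Γ A B ≤ cnt H Γ (A.image g) (B.image g) := by
  refine card_le_card_of_injOn (fun X => X.image g) ?_ (fun X _ Y _ e => image_injective g.injective e)
  intro X hX
  obtain ⟨hXo, hA, hB⟩ := mem_filter.1 hX
  obtain ⟨h, hh, rfl⟩ := mem_orb.1 hXo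
  refine mem_filter.2 ⟨mem_orb.2 ⟨g * h, mul_mem hg hh, ?_⟩, image_subset_image hA,
    (disjoint_image g.injective).2 hB⟩
  simp only [image_image]
  rfl

theorem cnt_rec {k : ℕ} (hH : IsMultiplyPretransitive H α k) (hk : k ≤ Fintype.card α)
    (Γ A B : Finset α) (hAB : Disjoint A B) (hcard : A.card + B.card + 1 ≤ k) {r : α} (hrA : r ∉ A)
    (hrB : r ∉ B) :
    (Fintype.card α - (A.card + B.card)) * cnt H Γ (insert r A) B =
      (Γ.card - A.card) * cnt H Γ A B := by
  have hU : (A ∪ B).card = A.card + B.card := card_union_of_disjoint hAB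
  have hconst : ∀ r' ∈ (A ∪ B)ᶜ, cnt H Γ (insert r' A) B = cnt H Γ (insert r A) B := by
    intro r' hr'
    rw [mem_compl] at hr'
    have hle : ∀ s t : α, s ∉ A ∪ B → t ∉ A ∪ B →
        cnt H Γ (insert s A) B ≤ cnt H Γ (insert t A) B := by
      intro s t hs ht
      obtain ⟨g, hg, hfix, hgs⟩ := exists_fix_map hH hk (A ∪ B) (by omega) hs ht
      refine (cnt_le_map hg).trans_eq ?_
      rw [image_insert, hgs]
      congr 1
      · congr 1
        exact (image_congr fun u hu => hfix u (mem_union_left _ hu)).trans image_id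
      · exact (image_congr fun u hu => hfix u (mem_union_right _ hu)).trans image_id
    have hr : r ∉ A ∪ B := by simp [hrA, hrB]
    exact le_antisymm (hle _ _ hr' hr) (hle _ _ hr hr')
  have h1 : ∑ r' ∈ (A ∪ B)ᶜ, cnt H Γ (insert r' A) B =
      (Fintype.card α - (A.card + B.card)) * cnt H Γ (insert r A) B := by
    rw [sum_congr rfl hconst, sum_const, smul_eq_mul, card_compl, hU]
  rw [← h1]
  have e : ∀ r' : α, cnt H Γ (insert r' A) B =
      (((orb H Γ).filter fun X => A ⊆ X ∧ Disjoint B X).filter fun X => r' ∈ X).card := by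
    intro r'
    unfold cnt
    rw [filter_filter]
    congr 1
    ext X
    simp only [mem_filter, insert_subset_iff]
    tauto
  simp only [e, card_filter (fun X => _ ∈ X)]
  rw [sum_comm, mul_comm, cnt, ← smul_eq_mul, ← sum_const]
  refine sum_congr rfl fun X hX => ?_
  obtain ⟨hXo, hA, hB⟩ := mem_filter.1 hX
  rw [← card_filter, ← card_of_mem_orb hXo, ← card_sdiff_of_subset hA]
  congr 1
  ext z
  simp only [mem_filter, mem_compl, mem_union, mem_sdiff]
  have : z ∈ X → z ∉ B := fun hz hzB => disjoint_left.1 hB hzB hz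
  tauto

/-- There is a translate containing `b` and avoiding `a`, `b'` and the set `T`. -/
theorem exists_separating (Γ T : Finset α) (hT : T.card ≤ 2) (hm : 4 ≤ Γ.card)
    (hn : 2 * Γ.card < Fintype.card α) (hH : IsMultiplyPretransitive H α (T.card + 2))
    {a b b' : α} (hab : a ≠ b) (hab' : a ≠ b') (hbb : b ≠ b') (ha : a ∉ T) (hb : b ∉ T)
    (hb' : b' ∉ T) :
    ∃ g ∈ H, b ∈ Γ.image g ∧ a ∉ Γ.image g ∧ b' ∉ Γ.image g ∧ Disjoint T (Γ.image g) := by
  by_contra hcon
  push Not at hcon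
  have hk : T.card + 2 ≤ Fintype.card α := by omega
  have hzero : cnt H Γ {b} (insert a (insert b' T)) = 0 := by
    rw [cnt, card_eq_zero, filter_eq_empty_iff]
    rintro X hX ⟨h1, h2⟩
    obtain ⟨g, hg, rfl⟩ := mem_orb.1 hX
    simp only [disjoint_insert_left] at h2
    exact hcon g hg (singleton_subset_iff.1 h1) h2.1 h2.2.1 h2.2.2
  have hbT : Disjoint ({b} : Finset α) T := by simpa using hb
  have hp : 0 < cnt H Γ {b} T := cnt_pos
    (exists_translate hH hk Γ {b} T hbT (by rw [card_singleton]; omega) (by rw [card_singleton]; omega)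
      (by omega))
  have r1 := cnt_rec hH hk Γ {b} T hbT (by rw [card_singleton]; omega) (r := b')
    (by simpa using Ne.symm hbb) hb'
  have r2 := cnt_rec hH hk Γ {b} T hbT (by rw [card_singleton]; omega) (r := a)
    (by simpa using hab) ha
  rw [card_singleton] at r1 r2
  have s1 := cnt_split (H := H) Γ {b} T b'
  have s2 := cnt_split (H := H) Γ {b} (insert b' T) a
  have s3 := cnt_split (H := H) Γ (insert a {b}) T b'
  rw [hzero, add_zero] at s2
  set p := cnt H Γ {b} T
  set q := cnt H Γ (insert a {b}) T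
  set q' := cnt H Γ (insert b' {b}) T
  set u := cnt H Γ (insert a {b}) (insert b' T)
  set w := cnt H Γ (insert b' (insert a {b})) T with hw
  have hqq : q' = q := Nat.eq_of_mul_eq_mul_left (by omega) (r1.trans r2.symm)
  have hcase : Fintype.card α - (1 + T.card) ≤ 2 * (Γ.card - 1) := by
    have h1 : p ≤ 2 * q := by omega
    have h2 : (Fintype.card α - (1 + T.card)) * p ≤ 2 * (Γ.card - 1) * p :=
      calc _ ≤ (Fintype.card α - (1 + T.card)) * (2 * q) := Nat.mul_le_mul_left _ h1
        _ = 2 * ((Fintype.card α - (1 + T.card)) * q) := by ring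
        _ = _ := by rw [r2, mul_assoc]
    exact Nat.le_of_mul_le_mul_right h2 hp
  have hT2 : T.card = 2 := by omega
  have hn1 : Fintype.card α - (1 + T.card) = 2 * (Γ.card - 1) := by omega
  have hpq : p = 2 * q := by
    rw [hn1] at r2
    have : (Γ.card - 1) * (2 * q) = (Γ.card - 1) * p := by rw [← r2]; ring
    exact (Nat.eq_of_mul_eq_mul_left (by omega) this).symm
  have hw0 : w = 0 := by omega
  obtain ⟨x, y, hxy, rfl⟩ := card_eq_two.1 hT2
  simp only [mem_insert, mem_singleton, not_or] at ha hb hb'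
  set A3 : Finset α := insert b' (insert a {b}) with hA3
  have hA3c : A3.card = 3 := card_eq_three.2 ⟨b', a, b, Ne.symm hab', Ne.symm hbb, hab, by rfl⟩
  have hxA : x ∉ A3 := by simp [hA3, Ne.symm ha.1, Ne.symm hb.1, Ne.symm hb'.1]
  have hyA : y ∉ A3 := by simp [hA3, Ne.symm ha.2, Ne.symm hb.2, Ne.symm hb'.2]
  have hH4 : IsMultiplyPretransitive H α 4 := by rw [hT2] at hH; exact hH
  have hp3 : 0 < cnt H Γ A3 ∅ := cnt_pos
    (exists_translate hH4 (by omega) Γ A3 ∅ (disjoint_empty_right _) (by rw [hA3c, card_empty]; omega)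
      (by omega) (by rw [card_empty]; omega))
  have rx := cnt_rec hH4 (by omega) Γ A3 ∅ (disjoint_empty_right _) (by rw [hA3c, card_empty])
    hxA (notMem_empty x)
  have ry := cnt_rec hH4 (by omega) Γ A3 ∅ (disjoint_empty_right _) (by rw [hA3c, card_empty])
    hyA (notMem_empty y)
  rw [hA3c, card_empty, add_zero] at rx ry
  have t1 := cnt_split (H := H) Γ A3 ∅ x
  have t2 := cnt_split (H := H) Γ A3 (insert x ∅) y
  have t3 := cnt_split (H := H) Γ (insert y A3) ∅ x
  have hpair : cnt H Γ A3 (insert y (insert x ∅)) = w := by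
    rw [hw]; congr 1; ext z; simp only [mem_insert, mem_singleton, notMem_empty, or_false]; tauto
  set P := cnt H Γ A3 ∅
  set X1 := cnt H Γ (insert x A3) ∅
  set Y1 := cnt H Γ (insert y A3) ∅
  have hXY : X1 = Y1 := Nat.eq_of_mul_eq_mul_left (by omega) (rx.trans ry.symm)
  have h1 : P ≤ 2 * X1 := by omega
  have h2 : (Fintype.card α - 3) * P ≤ 2 * (Γ.card - 3) * P :=
    calc _ ≤ (Fintype.card α - 3) * (2 * X1) := Nat.mul_le_mul_left _ h1
      _ = 2 * ((Fintype.card α - 3) * X1) := by ring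
      _ = _ := by rw [rx, mul_assoc]
  have := Nat.le_of_mul_le_mul_right h2 hp3
  omega

/-- One more degree of transitivity. -/
theorem transitive_succ (Γ : Finset α) (hm : 4 ≤ Γ.card) (hn : 2 * Γ.card < Fintype.card α)
    (hJ : ∀ a ∈ Γ, ∀ b ∈ Γ, ∃ h ∈ H, (∀ x, x ∉ Γ → h x = x) ∧ h a = b) {t : ℕ} (ht : t ≤ 2)
    (hH : IsMultiplyPretransitive H α (t + 2)) : IsMultiplyPretransitive H α (t + 3) := by
  classical
  haveI := hH
  have hstage : ∀ T : Finset α, T.card = t → IsMultiplyPretransitive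
      (fixingSubgroup H (T : Set α)) (SubMulAction.ofFixingSubgroup H (T : Set α)) 3 := by
    intro T hT
    subst hT
    set G := fixingSubgroup H (T : Set α)
    set β := SubMulAction.ofFixingSubgroup H (T : Set α)
    have h2 : IsMultiplyPretransitive G β 2 :=
      SubMulAction.ofFixingSubgroup.isMultiplyPretransitive (↥H) (n := T.card + 2) (T : Set α) (by simp)
    have hβT : ∀ z : β, (z : α) ∉ T := fun z hz =>
      SubMulAction.not_mem_of_mem_ofFixingSubgroup z hz
    have hJX : ∀ g ∈ H, Disjoint T (Γ.image g) → ∀ p q : β, (p : α) ∈ Γ.image g →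
        (q : α) ∈ Γ.image g → ∃ k : G, (∀ z : β, (z : α) ∉ Γ.image g → k • z = z) ∧ k • p = q := by
      intro g hg hd p q hp hq
      obtain ⟨p₀, hp₀, hpe⟩ := mem_image.1 hp
      obtain ⟨q₀, hq₀, hqe⟩ := mem_image.1 hq
      obtain ⟨k, hk, hkfix, hkpq⟩ := hJ p₀ hp₀ q₀ hq₀
      have hfix : ∀ z, z ∉ Γ.image g → (g * k * g⁻¹) z = z := by
        intro z hz
        have : g⁻¹ z ∉ Γ := fun h => hz (mem_image.2 ⟨_, h, by simp⟩)
        simp only [mul_apply]
        rw [hkfix _ this]
        simp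
      refine ⟨⟨⟨g * k * g⁻¹, mul_mem (mul_mem hg hk) (inv_mem hg)⟩,
        (mem_fixingSubgroup_iff H).2 fun z hz => hfix z (disjoint_left.1 hd hz)⟩,
        fun z hz => Subtype.ext (hfix z hz), Subtype.ext ?_⟩
      show (g * k * g⁻¹) p = q
      simp only [mul_apply]
      rw [← hpe, show g⁻¹ (g p₀) = p₀ by simp, hkpq, hqe]
    let 𝒳 : Set (Set β) := {S | ∃ g ∈ H, Disjoint T (Γ.image g) ∧
      S = Subtype.val ⁻¹' (Γ.image g : Set α)}
    have hncard : ∀ g ∈ H, Disjoint T (Γ.image g) →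
        (Subtype.val ⁻¹' (Γ.image g : Set α) : Set β).ncard = Γ.card := by
      intro g hg hd
      rw [Set.ncard_preimage_of_injective_subset_range Subtype.val_injective ?_,
        Set.ncard_coe_finset, card_image_of_injective _ g.injective]
      intro z hz
      refine ⟨⟨z, ?_⟩, rfl⟩
      rw [SubMulAction.mem_ofFixingSubgroup_iff]
      exact fun hzT => disjoint_left.1 hd hzT hz
    have hprim : ∀ a : β, IsPreprimitive (stabilizer G a) (SubMulAction.ofStabilizer G a) := by
      refine isPreprimitive_stabilizer h2 (m := Γ.card) 𝒳 ?_ ?_ ?_ ?_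
      · rintro S ⟨g, hg, hd, rfl⟩
        exact hncard g hg hd
      · rintro S ⟨g, hg, hd, rfl⟩ p hp q hq
        exact hJX g hg hd p q hp hq
      · intro p q hpq
        have hne : (p : α) ≠ q := fun e => hpq (Subtype.ext e)
        obtain ⟨g, hg, h1, h2⟩ := exists_translate hH (by omega) Γ {(p : α), (q : α)} T
          (disjoint_left.2 fun z hz hzT => by
            simp only [mem_insert, mem_singleton] at hz
            rcases hz with rfl | rfl
            exacts [hβT p hzT, hβT q hzT])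
          (by rw [card_pair hne]; omega) (by rw [card_pair hne]; omega) (by omega)
        exact ⟨_, ⟨g, hg, h2, rfl⟩, h1 (mem_insert_self _ _),
          h1 (mem_insert_of_mem (mem_singleton_self _))⟩
      · intro a b b' hab hab' hbb
        obtain ⟨g, hg, h1, h2, h3, h4⟩ := exists_separating Γ T ht hm hn hH
          (fun e => hab (Subtype.ext e)) (fun e => hab' (Subtype.ext e))
          (fun e => hbb (Subtype.ext e)) (hβT a) (hβT b) (hβT b')
        exact ⟨_, ⟨g, hg, h4, rfl⟩, h1, h2, h3⟩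
    have hcardβ : Nat.card β + T.card = Fintype.card α := by
      have h1 : (Set.range (Subtype.val : β → α)) = (T : Set α)ᶜ := by
        ext z
        simp [β, SubMulAction.mem_ofFixingSubgroup_iff]
      have h2 := Set.ncard_range_of_injective (Subtype.val_injective (p := fun z => z ∈ β))
      rw [h1] at h2
      have h3 := Set.ncard_add_ncard_compl (T : Set α)
      rw [h2, Set.ncard_coe_finset] at h3
      rw [← Nat.card_eq_fintype_card (α := α)]
      omega
    haveI : Nontrivial β := by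
      rw [← Finite.one_lt_card_iff_nontrivial]
      omega
    haveI : IsPretransitive G β := by
      haveI := h2
      exact isPretransitive_of_is_two_pretransitive
    obtain ⟨a⟩ : Nonempty β := inferInstance
    rw [SubMulAction.ofStabilizer.isMultiplyPretransitive (a := a)]
    obtain ⟨g, hg, -, hd⟩ := exists_translate hH (by omega) Γ ∅ (insert (a : α) T)
      (disjoint_empty_left _) (by rw [card_empty, card_insert_of_notMem (hβT a)]; omega) (by simp)
      (by rw [card_insert_of_notMem (hβT a)]; omega)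
    rw [disjoint_insert_left] at hd
    refine two_pretransitive_of_jordan (hprim a)
      (Subtype.val ⁻¹' (Subtype.val ⁻¹' (Γ.image g : Set α) : Set β)) ?_ ?_ ?_
    · rw [Set.ncard_preimage_of_injective_subset_range Subtype.val_injective ?_, hncard g hg hd.2]
      · omega
      · intro z hz
        exact ⟨⟨z, fun e => hd.1 (e ▸ hz)⟩, rfl⟩
    · rw [Set.ncard_preimage_of_injective_subset_range Subtype.val_injective ?_, hncard g hg hd.2]
      · refine (show Γ.card < Nat.card β - 1 by omega).trans_eq ?_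
        exact (SubMulAction.nat_card_ofStabilizer_eq G a).symm
      · intro z hz
        exact ⟨⟨z, fun e => hd.1 (e ▸ hz)⟩, rfl⟩
    · intro p hp q hq
      obtain ⟨k, hk, hkpq⟩ := hJX g hg hd.2 p q hp hq
      exact ⟨⟨k, hk a hd.1⟩, fun z hz => Subtype.ext (hk z hz), Subtype.ext hkpq⟩
  refine ⟨fun x y => ?_⟩
  obtain ⟨h, hh, hm'⟩ := exists_mem_map (n := t) hH (by omega) (by omega)
    (x.injective.comp (Fin.castAdd_injective t 3)) (y.injective.comp (Fin.castAdd_injective t 3))
  set T : Finset α := univ.image (y ∘ Fin.castAdd 3) with hTdef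
  have hT : T.card = t := by
    rw [hTdef, card_image_of_injective _ (y.injective.comp (Fin.castAdd_injective t 3)), card_univ,
      Fintype.card_fin]
  have hy' : ∀ i : Fin 3, y (Fin.natAdd t i) ∈ SubMulAction.ofFixingSubgroup H (T : Set α) := by
    intro i
    rw [SubMulAction.mem_ofFixingSubgroup_iff, mem_coe, hTdef, mem_image]
    rintro ⟨j, -, e⟩
    have := congrArg Fin.val (y.injective e)
    simp at this
    omega
  have hx' : ∀ i : Fin 3, h (x (Fin.natAdd t i)) ∈ SubMulAction.ofFixingSubgroup H (T : Set α) := by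
    intro i
    rw [SubMulAction.mem_ofFixingSubgroup_iff, mem_coe, hTdef, mem_image]
    rintro ⟨j, -, e⟩
    simp only [Function.comp_apply] at e hm'
    rw [← hm' j] at e
    have := congrArg Fin.val (x.injective (h.injective e))
    simp at this
    omega
  haveI := hstage T hT
  obtain ⟨k, hk⟩ := exists_smul_eq (fixingSubgroup H (T : Set α))
    (⟨fun i => ⟨_, hx' i⟩, fun i j e => Fin.natAdd_injective 3 t
      (x.injective (h.injective (congrArg Subtype.val e)))⟩ :
      Fin 3 ↪ SubMulAction.ofFixingSubgroup H (T : Set α))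
    ⟨fun i => ⟨_, hy' i⟩, fun i j e => Fin.natAdd_injective 3 t
      (y.injective (congrArg Subtype.val e))⟩
  refine ⟨(k : H) * ⟨h, hh⟩, ?_⟩
  ext i
  refine Fin.addCases (fun j => ?_) (fun j => ?_) i
  · show (k : H).1 (h (x (Fin.castAdd 3 j))) = y (Fin.castAdd 3 j)
    have e := hm' j
    simp only [Function.comp_apply] at e
    rw [e]
    exact (mem_fixingSubgroup_iff H).1 k.2 _ (mem_image.2 ⟨j, mem_univ _, rfl⟩)
  · exact congrArg Subtype.val (congrFun (congrArg DFunLike.coe hk) j)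

/-- **Marggraff**: a primitive group with a Jordan set of fewer than half of the points contains the
alternating group. -/
theorem alternatingGroup_le (hprim : IsPreprimitive H α) (Γ : Finset α) (hm : 2 ≤ Γ.card)
    (hn : 2 * Γ.card < Fintype.card α)
    (hJ : ∀ a ∈ Γ, ∀ b ∈ Γ, ∃ h ∈ H, (∀ x, x ∉ Γ → h x = x) ∧ h a = b) :
    alternatingGroup α ≤ H := by
  obtain ⟨a, ha, b, hb, hab⟩ := one_lt_card.1 hm
  obtain ⟨g, hg, hgfix, hgab⟩ := hJ a ha b hb
  have hg1 : g ≠ 1 := fun e => hab (by rw [← hgab, e, one_apply])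
  have hsup : g.support ⊆ Γ := fun z hz => by
    by_contra h
    exact mem_support.1 hz (hgfix z h)
  have hsc := card_le_card hsup
  by_cases h3 : Γ.card ≤ 3
  · have h2 := two_le_card_support_of_ne_one hg1
    rcases (show g.support.card = 2 ∨ g.support.card = 3 by omega) with e | e
    · rw [subgroup_eq_top_of_isPreprimitive_of_isSwap_mem hprim g (card_support_eq_two.1 e) hg]
      exact le_top
    · exact alternatingGroup_le_of_isPreprimitive_of_isThreeCycle_mem hprim
        (card_support_eq_three_iff.1 e) hg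
  have h2 : IsMultiplyPretransitive H α 2 :=
    two_pretransitive_of_jordan hprim (Γ : Set α) (by simpa using hm)
      (by rw [Set.ncard_coe_finset, Nat.card_eq_fintype_card]; omega)
      (fun p hp q hq => by
        obtain ⟨k, hk, h1, h2⟩ := hJ p hp q hq
        exact ⟨⟨k, hk⟩, h1, h2⟩)
  have h5 : IsMultiplyPretransitive H α 5 :=
    transitive_succ Γ (by omega) hn hJ (t := 2) le_rfl
      (transitive_succ Γ (by omega) hn hJ (t := 1) (by omega)
        (transitive_succ Γ (by omega) hn hJ (t := 0) (by omega) h2))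
  exact Bochert.alternatingGroup_le_of_small_support h5 hg hg1 (by omega)

end Count

end Cfsg.Agent.H77.Marggraff
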