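import Cfsg.Agent.H77.PComplementKey
import Cfsg.Agent.Frobenius.Basic
import Cfsg.Agent.S0035

/-!
Finite groups in which every noncentral element has maximal centralizer are solvable.
-/

namespace Cfsg.Agent.H77

open Subgroup

universe u

variable {G : Type u} [Group G] [Finite G]

local notation "Cen" x => Subgroup.centralizer ({x} : Set _)

theorem mem_of_pow_mem_coprime {K : Subgroup G} {g : G} {a b : ℕ} (hab : a.Coprime b)
    (ha : g ^ a ∈ K) (hb : g ^ b ∈ K) : g ∈ K := by
  have h : (g : G) = (g ^ a) ^ (a.gcdA b) * (g ^ b) ^ (a.gcdB b) := by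
    rw [← zpow_natCast, ← zpow_mul, ← zpow_natCast g b, ← zpow_mul, ← zpow_add,
      ← Nat.gcd_eq_gcd_ab, hab.gcd_eq_one, Nat.cast_one, zpow_one]
  rw [h]
  exact mul_mem (zpow_mem ha _) (zpow_mem hb _)

/-- A noncentral element has a noncentral power of prime power order, for any prime dividing its
order modulo the centre. -/
theorem exists_prime_power_noncentral {g : G} {p : ℕ} [Fact p.Prime]
    (hp : p ∣ orderOf (g : G ⧸ Subgroup.center G)) :
    ∃ m k : ℕ, g ^ m ∉ Subgroup.center G ∧ orderOf (g ^ m) = p ^ k := by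
  have hpp : p.Prime := Fact.out
  obtain ⟨k, m, hm, hkm⟩ := Nat.exists_eq_pow_mul_and_not_dvd (orderOf_pos g).ne' p hpp.ne_one
  refine ⟨m, k, fun hc => hm ?_, ?_⟩
  · exact hp.trans (orderOf_dvd_of_pow_eq_one (by rw [← QuotientGroup.mk_pow, QuotientGroup.eq_one_iff]; exact hc))
  · rw [orderOf_pow' g (fun e => hm (by rw [e]; exact dvd_zero p)), hkm, Nat.gcd_mul_left_left,
      Nat.mul_div_cancel _ (Nat.pos_of_ne_zero fun e => hm (by rw [e]; exact dvd_zero p))]

section
variable (h : ∀ g : G, g ∉ Subgroup.center G → IsCoatom (Subgroup.centralizer ({g} : Set G)))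
include h

theorem cent_eq_of_le {g k : G} (hg : g ∉ Subgroup.center G) (hk : k ∉ Subgroup.center G)
    (hle : (Cen g) ≤ Cen k) : (Cen g) = Cen k :=
  (((h g hg).le_iff).mp hle).resolve_left (h k hk).1 |>.symm

theorem cent_pow_eq {g : G} (n : ℕ) (hgn : g ^ n ∉ Subgroup.center G) : (Cen g) = Cen (g ^ n) := by
  refine cent_eq_of_le h (fun hc => hgn (pow_mem hc n)) hgn fun a ha => ?_
  rw [Subgroup.mem_centralizer_singleton_iff] at ha ⊢
  exact (Commute.pow_right (show Commute a g from ha) n).eq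

theorem cent_eq_of_commute {x y : G} (hx : x ∉ Subgroup.center G) (hy : y ∉ Subgroup.center G)
    (hxy : Commute x y) (hcop : (orderOf x).Coprime (orderOf y)) : (Cen x) = Cen y := by
  have key : ∀ x y : G, x ∉ Subgroup.center G → Commute x y → (orderOf x).Coprime (orderOf y) →
      (Cen (x * y)) = Cen x := by
    intro x y hx hxy hcop
    have h1 : (x * y) ^ orderOf y = x ^ orderOf y := by
      rw [hxy.mul_pow, pow_orderOf_eq_one, mul_one]
    obtain ⟨m, hm⟩ := exists_pow_eq_self_of_coprime hcop.symm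
    have h2 : (x * y) ^ (orderOf y * m) = x := by rw [pow_mul, h1, hm]
    have := cent_pow_eq h (g := x * y) (orderOf y * m) (by rw [h2]; exact hx)
    rwa [h2] at this
  rw [← key x y hx hxy hcop, hxy.eq, key y x hy hxy.symm hcop.symm]

theorem solvable_of_abelian_centralizer {g : G} (hg : g ∉ Subgroup.center G)
    (hab : IsMulCommutative (Cen g)) : Group.IsSolvable G := by
  set M := Cen g with hMdef
  have hM : IsCoatom M := h g hg
  have hgM : g ∈ M := Subgroup.mem_centralizer_singleton_iff.mpr rfl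
  set Z := Subgroup.center G
  have hZM : Z ≤ M := fun z hz =>
    Subgroup.mem_centralizer_singleton_iff.mpr (Subgroup.mem_center_iff.mp hz g).symm
  haveI : Group.IsSolvable M := Group.isSolvable_of_comm fun a b => hab.is_comm.comm a b
  by_cases hMn : M.Normal
  · haveI := hMn
    haveI : Group.IsSolvable (G ⧸ M) := by
      obtain ⟨x, hx⟩ : ∃ x : G, x ∉ M := by
        by_contra hc
        push Not at hc
        exact hM.1 (top_le_iff.mp fun x _ => hc x)
      have htop : M ⊔ Subgroup.zpowers x = ⊤ :=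
        hM.2 _ (left_lt_sup.mpr fun hle => hx (hle (Subgroup.mem_zpowers x)))
      have : IsCyclic (G ⧸ M) := by
        refine ⟨⟨(x : G ⧸ M), fun y => ?_⟩⟩
        obtain ⟨y, rfl⟩ := QuotientGroup.mk_surjective y
        have hy : y ∈ M ⊔ Subgroup.zpowers x := htop ▸ Subgroup.mem_top y
        rw [← SetLike.mem_coe, Subgroup.normal_mul] at hy
        obtain ⟨m, hm, z, ⟨i, rfl⟩, rfl⟩ := hy
        exact ⟨i, by simp [(QuotientGroup.eq_one_iff m).mpr hm]⟩
      exact Group.isSolvable_of_comm fun a b => (IsCyclic.isMulCommutative (α := G ⧸ M)).is_comm.comm a b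
    exact Group.isSolvable_of_ker_le_range M.subtype (QuotientGroup.mk' M)
      (by rw [QuotientGroup.ker_mk', Subgroup.range_subtype])
  have hN : Subgroup.normalizer (M : Set G) = M :=
    ((hM.le_iff).mp Subgroup.le_normalizer).resolve_left fun e => hMn (Subgroup.normalizer_eq_top_iff.mp e)
  have hC : ∀ a ∈ M, a ∉ Z → (Cen a) = M := by
    intro a ha haZ
    refine (cent_eq_of_le h hg haZ fun b hb => ?_).symm
    exact Subgroup.mem_centralizer_singleton_iff.mpr (congrArg Subtype.val (hab.is_comm.comm ⟨b, hb⟩ ⟨a, ha⟩))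
  let f := QuotientGroup.mk' Z
  set Mb := M.map f with hMb
  have hcm : Mb.comap f = M := by
    rw [hMb, Subgroup.comap_map_eq, QuotientGroup.ker_mk', sup_eq_left.mpr hZM]
  have hMbc : IsCoatom Mb := by
    refine ⟨fun e => hM.1 (by rw [← hcm, e, Subgroup.comap_top]), fun L hL => ?_⟩
    have : M < L.comap f := by
      rw [← hcm]; exact (Subgroup.comap_lt_comap_of_surjective (QuotientGroup.mk'_surjective Z)).mpr hL
    exact Subgroup.comap_injective (QuotientGroup.mk'_surjective Z) ((hM.2 _ this).trans (Subgroup.comap_top _).symm)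
  have hFC : Cfsg.IsFrobeniusComplement Mb := by
    refine Frobenius.isFrobeniusComplement_of ?_ hMbc.1 ?_
    · intro e
      have : f g ∈ Mb := Subgroup.mem_map_of_mem _ hgM
      rw [e, Subgroup.mem_bot] at this
      exact hg ((QuotientGroup.eq_one_iff g).mp this)
    · intro y x hx hx1 hyx
      obtain ⟨y, rfl⟩ := QuotientGroup.mk'_surjective Z y
      obtain ⟨a, ha, rfl⟩ := hx
      have haZ : a ∉ Z := fun hc => hx1 ((QuotientGroup.eq_one_iff a).mpr hc)
      have hb : y⁻¹ * a * y ∈ M := by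
        rw [← hcm]; simpa [Subgroup.mem_comap, f] using hyx
      have hbZ : y⁻¹ * a * y ∉ Z := fun hc => haZ (by
        have e := Subgroup.mem_center_iff.mp hc y
        have e2 : a = y⁻¹ * a * y := by
          calc a = (y * (y⁻¹ * a * y)) * y⁻¹ := by group
            _ = (y⁻¹ * a * y * y) * y⁻¹ := by rw [e]
            _ = y⁻¹ * a * y := by group
        rw [e2]; exact hc)
      refine Subgroup.mem_map_of_mem _ ?_
      rw [← hN, Subgroup.mem_normalizer_iff'']
      intro b
      conv_lhs => rw [← hC a ha haZ]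
      conv_rhs => rw [← hC _ hb hbZ]
      simp only [Subgroup.mem_centralizer_singleton_iff]
      constructor
      · intro e
        calc y⁻¹ * b * y * (y⁻¹ * a * y) = y⁻¹ * (b * a) * y := by group
          _ = y⁻¹ * (a * b) * y := by rw [e]
          _ = y⁻¹ * a * y * (y⁻¹ * b * y) := by group
      · intro e
        calc b * a = y * (y⁻¹ * b * y * (y⁻¹ * a * y)) * y⁻¹ := by group
          _ = y * (y⁻¹ * a * y * (y⁻¹ * b * y)) * y⁻¹ := by rw [e]
          _ = a * b := by group
  obtain ⟨K, -, hK, hKc⟩ := S0035.result Mb hFC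
  haveI := hK
  haveI : Group.IsSolvable (G ⧸ Z) := by
    refine solvable_of_coatom_complement hMbc hKc.disjoint.eq_bot hKc.sup_eq_top ?_ ?_
    · rw [show Nat.card K = Mb.index from hKc.index_eq_card.symm]
      exact Frobenius.coprime_card_index hFC
    · exact Group.isSolvable_of_surjective (f.subgroupMap_surjective M)
  haveI : Group.IsSolvable Z := Group.isSolvable_of_comm fun a b =>
    Subtype.ext (Subgroup.mem_center_iff.mp b.2 a)
  exact Group.isSolvable_of_ker_le_range Z.subtype f
    (by rw [QuotientGroup.ker_mk', Subgroup.range_subtype])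

/-- In the nonabelian case the image of the centralizer of a noncentral `p`-element is a `p`-group. -/
theorem isPGroup_cent_image (hnab : ∀ g : G, g ∉ Subgroup.center G → ¬ IsMulCommutative (Cen g))
    {x : G} {p k : ℕ} [Fact p.Prime] (hx : x ∉ Subgroup.center G) (hox : orderOf x = p ^ k) :
    IsPGroup p ↥((Cen x).map (QuotientGroup.mk' (Subgroup.center G))) := by
  set Z := Subgroup.center G
  rintro ⟨_, y, hy, rfl⟩
  have hpp : p.Prime := Fact.out
  obtain ⟨j, m, hm, hjm⟩ := Nat.exists_eq_pow_mul_and_not_dvd (orderOf_pos y).ne' p hpp.ne_one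
  refine ⟨j, Subtype.ext ?_⟩
  show (QuotientGroup.mk' Z y) ^ p ^ j = 1
  rw [← map_pow]
  refine (QuotientGroup.eq_one_iff _).mpr ?_
  by_contra hc
  set z := y ^ p ^ j with hz
  have hzo : orderOf z = m := by
    rw [hz, orderOf_pow' y (pow_ne_zero _ hpp.ne_zero), hjm, Nat.gcd_mul_right_left,
      Nat.mul_div_cancel_left _ (pow_pos hpp.pos j)]
  have hzm : z ∈ Cen x := pow_mem hy _
  have hxz : (Cen x) = Cen z := by
    refine cent_eq_of_commute h hx hc ?_ ?_
    · exact (Subgroup.mem_centralizer_singleton_iff.mp hzm).symm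
    · rw [hox, hzo]; exact Nat.Coprime.pow_left _ ((hpp.coprime_iff_not_dvd).mpr hm)
  refine hnab x hx ⟨⟨fun a b => ?_⟩⟩
  suffices hcen : ∀ a ∈ (Cen x), ∀ b ∈ (Cen x), a * b = b * a from Subtype.ext (hcen a a.2 b b.2)
  intro a ha b hb
  have hsplit : ∀ w ∈ (Cen x), ∀ c, (orderOf c).Coprime (orderOf w) → (Cen c) = (Cen x) →
      c ∉ Z → Commute w b := by
    intro w hw c hco hcc hcZ
    by_cases hwZ : w ∈ Z
    · exact (Subgroup.mem_center_iff.mp hwZ b).symm
    · have : (Cen c) = Cen w := by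
        refine cent_eq_of_commute h hcZ hwZ ?_ hco
        rw [← hcc] at hw
        exact (Subgroup.mem_centralizer_singleton_iff.mp hw).symm
      have hb' : b ∈ Cen w := by rw [← this, hcc]; exact hb
      exact (Subgroup.mem_centralizer_singleton_iff.mp hb').symm
  obtain ⟨i, l, hl, hil⟩ := Nat.exists_eq_pow_mul_and_not_dvd (orderOf_pos a).ne' p hpp.ne_one
  have h1 : Commute (a ^ l) b := by
    refine hsplit (a ^ l) (pow_mem ha _) z ?_ hxz.symm hc
    have : orderOf (a ^ l) ∣ p ^ i := orderOf_dvd_of_pow_eq_one (by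
      rw [← pow_mul, mul_comm, ← hil, pow_orderOf_eq_one])
    rw [hzo]
    exact Nat.Coprime.coprime_dvd_right this (Nat.Coprime.pow_right _ ((hpp.coprime_iff_not_dvd).mpr hm).symm)
  have h2 : Commute (a ^ p ^ i) b := by
    refine hsplit (a ^ p ^ i) (pow_mem ha _) x ?_ rfl hx
    have : orderOf (a ^ p ^ i) ∣ l := orderOf_dvd_of_pow_eq_one (by
      rw [← pow_mul, ← hil, pow_orderOf_eq_one])
    rw [hox]
    exact Nat.Coprime.coprime_dvd_right this (Nat.Coprime.pow_left _ ((hpp.coprime_iff_not_dvd).mpr hl))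
  exact (Subgroup.mem_centralizer_singleton_iff.mp (mem_of_pow_mem_coprime (K := Cen b)
    (Nat.Coprime.pow_right i ((hpp.coprime_iff_not_dvd).mpr hl).symm)
    (Subgroup.mem_centralizer_singleton_iff.mpr h1.eq) (Subgroup.mem_centralizer_singleton_iff.mpr h2.eq)))

omit h in
theorem isCoatom_map_mk {M : Subgroup G} (hM : IsCoatom M) {N : Subgroup G} [N.Normal] (hNM : N ≤ M) :
    IsCoatom (M.map (QuotientGroup.mk' N)) := by
  have hcm : (M.map (QuotientGroup.mk' N)).comap (QuotientGroup.mk' N) = M := by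
    rw [Subgroup.comap_map_eq, QuotientGroup.ker_mk', sup_eq_left.mpr hNM]
  refine ⟨fun e => hM.1 (by rw [← hcm, e, Subgroup.comap_top]), fun L hL => ?_⟩
  have : M < L.comap (QuotientGroup.mk' N) := by
    rw [← hcm]; exact (Subgroup.comap_lt_comap_of_surjective (QuotientGroup.mk'_surjective N)).mpr hL
  exact Subgroup.comap_injective (QuotientGroup.mk'_surjective N) ((hM.2 _ this).trans (Subgroup.comap_top _).symm)

theorem solvable_of_maximal_centralizers (GT : GTHyp.{u}) : Group.IsSolvable G := by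
  by_cases hA : ∃ g : G, g ∉ Subgroup.center G ∧ IsMulCommutative (Cen g)
  · obtain ⟨g, hg, hab⟩ := hA
    exact solvable_of_abelian_centralizer h hg hab
  push Not at hA
  set Z := Subgroup.center G
  haveI : Group.IsSolvable Z := Group.isSolvable_of_comm fun a b =>
    Subtype.ext (Subgroup.mem_center_iff.mp b.2 a)
  suffices Group.IsSolvable (G ⧸ Z) from Group.isSolvable_of_ker_le_range Z.subtype (QuotientGroup.mk' Z)
    (by rw [QuotientGroup.ker_mk', Subgroup.range_subtype])
  -- for each prime divisor of the order: a maximal subgroup of prime power order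
  have key : ∀ p : ℕ, ∀ _ : Fact p.Prime, p ∣ Nat.card (G ⧸ Z) →
      ∃ M : Subgroup (G ⧸ Z), IsCoatom M ∧ IsPGroup p M := by
    intro p _ hp
    obtain ⟨y, hy⟩ := exists_prime_orderOf_dvd_card' p hp
    obtain ⟨g, rfl⟩ := QuotientGroup.mk_surjective y
    obtain ⟨m, k, hx, hox⟩ := exists_prime_power_noncentral (g := g) (p := p) (hy ▸ dvd_rfl)
    exact ⟨_, isCoatom_map_mk (h _ hx) (fun z hz => Subgroup.mem_centralizer_singleton_iff.mpr
      (Subgroup.mem_center_iff.mp hz _).symm), isPGroup_cent_image h hA hx hox⟩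
  by_cases h2 : IsPGroup 2 (G ⧸ Z)
  · haveI : Fact (Nat.Prime 2) := ⟨Nat.prime_two⟩
    haveI := h2.isNilpotent
    infer_instance
  obtain ⟨p, hp, hpd, hp2⟩ : ∃ p : ℕ, p.Prime ∧ p ∣ Nat.card (G ⧸ Z) ∧ p ≠ 2 := by
    by_contra hc
    push Not at hc
    exact h2 (IsPGroup.of_card (Nat.eq_prime_pow_of_unique_prime_dvd Nat.card_pos.ne' (fun {d} hd hdd => hc d hd hdd)))
  haveI := Fact.mk hp
  obtain ⟨M, hM, hMp⟩ := key p inferInstance hpd
  obtain ⟨P, hP⟩ := hMp.exists_le_sylow
  rcases hM.le_iff.mp hP with hPt | hPM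
  · have hpg : IsPGroup p (G ⧸ Z) := fun x => by
      obtain ⟨k, hk⟩ := P.isPGroup' ⟨x, hPt ▸ Subgroup.mem_top x⟩
      exact ⟨k, congrArg Subtype.val hk⟩
    haveI := hpg.isNilpotent
    infer_instance
  haveI hMnil := hMp.isNilpotent
  rcases pComplement_or_pCore_ne_bot GT hp2 P (fun H hH hle => by
      have : H = M := ((hM.le_iff).mp (hPM ▸ Subgroup.le_normalizer.trans hle)).resolve_left hH
      subst this
      exact Fusion.hasNormalPComplement_of_isPGroup hMp) with hc | hc
  · obtain ⟨P', K, hK, hKc⟩ := hc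
    haveI := hK
    have hKP := (Fusion.hasNormalPComplement_iff_exists P).mp ⟨P', K, hK, hKc⟩
    obtain ⟨K, hK, hKc⟩ := hKP
    haveI := hK
    refine solvable_of_coatom_complement hM (K := K) ?_ ?_ ?_ inferInstance
    · rw [← hPM]; exact hKc.disjoint.eq_bot
    · rw [← hPM]; exact hKc.sup_eq_top
    · rw [← hPM, ← hKc.index_eq_card]
      exact P.card_coprime_index
  · set D := Cfsg.pCore p (G ⧸ Z)
    by_cases hq : IsPGroup p (G ⧸ Z)
    · haveI := hq.isNilpotent
      infer_instance
    obtain ⟨q, hq', hqd, hqp⟩ : ∃ q : ℕ, q.Prime ∧ q ∣ Nat.card (G ⧸ Z) ∧ q ≠ p := by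
      by_contra hcc
      push Not at hcc
      exact hq (IsPGroup.of_card (Nat.eq_prime_pow_of_unique_prime_dvd Nat.card_pos.ne' (fun {d} hd hdd => hcc d hd hdd)))
    haveI := Fact.mk hq'
    obtain ⟨N, hN, hNq⟩ := key q inferInstance hqd
    have hDp : IsPGroup p D := Cores.pCore_isPGroup
    haveI hDn : D.Normal := Subgroup.sSup_normal _ (fun _ hN => hN.1)
    have hDN : ¬ D ≤ N := fun hle => hc (disjoint_self.mp
      (IsPGroup.disjoint_of_ne q p hqp _ _ (hNq.to_le hle) hDp))
    have hsup : D ⊔ N = ⊤ := hN.2 _ (right_lt_sup.mpr hDN)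
    haveI := hNq.isNilpotent
    haveI := hDp.isNilpotent
    haveI : Group.IsSolvable ((G ⧸ Z) ⧸ D) := by
      refine Group.isSolvable_of_surjective (f := (QuotientGroup.mk' D).comp N.subtype) fun y => ?_
      obtain ⟨g, rfl⟩ := QuotientGroup.mk'_surjective D y
      have hg : g ∈ D ⊔ N := hsup ▸ Subgroup.mem_top g
      rw [← SetLike.mem_coe, Subgroup.normal_mul] at hg
      obtain ⟨k, hk, m, hm, rfl⟩ := hg
      exact ⟨⟨m, hm⟩, by simp [(QuotientGroup.eq_one_iff k).mpr hk]⟩
    exact Group.isSolvable_of_ker_le_range D.subtype (QuotientGroup.mk' D)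
      (by rw [QuotientGroup.ker_mk', Subgroup.range_subtype])

end

end Cfsg.Agent.H77
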