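import Cfsg.Prelude.Def_SolvableStructure
import Cfsg.Agent.Coprime.Action
import Cfsg.Agent.Coprime.Basic
import Cfsg.Agent.Cores.PCore
import Cfsg.Agent.Fusion.PComplement
import Cfsg.Agent.H25.Transfer
import Cfsg.Agent.S0072
import Cfsg.Agent.H77.Subnormal

/-!
Groups all of whose maximal subgroups of order divisible by `p` are nilpotent.
-/

namespace Cfsg.Agent.H77

open Subgroup

universe u

variable {G : Type u} [Group G] [Finite G]

theorem nilpotent_of_inj {A B : Type*} [Group A] [Group B] (f : A →* B)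
    (hf : Function.Injective f) [Group.IsNilpotent B] : Group.IsNilpotent A :=
  Subgroup.isNilpotent_of_ker_le_center f (by rw [(MonoidHom.ker_eq_bot_iff f).mpr hf]; exact bot_le)

theorem exists_direct_factor_of_maximal_nilpotent (p : ℕ) (hp : p.Prime) (hpG : p ∣ Nat.card G)
    (h : ∀ M : Subgroup G, IsCoatom M → p ∣ Nat.card M → Group.IsNilpotent M) {M : Subgroup G}
    (hM : IsCoatom M) (hnM : ¬ Group.IsNilpotent M) :
    ∃ Z K : Subgroup G, Z.Normal ∧ K.Normal ∧ Z ⊓ K = ⊥ ∧ Z ⊔ K = ⊤ ∧ Nat.card Z = p ∧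
      Cfsg.IsMinimalNonNilpotent K ∧ ¬ p ∣ Nat.card K := by
  haveI := Fact.mk hp
  have hpM : ¬ p ∣ Nat.card M := fun hd => hnM (h M hM hd)
  have hprop : ∀ X : Subgroup G, X ≠ ⊤ → p ∣ Nat.card X → Group.IsNilpotent X := by
    intro X hX hd
    obtain ⟨C, hC, hXC⟩ := (eq_top_or_exists_le_coatom X).resolve_left hX
    haveI := h C hC (hd.trans (Subgroup.card_dvd_of_le hXC))
    exact nilpotent_of_inj (Subgroup.inclusion hXC) (Subgroup.inclusion_injective hXC)
  obtain ⟨P⟩ : Nonempty (Sylow p G) := inferInstance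
  have hPb : (P : Subgroup G) ≠ ⊥ := P.ne_bot_of_dvd_card hpG
  have hpP : p ∣ Nat.card (P : Subgroup G) := P.dvd_card_of_dvd_card hpG
  have hPM : (P : Subgroup G) ⊓ M = ⊥ := by
    refine disjoint_iff.mp (Subgroup.disjoint_of_coprime_natCard ?_)
    obtain ⟨n, hn⟩ := IsPGroup.iff_card.mp P.isPGroup'
    rw [hn]
    exact Nat.Coprime.pow_left n (hp.coprime_iff_not_dvd.mpr hpM)
  have hcopPM : (Nat.card (P : Subgroup G)).Coprime (Nat.card M) := by
    obtain ⟨n, hn⟩ := IsPGroup.iff_card.mp P.isPGroup'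
    rw [hn]
    exact Nat.Coprime.pow_left n (hp.coprime_iff_not_dvd.mpr hpM)
  have hPn : (P : Subgroup G).Normal := by
    by_cases hD : Cfsg.pCore p G = ⊥
    · -- `G` has a normal `p`-complement, equal to `M`
      have hNPC : Cfsg.HasNormalPComplement p G := by
        refine (S0072.result p).mpr fun U hU hUb => ?_
        have hne : Subgroup.normalizer (U : Set G) ≠ ⊤ := fun e => by
          haveI := Subgroup.normalizer_eq_top_iff.mp e
          exact hUb (le_bot_iff.mp ((Cores.le_pCore hU).trans hD.le))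
        have hd : p ∣ Nat.card (Subgroup.normalizer (U : Set G)) := by
          refine dvd_trans ?_ (Subgroup.card_dvd_of_le Subgroup.le_normalizer)
          obtain ⟨n, hn⟩ := IsPGroup.iff_card.mp hU
          rw [hn]
          refine dvd_pow_self p fun h0 => hUb ?_
          rw [h0, pow_zero] at hn
          exact Subgroup.card_eq_one.mp hn
        haveI := hprop _ hne hd
        exact Fusion.hasNormalPComplement_of_isNilpotent
      set K := Cfsg.pResidual p G
      have hK : ¬ p ∣ Nat.card K := Fusion.hasNormalPComplement_iff_pResidual.mp hNPC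
      have hMK : M ≤ K := fun x hx => Fusion.mem_pResidual
        ((hp.coprime_iff_not_dvd.mpr fun hd => hpM (hd.trans (Subgroup.orderOf_dvd_natCard M hx))).symm)
      have hKM : K = M := ((hM.le_iff).mp hMK).resolve_left fun e => hK (by
        rw [e, Subgroup.card_top]; exact hpG)
      haveI hMn : M.Normal := hKM ▸ inferInstanceAs (Cfsg.pResidual p G).Normal
      haveI : Group.IsSolvable (P : Subgroup G) := by
        haveI := P.isPGroup'.isNilpotent; infer_instance
      have hcent : ∀ q : ℕ, q.Prime → q ^ (Nat.card M).factorization q ∣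
          Nat.card ↥(Subgroup.centralizer ((P : Subgroup G) : Set G) ⊓ M) := by
        intro q hq
        haveI := Fact.mk hq
        obtain ⟨Q, hQ⟩ := Coprime.exists_invariant_sylow (A := (P : Subgroup G)) (K := M)
          Subgroup.le_normalizer_of_normal hcopPM (Or.inl inferInstance) q
        set Q' := (Q : Subgroup M).map M.subtype with hQ'
        have hQM : Q' ≤ M := Subgroup.map_subtype_le _
        have hd : Q' ⊓ (P : Subgroup G) = ⊥ := le_bot_iff.mp (by
          rw [← hPM, inf_comm (P : Subgroup G)]; exact inf_le_inf_right _ hQM)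
        have hne : Q' ⊔ (P : Subgroup G) ≠ ⊤ := by
          intro e
          have h1 := Coprime.card_sup hQ hd
          rw [e, Subgroup.card_top] at h1
          have h2 : Nat.card M ∣ Nat.card Q' := by
            refine (Nat.Coprime.dvd_of_dvd_mul_right hcopPM.symm ?_)
            rw [← h1]; exact Subgroup.card_subgroup_dvd_card M
          have hQq : IsPGroup q Q' := Q.isPGroup'.map _
          have : M ≤ Q' := (Subgroup.eq_of_le_of_card_ge hQM
            (Nat.le_of_dvd Nat.card_pos h2)).ge
          exact hnM (hQq.to_le this).isNilpotent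
        haveI := hprop _ hne (hpP.trans (Subgroup.card_dvd_of_le le_sup_right))
        have hQc : Q' ≤ Subgroup.centralizer ((P : Subgroup G) : Set G) := by
          intro y hy
          refine Subgroup.mem_centralizer_iff.mpr fun a ha => ?_
          have hco : (orderOf a).Coprime (orderOf y) :=
            Nat.Coprime.coprime_dvd_left (Subgroup.orderOf_dvd_natCard _ ha)
              (Nat.Coprime.coprime_dvd_right (Subgroup.orderOf_dvd_natCard _ (hQM hy)) hcopPM)
          have := H25.commute_of_coprime_orderOf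
            (⟨a, Subgroup.mem_sup_right ha⟩ : ↥(Q' ⊔ (P : Subgroup G))) ⟨y, Subgroup.mem_sup_left hy⟩
            (by rwa [← Subgroup.orderOf_coe, ← Subgroup.orderOf_coe])
          exact congrArg Subtype.val this
        calc q ^ (Nat.card M).factorization q = Nat.card Q' := by
              rw [hQ', Subgroup.card_map_of_injective M.subtype_injective, Q.card_eq_multiplicity]
          _ ∣ _ := Subgroup.card_dvd_of_le (le_inf hQc hQM)
      have hall : Nat.card M ∣ Nat.card ↥(Subgroup.centralizer ((P : Subgroup G) : Set G) ⊓ M) := by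
        rw [← Nat.factorization_le_iff_dvd Nat.card_pos.ne' Nat.card_pos.ne']
        intro q
        by_cases hq : q.Prime
        · exact (hq.pow_dvd_iff_le_factorization Nat.card_pos.ne').mp (hcent q hq)
        · simp [Nat.factorization_eq_zero_of_not_prime _ hq]
      have hMc : M ≤ Subgroup.centralizer ((P : Subgroup G) : Set G) :=
        (Subgroup.eq_of_le_of_card_ge inf_le_right (Nat.le_of_dvd Nat.card_pos hall)).ge.trans inf_le_left
      refine Subgroup.normalizer_eq_top_iff.mp (top_le_iff.mp ?_)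
      have hsup : M ⊔ (P : Subgroup G) = ⊤ :=
        hM.2 _ (left_lt_sup.mpr fun hle => hPb (by rw [← hPM, inf_eq_left.mpr hle]))
      rw [← hsup]
      exact sup_le (hMc.trans (Subgroup.centralizer_le_normalizer _)) Subgroup.le_normalizer
    · have hDp : IsPGroup p (Cfsg.pCore p G) := Cores.pCore_isPGroup
      haveI : (Cfsg.pCore p G).Normal := inferInstance
      have hDM : ¬ Cfsg.pCore p G ≤ M := by
        intro hle
        obtain ⟨n, hn⟩ := IsPGroup.iff_card.mp hDp
        refine hpM (dvd_trans ?_ (Subgroup.card_dvd_of_le hle))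
        rw [hn]
        refine dvd_pow_self p fun h0 => hD ?_
        rw [h0, pow_zero] at hn
        exact Subgroup.card_eq_one.mp hn
      have hsup : M ⊔ Cfsg.pCore p G = ⊤ := hM.2 _ (left_lt_sup.mpr hDM)
      have h1 := Cores.card_sup_dvd M (Cfsg.pCore p G)
      rw [hsup, Subgroup.card_top] at h1
      have h2 : Nat.card (P : Subgroup G) ∣ Nat.card (Cfsg.pCore p G) :=
        hcopPM.dvd_of_dvd_mul_left ((Subgroup.card_subgroup_dvd_card _).trans h1)
      have : Cfsg.pCore p G = P :=
        Subgroup.eq_of_le_of_card_ge (Cores.pCore_le_sylow P) (Nat.le_of_dvd Nat.card_pos h2)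
      rw [← this]; infer_instance
  haveI := hPn
  have hsup : M ⊔ (P : Subgroup G) = ⊤ :=
    hM.2 _ (left_lt_sup.mpr fun hle => hPb (by rw [← hPM, inf_eq_left.mpr hle]))
  have hcard : Nat.card G = Nat.card (P : Subgroup G) * Nat.card M := by
    rw [← Coprime.card_sup Subgroup.le_normalizer_of_normal hPM, sup_comm, hsup, Subgroup.card_top]
  -- proper subgroups of `M` centralise `P`
  have hsub : ∀ X : Subgroup G, X < M →
      Group.IsNilpotent X ∧ X ≤ Subgroup.centralizer ((P : Subgroup G) : Set G) := by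
    intro X hX
    have hd : (P : Subgroup G) ⊓ X = ⊥ := le_bot_iff.mp (hPM ▸ inf_le_inf_left _ hX.le)
    have hne : (P : Subgroup G) ⊔ X ≠ ⊤ := by
      intro e
      have h1 := Coprime.card_sup (N := (P : Subgroup G)) (H := X) Subgroup.le_normalizer_of_normal hd
      rw [e, Subgroup.card_top, hcard] at h1
      exact hX.ne (Subgroup.eq_of_le_of_card_ge hX.le (Nat.eq_of_mul_eq_mul_left Nat.card_pos h1).le)
    haveI hnil := hprop _ hne (hpP.trans (Subgroup.card_dvd_of_le le_sup_left))
    refine ⟨nilpotent_of_inj (Subgroup.inclusion (le_sup_right : X ≤ (P : Subgroup G) ⊔ X))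
      (Subgroup.inclusion_injective _), fun y hy => Subgroup.mem_centralizer_iff.mpr fun a ha => ?_⟩
    have hco : (orderOf a).Coprime (orderOf y) :=
      Nat.Coprime.coprime_dvd_left (Subgroup.orderOf_dvd_natCard _ ha)
        (Nat.Coprime.coprime_dvd_right (Subgroup.orderOf_dvd_natCard _ (hX.le hy)) hcopPM)
    have := H25.commute_of_coprime_orderOf
      (⟨a, Subgroup.mem_sup_left ha⟩ : ↥((P : Subgroup G) ⊔ X)) ⟨y, Subgroup.mem_sup_right hy⟩
      (by rwa [← Subgroup.orderOf_coe, ← Subgroup.orderOf_coe])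
    exact congrArg Subtype.val this
  have hMc : M ≤ Subgroup.centralizer ((P : Subgroup G) : Set G) := by
    intro a ha
    refine (hsub _ (lt_of_le_of_ne (Subgroup.zpowers_le.mpr ha) fun e => hnM ?_)).2 (Subgroup.mem_zpowers a)
    rw [← e]
    letI : CommGroup (Subgroup.zpowers a) := IsCyclic.commGroup
    exact CommGroup.isNilpotent
  have hMn : M.Normal := by
    refine Subgroup.normalizer_eq_top_iff.mp (top_le_iff.mp ?_)
    rw [← hsup]
    refine sup_le Subgroup.le_normalizer fun a ha => Subgroup.mem_normalizer_iff.mpr fun y => ?_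
    constructor
    · intro hy
      rwa [Subgroup.mem_centralizer_iff.mp (hMc hy) a ha, mul_inv_cancel_right]
    · intro hy
      have := Subgroup.mem_centralizer_iff.mp (hMc hy) a⁻¹ (inv_mem ha)
      have e : y = a⁻¹ * (a * y * a⁻¹) * a := by group
      rw [e, this, inv_mul_cancel_right]
      exact hy
  obtain ⟨u, hu⟩ := exists_prime_orderOf_dvd_card' p hpP
  have hUP : Subgroup.zpowers (u : G) ≤ P := Subgroup.zpowers_le.mpr u.2
  have hU : Nat.card (Subgroup.zpowers (u : G)) = p := by rw [Nat.card_zpowers, Subgroup.orderOf_coe, hu]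
  have hUM : ¬ Subgroup.zpowers (u : G) ≤ M := fun hle => hpM (hU ▸ Subgroup.card_dvd_of_le hle)
  have hUtop : Subgroup.zpowers (u : G) ⊔ M = ⊤ := hM.2 _ (right_lt_sup.mpr hUM)
  have hPp : Nat.card (P : Subgroup G) = p := by
    haveI := hMn
    have h1 := Cores.card_sup_dvd (Subgroup.zpowers (u : G)) M
    rw [hUtop, Subgroup.card_top, hcard, hU] at h1
    exact Nat.dvd_antisymm (Nat.dvd_of_mul_dvd_mul_right Nat.card_pos h1) hpP
  refine ⟨P, M, hPn, hMn, hPM, by rw [sup_comm, hsup], hPp, ⟨hnM, fun H hH => ?_⟩, hpM⟩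
  have := (hsub (H.map M.subtype) (lt_of_le_of_ne (Subgroup.map_subtype_le _) fun e => hH ?_)).1
  · haveI := this
    exact nilpotent_of_inj (H.equivMapOfInjective M.subtype M.subtype_injective).toMonoidHom
      (MulEquiv.injective _)
  · refine Subgroup.map_injective M.subtype_injective ?_
    rw [e, ← MonoidHom.range_eq_map, Subgroup.range_subtype]

theorem maximal_nilpotent_of_direct_factor (p : ℕ) {M : Subgroup G} (hM : IsCoatom M)
    (hpM : p ∣ Nat.card M) {Z K : Subgroup G} (hZ : Z.Normal) (hK : K.Normal) (hd : Z ⊓ K = ⊥)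
    (hsup : Z ⊔ K = ⊤) (hcard : Nat.card Z = p) (hp : p.Prime)
    (hKm : Cfsg.IsMinimalNonNilpotent K) (hpK : ¬ p ∣ Nat.card K) : Group.IsNilpotent M := by
  haveI := hZ
  haveI := hK
  haveI := Fact.mk hp
  have hcomm : ∀ z ∈ Z, ∀ k ∈ K, z * k = k * z := fun z hz k hk =>
    (Subgroup.commute_of_normal_of_disjoint Z K hZ hK (disjoint_iff.mpr hd) z k hz hk).eq
  have hZc : Z ≤ Subgroup.center G := by
    intro z hz
    refine Subgroup.mem_center_iff.mpr fun g => ?_
    have hg : g ∈ Z ⊔ K := hsup ▸ Subgroup.mem_top g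
    rw [← SetLike.mem_coe, Subgroup.normal_mul] at hg
    obtain ⟨z', hz', k, hk, rfl⟩ := hg
    haveI := isCyclic_of_prime_card (α := Z) hcard
    have h1 : z' * z = z * z' := congrArg Subtype.val
      ((IsCyclic.isMulCommutative (α := Z)).is_comm.comm ⟨z', hz'⟩ ⟨z, hz⟩)
    rw [mul_assoc, ← hcomm z hz k hk, ← mul_assoc, h1, mul_assoc]
  have hZM : Z ≤ M := by
    obtain ⟨m, hm⟩ := exists_prime_orderOf_dvd_card' p hpM
    have hmZ : (m : G) ∈ Z := by
      have hg : (m : G) ∈ Z ⊔ K := hsup ▸ Subgroup.mem_top _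
      rw [← SetLike.mem_coe, Subgroup.normal_mul] at hg
      obtain ⟨z, hz, k, hk, he⟩ := hg
      replace he : z * k = (m : G) := he
      have hk1 : k ^ p = 1 := by
        have h1 : (z * k) ^ p = 1 := by rw [he, ← hm, ← Subgroup.orderOf_coe, pow_orderOf_eq_one]
        rwa [(Commute.mul_pow (hcomm z hz k hk)), show z ^ p = 1 from by
          have := congrArg Subtype.val (hcard ▸ pow_card_eq_one' (x := (⟨z, hz⟩ : Z)))
          simpa using this, one_mul] at h1
      have hk2 : k = 1 := by
        refine orderOf_eq_one_iff.mp (Nat.eq_one_of_dvd_coprimes ((hp.coprime_iff_not_dvd).mpr hpK) ?_ ?_)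
        · exact orderOf_dvd_of_pow_eq_one hk1
        · exact Subgroup.orderOf_dvd_natCard K hk
      rw [← he, hk2]; simpa using hz
    have : Subgroup.zpowers (m : G) = Z := Subgroup.eq_of_le_of_card_ge (Subgroup.zpowers_le.mpr hmZ)
      (by rw [Nat.card_zpowers, Subgroup.orderOf_coe, hm, hcard])
    rw [← this]; exact Subgroup.zpowers_le.mpr m.2
  -- the projection of `M` on `K`
  have hMK : ∀ g ∈ M, ∃ k ∈ M ⊓ K, k⁻¹ * g ∈ Z := by
    intro g hg
    have hg' : g ∈ K ⊔ Z := (sup_comm Z K ▸ hsup) ▸ Subgroup.mem_top g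
    rw [← SetLike.mem_coe, Subgroup.normal_mul] at hg'
    obtain ⟨k, hk, z, hz, rfl⟩ := hg'
    refine ⟨k, ⟨by simpa using mul_mem hg (inv_mem (hZM hz)), hk⟩, ?_⟩
    rwa [inv_mul_cancel_left]
  have hne : (M ⊓ K).subgroupOf K ≠ ⊤ := by
    intro e
    rw [Subgroup.subgroupOf_eq_top] at e
    exact hM.1 (top_le_iff.mp (hsup.ge.trans (sup_le hZM (e.trans inf_le_left))))
  haveI := hKm.2 _ hne
  let f : ↥((M ⊓ K).subgroupOf K) →* M ⧸ Z.subgroupOf M :=
    (QuotientGroup.mk' _).comp ((K.subtype.comp (Subgroup.subtype _)).codRestrict M fun y => y.2.1)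
  have hf : Function.Surjective f := by
    intro y
    obtain ⟨g, rfl⟩ := QuotientGroup.mk_surjective y
    obtain ⟨k, hk, hkg⟩ := hMK g g.2
    exact ⟨⟨⟨k, hk.2⟩, hk⟩, QuotientGroup.eq.mpr hkg⟩
  haveI := Group.nilpotent_of_surjective f hf
  refine Subgroup.isNilpotent_of_ker_le_center (QuotientGroup.mk' (Z.subgroupOf M)) ?_
  rw [QuotientGroup.ker_mk']
  intro z hz
  exact Subgroup.mem_center_iff.mpr fun g => Subtype.ext (Subgroup.mem_center_iff.mp (hZc hz) g)

end Cfsg.Agent.H77
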