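import Mathlib
import Cfsg.Agent.H77.Marggraff

/-!
# Quasiprimitive groups with a small Jordan set

Reduction of the quasiprimitive case to Marggraff's theorem on primitive groups.
-/

set_option autoImplicit false
set_option linter.style.haveILetI false
set_option linter.unusedSectionVars false

namespace Cfsg.Agent.H77.Quasiprimitive

open Equiv Equiv.Perm MulAction
open scoped Pointwise

/-- A nontrivial group of permutations fixing a point and normalised by the even permutations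
fixing that point contains all of them. -/
theorem even_fixing_mem {β : Type*} [Fintype β] [DecidableEq β] (N : Subgroup (Perm β)) (z : β)
    (h6 : 6 ≤ Fintype.card β) (hfix : ∀ f ∈ N, f z = z) (hne : ∃ f ∈ N, f ≠ 1)
    (hnorm : ∀ f ∈ N, ∀ e : Perm β, sign e = 1 → e z = z → e * f * e⁻¹ ∈ N) :
    ∀ e : Perm β, sign e = 1 → e z = z → e ∈ N := by
  classical
  obtain ⟨f, hf, hf1⟩ := hne
  obtain ⟨p, hp⟩ : ∃ p, f p ≠ p := by
    by_contra h
    push Not at h
    exact hf1 (Equiv.ext h)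
  have hpz : p ≠ z := fun e => hp (by rw [e, hfix f hf])
  have hqz : f p ≠ z := fun e => hpz (f.injective (e.trans (hfix f hf).symm))
  obtain ⟨s, hs, t, ht, hst⟩ := Finset.one_lt_card.1 (show 1 < ({p, f p, z} : Finset β)ᶜ.card by
    have := Finset.card_le_three (a := p) (b := f p) (c := z)
    rw [Finset.card_compl]; omega)
  simp only [Finset.mem_compl, Finset.mem_insert, Finset.mem_singleton, not_or] at hs ht
  set e₀ : Perm β := swap (f p) s * swap (f p) t with he₀
  have he₀s : sign e₀ = 1 := by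
    rw [he₀, map_mul, sign_swap (Ne.symm hs.2.1), sign_swap (Ne.symm ht.2.1)]
    rfl
  have he₀z : e₀ z = z := by
    rw [he₀, mul_apply, swap_apply_of_ne_of_ne (Ne.symm hqz) (Ne.symm ht.2.2),
      swap_apply_of_ne_of_ne (Ne.symm hqz) (Ne.symm hs.2.2)]
  have he₀p : e₀ p = p := by
    rw [he₀, mul_apply, swap_apply_of_ne_of_ne (Ne.symm hp) (Ne.symm ht.1),
      swap_apply_of_ne_of_ne (Ne.symm hp) (Ne.symm hs.1)]
  have he₀q : e₀ (f p) = t := by
    rw [he₀, mul_apply, swap_apply_left, swap_apply_of_ne_of_ne ht.2.1 (Ne.symm hst)]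
  set d : Perm β := e₀ * f * e₀⁻¹ * f⁻¹ with hd
  have hdN : d ∈ N := mul_mem (hnorm f hf e₀ he₀s he₀z) (inv_mem hf)
  have hd1 : d ≠ 1 := by
    intro h
    have h1 : e₀ * f = f * e₀ := by
      rw [hd, mul_inv_eq_one, mul_inv_eq_iff_eq_mul] at h
      exact h
    have h2 := congrArg (fun g : Perm β => g p) h1
    simp only [mul_apply, he₀p, he₀q] at h2
    exact ht.2.1 h2
  have hds : sign d = 1 := by
    rw [hd, map_mul, map_mul, map_mul, sign_inv, sign_inv, mul_right_comm (sign e₀) (sign f) (sign e₀),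
      mul_assoc, Int.units_mul_self, Int.units_mul_self, mul_one]
  -- transfer to the alternating group on the other points
  let φ : alternatingGroup {w : β // w ≠ z} →* Perm β :=
    ofSubtype.comp (alternatingGroup {w : β // w ≠ z}).subtype
  have hφz : ∀ a, φ a z = z := fun a => ofSubtype_apply_of_not_mem _ (fun h => h rfl)
  have hφs : ∀ a, sign (φ a) = 1 := fun a => by
    simp only [φ, MonoidHom.comp_apply, Subgroup.coe_subtype, sign_ofSubtype]
    exact a.2
  have hlift : ∀ e : Perm β, sign e = 1 → e z = z → ∃ a, φ a = e := by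
    intro e he hez
    have h₁ : ∀ x, e x ≠ z ↔ x ≠ z := fun x => not_congr ⟨fun h => e.injective (h.trans hez.symm),
      fun h => by rw [h, hez]⟩
    have hof : ofSubtype (e.subtypePerm h₁) = e :=
      ofSubtype_subtypePerm (p := fun w => w ≠ z) h₁ (fun x hx hxz => hx (by rw [hxz, hez]))
    refine ⟨⟨e.subtypePerm h₁, ?_⟩, hof⟩
    rw [mem_alternatingGroup, ← sign_ofSubtype, hof]
    exact he
  let M : Subgroup (alternatingGroup {w : β // w ≠ z}) := N.comap φ
  haveI : M.Normal := ⟨fun a ha b => by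
    simp only [M, Subgroup.mem_comap, map_mul, map_inv] at ha ⊢
    exact hnorm _ ha _ (hφs b) (hφz b)⟩
  haveI : IsSimpleGroup (alternatingGroup {w : β // w ≠ z}) := by
    refine alternatingGroup.isSimpleGroup ?_
    simp [Nat.card_eq_fintype_card, Fintype.card_subtype_compl]
    omega
  intro e he hez
  rcases Subgroup.Normal.eq_bot_or_eq_top (H := M) inferInstance with h | h
  · exfalso
    obtain ⟨a, ha⟩ := hlift d hds (hfix d hdN)
    have haM : a ∈ M := by simp only [M, Subgroup.mem_comap, ha, hdN]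
    rw [h, Subgroup.mem_bot] at haM
    exact hd1 (by rw [← ha, haM, map_one])
  · obtain ⟨a, rfl⟩ := hlift e he hez
    exact (h ▸ Subgroup.mem_top a : a ∈ M)

section Main

universe u v

variable {G : Type u} [Group G] [Finite G]

/-- Induction on the degree. -/
theorem aux (n : ℕ) : ∀ {Ω : Type v} [MulAction G Ω] [FaithfulSMul G Ω] [Fintype Ω] [DecidableEq Ω],
    Fintype.card Ω = n → (∀ N : Subgroup G, N.Normal → N ≠ ⊥ → IsPretransitive N Ω) →
    ∀ Γ : Set Ω, 1 < Γ.ncard → 2 * Γ.ncard < Fintype.card Ω →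
    (∀ a ∈ Γ, ∀ b ∈ Γ, ∃ g : G, (∀ x, x ∉ Γ → g • x = x) ∧ g • a = b) →
    alternatingGroup Ω ≤ (toPermHom G Ω).range := by
  induction n using Nat.strong_induction_on with
  | h n IH =>
  intro Ω _ _ _ _ hn hqp Γ hΓ1 hΓ2 hJ
  classical
  obtain ⟨a₀, ha₀, b₀, hb₀, hab₀⟩ := (Set.one_lt_ncard (Set.toFinite Γ)).1 hΓ1
  haveI htrans : IsPretransitive G Ω := by
    have hne : (⊤ : Subgroup G) ≠ ⊥ := by
      intro h
      obtain ⟨g, -, hg⟩ := hJ a₀ ha₀ b₀ hb₀
      have : g ∈ (⊥ : Subgroup G) := h ▸ Subgroup.mem_top g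
      rw [Subgroup.mem_bot] at this
      exact hab₀ (by rw [← hg, this, one_smul])
    haveI := hqp ⊤ inferInstance hne
    exact ⟨fun a b => by
      obtain ⟨g, hg⟩ := exists_smul_eq (⊤ : Subgroup G) a b
      exact ⟨g, hg⟩⟩
  by_cases hprim : IsPreprimitive G Ω
  · let f : Ω →ₑ[(toPermHom G Ω).rangeRestrict] Ω := { toFun := id, map_smul' := fun _ _ => rfl }
    have hH : IsPreprimitive (toPermHom G Ω).range Ω :=
      IsPreprimitive.of_surjective (f := f) Function.surjective_id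
    refine Marggraff.alternatingGroup_le hH Γ.toFinset ?_ ?_ ?_
    · rw [← Set.ncard_eq_toFinset_card']; omega
    · rw [← Set.ncard_eq_toFinset_card']; omega
    · intro a ha b hb
      rw [Set.mem_toFinset] at ha hb
      obtain ⟨g, hg, hgab⟩ := hJ a ha b hb
      exact ⟨toPermHom G Ω g, ⟨g, rfl⟩, fun x hx => hg x (by rwa [Set.mem_toFinset] at hx), hgab⟩
  exfalso
  obtain ⟨B, hB, hBt⟩ : ∃ B : Set Ω, IsBlock G B ∧ ¬ IsTrivialBlock B := by
    by_contra h
    push Not at h
    exact hprim { isTrivialBlock_of_isBlock := fun {B} hB => h B hB }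
  simp only [IsTrivialBlock, not_or] at hBt
  obtain ⟨hBs, hBu⟩ := hBt
  obtain ⟨c₁, hc₁, c₂, hc₂, hc12⟩ := Set.not_subsingleton_iff.1 hBs
  set O : Set (Set Ω) := orbit G B with hO
  have hBO : B ∈ O := mem_orbit_self B
  have huniq : ∀ (S S' : orbit G B) (x : Ω), x ∈ (S : Set Ω) → x ∈ (S' : Set Ω) → S = S' := by
    rintro ⟨-, g, rfl⟩ ⟨-, g', rfl⟩ x hx hx'
    simp only at hx hx' ⊢
    refine Subtype.ext ?_
    by_contra hne
    rcases isBlock_iff_smul_eq_or_disjoint.1 (hB.translate g') (g * g'⁻¹) with h | h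
    · rw [smul_smul, inv_mul_cancel_right] at h
      exact hne h
    · rw [smul_smul, inv_mul_cancel_right] at h
      exact Set.disjoint_left.1 h hx hx'
  have hcov : ∀ x : Ω, ∃ S : orbit G B, x ∈ (S : Set Ω) := by
    intro x
    obtain ⟨g, hg⟩ := exists_smul_eq G c₁ x
    exact ⟨⟨g • B, g, rfl⟩, hg ▸ Set.smul_mem_smul_set hc₁⟩
  choose π hπ using hcov
  have hπeq : ∀ x (S : orbit G B), x ∈ (S : Set Ω) → π x = S := fun x S h => huniq _ _ x (hπ x) h
  have hequi : ∀ (g : G) x, π (g • x) = g • π x := fun g x =>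
    hπeq _ _ (Set.smul_mem_smul_set (hπ x))
  have hsurj : ∀ S : orbit G B, ∃ x, π x = S := by
    rintro ⟨-, g, rfl⟩
    exact ⟨g • c₁, hπeq _ _ (Set.smul_mem_smul_set hc₁)⟩
  letI : Fintype (orbit G B) := Fintype.ofFinite _
  -- the action on the blocks is faithful and quasiprimitive
  have hker : ∀ g : G, (∀ S : orbit G B, g • S = S) → g = 1 := by
    let L : Subgroup G := (toPermHom G (orbit G B)).ker
    have hL : L = ⊥ := by
      by_contra hL
      haveI := hqp L inferInstance hL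
      apply hBu
      refine Set.eq_univ_of_forall fun y => ?_
      obtain ⟨⟨l, hl⟩, hly⟩ := exists_smul_eq L c₁ y
      have h1 : l • (⟨B, hBO⟩ : orbit G B) = ⟨B, hBO⟩ :=
        congrFun (congrArg DFunLike.coe (MonoidHom.mem_ker.1 hl)) _
      have h2 : l • B = B := congrArg Subtype.val h1
      rw [← h2, ← hly]
      exact Set.smul_mem_smul_set hc₁
    intro g hg
    have : g ∈ L := MonoidHom.mem_ker.2 (Equiv.ext hg)
    rwa [hL, Subgroup.mem_bot] at this
  haveI : FaithfulSMul G (orbit G B) := ⟨fun {g g'} h => by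
    have := hker (g'⁻¹ * g) fun S => by rw [mul_smul, h S, inv_smul_smul]
    rwa [inv_mul_eq_one, eq_comm] at this⟩
  have hqp' : ∀ N : Subgroup G, N.Normal → N ≠ ⊥ → IsPretransitive N (orbit G B) := by
    intro N hN hN1
    haveI := hqp N hN hN1
    refine ⟨fun S T => ?_⟩
    obtain ⟨x, rfl⟩ := hsurj S
    obtain ⟨y, rfl⟩ := hsurj T
    obtain ⟨⟨g, hg⟩, hgxy⟩ := exists_smul_eq N x y
    refine ⟨⟨g, hg⟩, ?_⟩
    show g • π x = π y
    rw [← hequi, show g • x = y from hgxy]
  -- the Jordan set is a union of blocks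
  obtain ⟨k₀, hk₀, hk₀ab⟩ := hJ a₀ ha₀ b₀ hb₀
  have hk₀1 : k₀ ≠ 1 := fun e => hab₀ (by rw [← hk₀ab, e, one_smul])
  have hkfix : ∀ k : G, (∀ x, x ∉ Γ → k • x = x) → ∀ S₁ : orbit G B,
      (∀ x ∈ Γ, π x = S₁) → k = 1 := by
    intro k hk S₁ hS₁
    refine hker k fun S => ?_
    obtain ⟨x, rfl⟩ := hsurj S
    rw [← hequi]
    by_cases hx : x ∈ Γ
    · by_cases hkx : k • x ∈ Γ
      · rw [hS₁ x hx, hS₁ _ hkx]
      · have := hk _ hkx
        rw [smul_left_cancel_iff] at this
        exact absurd (by rw [this]; exact hx) hkx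
    · rw [hk x hx]
  have hunion : ∀ x y, x ∈ Γ → π x = π y → y ∈ Γ := by
    intro x y hx hxy
    by_contra hy
    refine hk₀1 (hkfix k₀ hk₀ (π x) fun z hz => ?_)
    obtain ⟨k, hk, hkxz⟩ := hJ x hx z hz
    rw [← hkxz, hequi, hxy, ← hequi, hk y hy]
  have hJ' : ∀ S ∈ π '' Γ, ∀ T ∈ π '' Γ, ∃ g : G,
      (∀ U, U ∉ π '' Γ → g • U = U) ∧ g • S = T := by
    rintro - ⟨x, hx, rfl⟩ - ⟨y, hy, rfl⟩
    obtain ⟨k, hk, hkxy⟩ := hJ x hx y hy
    refine ⟨k, fun U hU => ?_, by rw [← hequi, hkxy]⟩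
    obtain ⟨z, rfl⟩ := hsurj U
    rw [← hequi, hk z fun hz => hU ⟨z, hz, rfl⟩]
  -- counting
  set b := B.ncard with hb
  have hb2 : 2 ≤ b := (Set.one_lt_ncard (Set.toFinite B)).2 ⟨c₁, hc₁, c₂, hc₂, hc12⟩
  have hfib : ∀ S : orbit G B, (Finset.univ.filter fun x => π x = S).card = b := by
    rintro ⟨-, g, rfl⟩
    rw [hb, ← Set.ncard_smul_set g B, Set.ncard_eq_toFinset_card']
    congr 1
    ext x
    simp only [Finset.mem_filter, Finset.mem_univ, true_and, Set.mem_toFinset]
    exact ⟨fun h => by have := hπ x; rwa [h] at this, fun h => hπeq _ _ h⟩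
  have hnb : Fintype.card Ω = Fintype.card (orbit G B) * b := by
    rw [← Finset.card_univ, Finset.card_eq_sum_card_fiberwise (f := π) (t := Finset.univ)
      (fun x _ => Finset.mem_univ _), Finset.sum_congr rfl (fun S _ => hfib S), Finset.sum_const,
      smul_eq_mul, Finset.card_univ]
  have hmb : Γ.ncard = (π '' Γ).ncard * b := by
    rw [Set.ncard_eq_toFinset_card', Set.ncard_eq_toFinset_card',
      Finset.card_eq_sum_card_fiberwise (f := π) (t := (π '' Γ).toFinset)
        (fun x hx => Set.mem_toFinset.2 ⟨x, Set.mem_toFinset.1 hx, rfl⟩),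
      Finset.sum_congr rfl (fun S hS => ?_), Finset.sum_const, smul_eq_mul]
    obtain ⟨z, hz, rfl⟩ := Set.mem_toFinset.1 hS
    rw [← hfib (π z)]
    congr 1
    ext x
    simp only [Finset.mem_filter, Finset.mem_univ, true_and, Set.mem_toFinset]
    exact ⟨fun h => h.2, fun h => ⟨hunion z x hz h.symm, h⟩⟩
  set r := Fintype.card (orbit G B) with hr
  set c := (π '' Γ).ncard with hc
  have hc2 : 1 < c := by
    by_contra h
    have h' : (π '' Γ).Subsingleton := (Set.ncard_le_one_iff_subsingleton).1 (by omega)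
    exact hk₀1 (hkfix k₀ hk₀ (π a₀) fun z hz => h' ⟨z, hz, rfl⟩ ⟨a₀, ha₀, rfl⟩)
  have hrc : 2 * c < r := by
    by_contra h
    have := Nat.mul_le_mul_right b (show r ≤ 2 * c by omega)
    rw [mul_assoc, ← hnb, ← hmb] at this
    omega
  have hrn : r < n := by
    rw [← hn, hnb]
    exact (Nat.lt_mul_iff_one_lt_right (by omega)).2 (by omega)
  have halt : alternatingGroup (orbit G B) ≤ (toPermHom G (orbit G B)).range :=
    IH r hrn hr.symm hqp' (π '' Γ) hc2 (by rw [← hc, ← hr]; omega) hJ'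
  -- two points in one block inside the Jordan set
  obtain ⟨y₀, hy₀, hne⟩ : ∃ y, π y = π a₀ ∧ y ≠ a₀ := by
    obtain ⟨y, hy, hne⟩ := Finset.exists_mem_ne (show 1 < (Finset.univ.filter fun x => π x = π a₀).card
      by rw [hfib]; omega) a₀
    exact ⟨y, (Finset.mem_filter.1 hy).2, hne⟩
  have hy₀Γ : y₀ ∈ Γ := hunion a₀ y₀ ha₀ hy₀.symm
  obtain ⟨k, hk, hkay⟩ := hJ a₀ ha₀ y₀ hy₀Γ
  have hk1 : k ≠ 1 := fun e => hne (by rw [← hkay, e, one_smul])
  have hkS : k • π a₀ = π a₀ := by rw [← hequi, hkay, hy₀]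
  have hkout : ∀ S, S ∉ π '' Γ → k • S = S := by
    intro S hS
    obtain ⟨z, rfl⟩ := hsurj S
    rw [← hequi, hk z fun hz => hS ⟨z, hz, rfl⟩]
  by_cases hcc : c = 2
  · -- two blocks: `k` fixes all blocks
    refine hk1 (hker k fun S => ?_)
    by_cases hS : S ∈ π '' Γ
    · by_cases hSa : S = π a₀
      · rw [hSa, hkS]
      · have hkS' : k • S ∈ π '' Γ := by
          by_contra h
          have := hkout _ h
          rw [smul_left_cancel_iff] at this
          exact h (this.symm ▸ hS)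
        have hne' : k • S ≠ π a₀ := fun e => hSa (by rw [← hkS, smul_left_cancel_iff] at e; exact e)
        obtain ⟨p, q, -, hpq⟩ := Set.ncard_eq_two.1 hcc
        have ha : π a₀ ∈ ({p, q} : Set (orbit G B)) := hpq ▸ ⟨a₀, ha₀, rfl⟩
        rw [hpq] at hS hkS'
        simp only [Set.mem_insert_iff, Set.mem_singleton_iff] at ha hS hkS'
        rcases ha with ha | ha <;> rcases hS with hS | hS <;> rcases hkS' with h | h <;>
          first
            | exact h.trans hS.symm
            | exact absurd (hS.trans ha.symm) hSa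
            | exact absurd (h.trans ha.symm) hne'
    · exact hkout S hS
  -- otherwise there is room for the conjugation
  obtain ⟨C₀, hC₀, C₁, hC₁, hC01⟩ := Finset.one_lt_card.1 (show 1 < (π '' Γ).toFinsetᶜ.card by
    rw [Finset.card_compl, ← Set.ncard_eq_toFinset_card', ← hc, ← hr]; omega)
  rw [Finset.mem_compl, Set.mem_toFinset] at hC₀ hC₁
  have haΓ : π a₀ ∈ π '' Γ := ⟨a₀, ha₀, rfl⟩
  have hC₀a : C₀ ≠ π a₀ := fun e => hC₀ (e ▸ haΓ)
  have hC₁a : C₁ ≠ π a₀ := fun e => hC₁ (e ▸ haΓ)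
  obtain ⟨τ, hτ⟩ := halt (show swap (π a₀) C₀ * swap (π a₀) C₁ ∈ alternatingGroup (orbit G B) by
    rw [mem_alternatingGroup, map_mul, sign_swap (Ne.symm hC₀a), sign_swap (Ne.symm hC₁a)]; rfl)
  have hτC : τ • C₀ = π a₀ := by
    have := congrFun (congrArg DFunLike.coe hτ) C₀
    rw [mul_apply, swap_apply_of_ne_of_ne hC₀a hC01, swap_apply_right] at this
    exact this
  let N : Subgroup G :=
    { carrier := {g | ∀ z, π z = π a₀ → g • z = z}
      one_mem' := fun z _ => one_smul G z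
      mul_mem' := fun {g g'} hg hg' z hz => by rw [mul_smul, hg' z hz, hg z hz]
      inv_mem' := fun {g} hg z hz => inv_smul_eq_iff.2 (hg z hz).symm }
  have hk'N : τ * k * τ⁻¹ ∈ N := by
    intro z hz
    have hz' : π (τ⁻¹ • z) = C₀ := by rw [hequi, hz, ← hτC, inv_smul_smul]
    rw [mul_smul, mul_smul, hk _ fun h => hC₀ ⟨_, h, hz'⟩, smul_inv_smul]
  let ρ := toPermHom G (orbit G B)
  have hρinj : ∀ g g', ρ g = ρ g' → g = g' := by
    intro g g' h
    have h1 : ρ (g'⁻¹ * g) = 1 := by rw [map_mul, map_inv, h, inv_mul_cancel]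
    exact (inv_mul_eq_one.1 (hker _ fun S => congrFun (congrArg DFunLike.coe h1) S)).symm
  have hall : ∀ e : Perm (orbit G B), sign e = 1 → e (π a₀) = π a₀ → e ∈ N.map ρ := by
    refine even_fixing_mem (N.map ρ) (π a₀) (by rw [← hr]; omega) ?_ ?_ ?_
    · rintro - ⟨g, hg, rfl⟩
      show g • π a₀ = π a₀
      rw [← hequi, hg a₀ rfl]
    · refine ⟨ρ (τ * k * τ⁻¹), ⟨_, hk'N, rfl⟩, fun e => hk1 ?_⟩
      have h1 : τ * k * τ⁻¹ = 1 := hρinj _ _ (by rw [e, map_one])
      rwa [mul_inv_eq_one, mul_eq_left] at h1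
    · rintro - ⟨g, hg, rfl⟩ e he hez
      obtain ⟨l, rfl⟩ := halt (mem_alternatingGroup.2 he)
      refine ⟨l * g * l⁻¹, fun z hz => ?_, by rw [map_mul, map_mul, map_inv]⟩
      have hz' : π (l⁻¹ • z) = π a₀ := by
        rw [hequi, hz, inv_smul_eq_iff]
        exact hez.symm
      rw [mul_smul, mul_smul, hg _ hz', smul_inv_smul]
  obtain ⟨g, hg, hge⟩ := hall (ρ (k * (τ * k * τ⁻¹)⁻¹))
    (by simp only [map_mul, map_inv]
        rw [mul_comm (sign (ρ τ)), mul_inv_cancel_right, mul_inv_cancel])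
    (by show (k * (τ * k * τ⁻¹)⁻¹) • π a₀ = π a₀
        rw [mul_smul, ← hequi, inv_mem hk'N a₀ rfl, hkS])
  have hkN : k ∈ N := by
    have h1 := hρinj _ _ hge
    have h2 : k = g * (τ * k * τ⁻¹) := by rw [h1, inv_mul_cancel_right]
    rw [h2]
    exact mul_mem hg hk'N
  exact hne ((hkay ▸ hkN a₀ rfl : y₀ = a₀))

end Main

end Cfsg.Agent.H77.Quasiprimitive
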