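import Mathlib.GroupTheory.Sylow
import Mathlib.GroupTheory.Index
import Mathlib.Algebra.Group.Conj

/-!
A 2-central real element has order at most 2.
-/

namespace Cfsg.Agent.H77

variable {G : Type*} [Group G] [Finite G]

theorem sq_eq_one_of_real_of_two_central (x : G) (P : Sylow 2 G)
    (hP : (P : Subgroup G) ≤ Subgroup.centralizer ({x} : Set G)) (hreal : IsConj x x⁻¹) :
    x ^ 2 = 1 := by
  obtain ⟨g, hg⟩ := isConj_iff.mp hreal
  by_contra hx2
  have hne : x ≠ x⁻¹ := fun h => hx2 (by rw [pow_two]; nth_rewrite 2 [h]; exact mul_inv_cancel x)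
  let C : Subgroup G := Subgroup.centralizer ({x} : Set G)
  have hC : ∀ a, a ∈ C ↔ a * x * a⁻¹ = x := fun a => by
    rw [Subgroup.mem_centralizer_singleton_iff, mul_inv_eq_iff_eq_mul]
  let K : Subgroup G :=
    { carrier := {a | a * x * a⁻¹ = x ∨ a * x * a⁻¹ = x⁻¹}
      one_mem' := Or.inl (by simp)
      mul_mem' := by
        intro a b ha hb
        have e : a * b * x * (a * b)⁻¹ = a * (b * x * b⁻¹) * a⁻¹ := by group
        have hai : ∀ y : G, a * y⁻¹ * a⁻¹ = (a * y * a⁻¹)⁻¹ := fun y => by group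
        simp only [Set.mem_setOf_eq] at ha hb ⊢
        rcases hb with hb | hb <;> rcases ha with ha | ha <;> rw [e, hb] <;>
          simp only [hai, ha, inv_inv, true_or, or_true]
      inv_mem' := by
        intro a ha
        simp only [Set.mem_setOf_eq] at ha ⊢
        rcases ha with ha | ha
        · exact Or.inl (by conv_lhs => rw [← ha]
                           group)
        · refine Or.inr ?_
          have e : x = (a * x * a⁻¹)⁻¹ := by rw [ha, inv_inv]
          conv_lhs => rw [e]
          group }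
  have hCK : C ≤ K := fun a ha => Or.inl ((hC a).mp ha)
  have hgK : g ∈ K := Or.inr hg
  have h2 : C.relIndex K = 2 := by
    rw [Subgroup.relIndex_eq_two_iff]
    refine ⟨g, hgK, fun b hb => ?_⟩
    have e : b * g * x * (b * g)⁻¹ = (b * x * b⁻¹)⁻¹ := by
      rw [show b * g * x * (b * g)⁻¹ = b * (g * x * g⁻¹) * b⁻¹ by group, hg]; group
    rcases hb with hb | hb
    · refine Or.inr ⟨(hC b).mpr hb, fun h => hne ?_⟩
      rw [hC, e, hb] at h; exact h.symm
    · refine Or.inl ⟨(hC _).mpr (by rw [e, hb, inv_inv]), fun h => hne ?_⟩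
      rw [hC, hb] at h; exact h.symm
  exact P.not_dvd_index
    (((h2 ▸ Subgroup.relIndex_dvd_index_of_le hCK : 2 ∣ C.index)).trans
      (Subgroup.index_dvd_of_le hP))

end Cfsg.Agent.H77
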