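import Cfsg.Agent.H77.PComplementKey
import Cfsg.Agent.H24.Solv
import Mathlib.Algebra.BigOperators.Ring.Finset
import Mathlib.Algebra.BigOperators.Fin

/-!
Hughes subgroups: groups with a subgroup of index `p` outside of which all elements have order `p`
(Kegel: that subgroup is nilpotent), and the index theorem of Hughes-Thompson.
-/

namespace Cfsg.Agent.H77

open Subgroup
open scoped IsMulCommutative

universe u

section Norm

variable {G : Type*} [Group G] {W : Subgroup G} [IsMulCommutative W]

/-- Conjugation by an element of the normalizer. -/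
def cAut (n : Subgroup.normalizer (W : Set G)) : MulAut W := W.normalizerMonoidHom n

theorem cAut_coe (n : Subgroup.normalizer (W : Set G)) (w : W) :
    ((cAut n w : W) : G) = (n : G) * w * (n : G)⁻¹ := rfl

theorem cAut_pow (n : Subgroup.normalizer (W : Set G)) (k : ℕ) : cAut (n ^ k) = cAut n ^ k :=
  map_pow _ _ _

/-- The norm of `a` on `W`. -/
def normMap (a : MulAut W) (k : ℕ) (w : W) : W := ∏ j ∈ Finset.range k, (a ^ j) w

theorem mul_pow_eq_norm (n : Subgroup.normalizer (W : Set G)) (w : W) :
    ∀ k, ((w : G) * n) ^ k = (normMap (cAut n) k w : G) * (n : G) ^ k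
  | 0 => by simp [normMap]
  | k + 1 => by
    have e : normMap (cAut n) (k + 1) w = w * cAut n (normMap (cAut n) k w) := by
      simp only [normMap]
      rw [Finset.prod_range_succ', map_prod, mul_comm]
      congr 1
      refine Finset.prod_congr rfl fun j _ => ?_
      rw [pow_succ']; rfl
    rw [pow_succ', mul_pow_eq_norm n w k, e, Subgroup.coe_mul, cAut_coe, pow_succ']
    group

theorem norm_eq_one {p : ℕ} (n : Subgroup.normalizer (W : Set G)) (w : W) (hn : (n : G) ^ p = 1)
    (hwn : ((w : G) * n) ^ p = 1) : normMap (cAut n) p w = 1 := by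
  have := mul_pow_eq_norm n w p
  rw [hwn, hn, mul_one] at this
  exact Subtype.ext this.symm

/-- If all the twists `a * b ^ i` have trivial norms then `b` is trivial. -/
theorem eq_one_of_norms [Finite W] {p : ℕ} (hp : p.Prime) (hcop : (Nat.card W).Coprime p)
    (a b : MulAut W) (hab : Commute a b) (hb : b ^ p = 1)
    (hN : ∀ i : ℕ, ∀ w : W, normMap (a * b ^ i) p w = 1) : b = 1 := by
  haveI := Fact.mk hp
  have hpos := hp.pos
  -- the norm of `b`
  have hbN : ∀ w : W, b (normMap b p w) = normMap b p w := by
    intro w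
    have h1 : normMap b (p + 1) w = w * b (normMap b p w) := by
      simp only [normMap]
      rw [Finset.prod_range_succ', map_prod, mul_comm]
      congr 1
      refine Finset.prod_congr rfl fun j _ => ?_
      rw [pow_succ']; rfl
    have h2 : normMap b (p + 1) w = normMap b p w * w := by
      rw [normMap, Finset.prod_range_succ, hb]; rfl
    rw [h2, mul_comm] at h1
    exact (mul_left_cancel h1).symm
  refine MulEquiv.ext fun w => ?_
  have hsum : ∏ i ∈ Finset.range p, normMap (a * b ^ i) p w = 1 := Finset.prod_eq_one fun i _ => hN i w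
  simp only [normMap] at hsum
  rw [Finset.prod_comm] at hsum
  have hterm : ∀ j ∈ Finset.range p, j ≠ 0 →
      ∏ i ∈ Finset.range p, ((a * b ^ i) ^ j) w = (a ^ j) (normMap b p w) := by
    intro j hj hj0
    have hjp : j < p := Finset.mem_range.mp hj
    rw [normMap, map_prod]
    refine Finset.prod_bij (fun i _ => i * j % p) (fun i _ => Finset.mem_range.mpr (Nat.mod_lt _ hpos))
      ?_ ?_ ?_
    · intro i hi i' hi' h
      have hjz : (j : ZMod p) ≠ 0 := by
        rw [Ne, ZMod.natCast_eq_zero_iff]
        exact fun hd => hj0 (Nat.eq_zero_of_dvd_of_lt hd hjp)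
      have h' : ((i * j % p : ℕ) : ZMod p) = ((i' * j % p : ℕ) : ZMod p) := congrArg _ h
      rw [ZMod.natCast_mod, ZMod.natCast_mod, Nat.cast_mul, Nat.cast_mul] at h'
      have := congrArg ZMod.val (mul_right_cancel₀ hjz h')
      rwa [ZMod.val_natCast_of_lt (Finset.mem_range.mp hi), ZMod.val_natCast_of_lt (Finset.mem_range.mp hi')] at this
    · intro i hi
      refine ⟨((i : ZMod p) * (j : ZMod p)⁻¹).val, Finset.mem_range.mpr (ZMod.val_lt _), ?_⟩
      have hjz : (j : ZMod p) ≠ 0 := by
        rw [Ne, ZMod.natCast_eq_zero_iff]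
        exact fun hd => hj0 (Nat.eq_zero_of_dvd_of_lt hd hjp)
      rw [← ZMod.val_natCast, Nat.cast_mul, ZMod.natCast_zmod_val, mul_assoc, inv_mul_cancel₀ hjz,
        mul_one, ZMod.val_natCast_of_lt (Finset.mem_range.mp hi)]
    · intro i _
      rw [Commute.mul_pow (hab.pow_right i), ← pow_mul, ← pow_eq_pow_mod _ hb]
      rfl
  rw [← Finset.mul_prod_erase _ _ (Finset.mem_range.mpr hpos)] at hsum
  rw [Finset.prod_congr rfl (g := fun j => (a ^ j) (normMap b p w))
    (fun j hj => hterm j (Finset.mem_of_mem_erase hj) (Finset.ne_of_mem_erase hj))] at hsum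
  simp only [pow_zero, MulAut.one_apply, Finset.prod_const, Finset.card_range] at hsum
  have hNa : ∏ j ∈ Finset.range p, (a ^ j) (normMap b p w) = 1 := by
    have := hN 0 (normMap b p w)
    rwa [pow_zero, mul_one] at this
  rw [← Finset.mul_prod_erase _ _ (Finset.mem_range.mpr hpos), pow_zero, MulAut.one_apply] at hNa
  have hwp : w ^ p = normMap b p w := mul_right_cancel (hsum.trans hNa.symm)
  have hfix : (b w) ^ p = w ^ p := by rw [← map_pow, hwp, hbN]
  exact (powCoprime hcop).injective hfix

end Norm

end Cfsg.Agent.H77
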