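import Mathlib

/-!
# The number of orbits of a Sylow subgroup of a transitive group

For odd `p` a Sylow `p`-subgroup of a transitive group moving some point has at most `p n / (2 p - 1)`
orbits. The energy of a point is `p - (2 p - 1) / |orbit|`; the total is shown to be non-negative by
induction, working in the space of sets of Sylow subgroups (points are identified through the Sylow
subgroups fixing them). In the critical case every set of `p` points forming an orbit of an element of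
order `p` would be fixed by a Sylow subgroup, which is impossible.
-/

set_option autoImplicit false
set_option linter.style.haveILetI false
set_option linter.unusedSectionVars false

namespace Cfsg.Agent.H77.SylowOrbits

open MulAction Finset
open scoped Pointwise

variable {G : Type*} [Group G] [Finite G] {p : ℕ} [Fact p.Prime]

noncomputable local instance : Fintype G := Fintype.ofFinite G
noncomputable local instance : Fintype (Sylow p G) := Fintype.ofFinite _
noncomputable local instance : DecidableEq (Sylow p G) := Classical.decEq _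

/-- The Sylow subgroups inside `H`. -/
noncomputable def Sy (H : Subgroup G) : Finset (Sylow p G) := by
  classical exact univ.filter fun Q => (Q : Subgroup G) ≤ H

theorem mem_Sy {H : Subgroup G} {Q : Sylow p G} : Q ∈ Sy H ↔ (Q : Subgroup G) ≤ H := by
  classical simp [Sy]

theorem exists_conj {H : Subgroup G} {Q R : Sylow p G} (hQ : Q ∈ Sy H) (hR : R ∈ Sy H) :
    ∃ h ∈ H, h • Q = R := by
  rw [mem_Sy] at hQ hR
  obtain ⟨h, hh⟩ := exists_smul_eq H (Q.subtype hQ) (R.subtype hR)
  simp_rw [Sylow.smul_subtype, Subgroup.smul_def] at hh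
  exact ⟨h, h.2, Sylow.subtype_injective hh⟩

theorem conj_mem {H : Subgroup G} {Q : Sylow p G} (hQ : Q ∈ Sy H) {h : G} (hh : h ∈ H) :
    h • Q ∈ Sy H := by
  rw [mem_Sy] at hQ ⊢
  rw [Sylow.coe_subgroup_smul]
  exact Subgroup.conj_smul_le_of_le hQ ⟨h, hh⟩

theorem mem_smul {Q : Sylow p G} {h q : G} (hq : q ∈ Q) : h * q * h⁻¹ ∈ h • Q := by
  rw [← SetLike.mem_coe, Sylow.coe_smul]
  exact ⟨q, hq, rfl⟩

theorem exists_of_mem_smul {Q : Sylow p G} {h r : G} (hr : r ∈ h • Q) :
    ∃ q ∈ Q, r = h * q * h⁻¹ := by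
  rw [← SetLike.mem_coe, Sylow.coe_smul] at hr
  obtain ⟨q, hq, rfl⟩ := hr
  exact ⟨q, hq, rfl⟩

section Space

variable {X : Type*} [DecidableEq X] [MulAction G X]

/-- An orbit of a subgroup, as a finite set. -/
noncomputable def orb (H : Subgroup G) (x : X) : Finset X := by
  classical exact (univ.filter fun g => g ∈ H).image fun g => g • x

theorem mem_orb {H : Subgroup G} {x y : X} : y ∈ orb H x ↔ ∃ g ∈ H, g • x = y := by
  classical simp [orb]

theorem self_mem_orb (H : Subgroup G) (x : X) : x ∈ orb H x :=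
  mem_orb.2 ⟨1, one_mem H, one_smul G x⟩

theorem smul_mem_orb {H : Subgroup G} {x y : X} (hy : y ∈ orb H x) {h : G} (hh : h ∈ H) :
    h • y ∈ orb H x := by
  obtain ⟨g, hg, rfl⟩ := mem_orb.1 hy
  exact mem_orb.2 ⟨h * g, mul_mem hh hg, mul_smul h g x⟩

theorem orb_eq {H : Subgroup G} {x y : X} (hy : y ∈ orb H x) : orb H y = orb H x := by
  obtain ⟨g, hg, rfl⟩ := mem_orb.1 hy
  ext z
  simp only [mem_orb]
  constructor
  · rintro ⟨k, hk, rfl⟩
    exact ⟨k * g, mul_mem hk hg, mul_smul k g x⟩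
  · rintro ⟨k, hk, rfl⟩
    exact ⟨k * g⁻¹, mul_mem hk (inv_mem hg), by rw [mul_smul, inv_smul_smul]⟩

theorem orb_subset {H K : Subgroup G} (hKH : K ≤ H) {x y : X} (hy : y ∈ orb H x) :
    orb K y ⊆ orb H x := by
  intro z hz
  obtain ⟨k, hk, rfl⟩ := mem_orb.1 hz
  exact smul_mem_orb hy (hKH hk)

/-- `Q` fixes `x`. -/
def Fixes (Q : Sylow p G) (x : X) : Prop := ∀ q ∈ Q, q • x = x

theorem fixes_smul {Q : Sylow p G} {x : X} (h : G) : Fixes (h • Q) (h • x) ↔ Fixes Q x := by
  constructor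
  · intro hf q hq
    have h1 := hf _ (mem_smul (h := h) hq)
    rwa [mul_smul, mul_smul, inv_smul_smul, smul_left_cancel_iff] at h1
  · intro hf r hr
    obtain ⟨q, hq, rfl⟩ := exists_of_mem_smul hr
    rw [mul_smul, mul_smul, inv_smul_smul, hf q hq]

theorem le_stabilizer {Q : Sylow p G} {x : X} (h : Fixes Q x) :
    (Q : Subgroup G) ≤ stabilizer G x := fun q hq => h q hq

/-- The size of the orbit of `Q`. -/
noncomputable def osz (Q : Sylow p G) (x : X) : ℕ := (orb (Q : Subgroup G) x).card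

theorem osz_pos (Q : Sylow p G) (x : X) : 0 < osz Q x := card_pos.2 ⟨x, self_mem_orb _ x⟩

theorem osz_eq_one {Q : Sylow p G} {x : X} (h : Fixes Q x) : osz Q x = 1 := by
  rw [osz, card_eq_one]
  refine ⟨x, eq_singleton_iff_unique_mem.2 ⟨self_mem_orb _ x, fun y hy => ?_⟩⟩
  obtain ⟨q, hq, rfl⟩ := mem_orb.1 hy
  exact h q hq

theorem osz_eq_card_orbit (Q : Sylow p G) (x : X) :
    osz Q x = Nat.card (orbit (Q : Subgroup G) x) := by
  classical
  rw [osz, ← Nat.card_eq_finsetCard]
  refine Nat.card_congr (Equiv.subtypeEquivRight fun y => ?_)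
  rw [mem_orb, mem_orbit_iff]
  exact ⟨fun ⟨g, hg, e⟩ => ⟨⟨g, hg⟩, e⟩, fun ⟨g, e⟩ => ⟨g, g.2, e⟩⟩

theorem le_osz {Q : Sylow p G} {x : X} (h : ¬ Fixes Q x) : p ≤ osz Q x := by
  obtain ⟨k, hk⟩ : ∃ k, Nat.card (orbit (Q : Subgroup G) x) = p ^ k := by
    haveI : Finite (orbit (Q : Subgroup G) x) := (Set.finite_range _).to_subtype
    exact Q.2.card_orbit x
  rw [osz_eq_card_orbit, hk]
  refine Nat.le_self_pow ?_ p
  rintro rfl
  apply h
  intro q hq
  rw [pow_zero, Nat.card_eq_one_iff_unique] at hk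
  have := hk.1.elim ⟨q • x, mem_orbit x (⟨q, hq⟩ : (Q : Subgroup G))⟩ ⟨x, mem_orbit_self x⟩
  exact congrArg Subtype.val this

theorem osz_smul (Q : Sylow p G) (x : X) (h : G) : osz (h • Q) (h • x) = osz Q x := by
  have : orb ((h • Q : Sylow p G) : Subgroup G) (h • x) = (orb (Q : Subgroup G) x).image (h • ·) := by
    ext y
    simp only [mem_orb, mem_image]
    constructor
    · rintro ⟨r, hr, rfl⟩
      obtain ⟨q, hq, rfl⟩ := exists_of_mem_smul (show r ∈ h • Q from hr)
      exact ⟨q • x, ⟨q, hq, rfl⟩, by rw [mul_smul, mul_smul, inv_smul_smul]⟩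
    · rintro ⟨-, ⟨q, hq, rfl⟩, rfl⟩
      exact ⟨h * q * h⁻¹, mem_smul hq, by rw [mul_smul, mul_smul, inv_smul_smul]⟩
  rw [osz, this, card_image_of_injective _ (MulAction.injective h), osz]

/-- The energy of a point. -/
noncomputable def wt (Q : Sylow p G) (x : X) : ℚ := p - (2 * p - 1) / (osz Q x : ℚ)

/-- The energy of a set. -/
noncomputable def En (Q : Sylow p G) (Δ : Finset X) : ℚ := ∑ x ∈ Δ, wt Q x

theorem two_le : (2 : ℚ) ≤ p := by
  exact_mod_cast (Fact.out : p.Prime).two_le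

theorem wt_fix {Q : Sylow p G} {x : X} (h : Fixes Q x) : wt Q x = -((p : ℚ) - 1) := by
  rw [wt, osz_eq_one h]; push_cast; ring

theorem wt_moved {Q : Sylow p G} {x : X} (h : ¬ Fixes Q x) :
    ((p : ℚ) - 1) ^ 2 / p ≤ wt Q x := by
  have hp := two_le (p := p)
  have h1 : (p : ℚ) ≤ osz Q x := by exact_mod_cast le_osz h
  have h2 : (2 * (p : ℚ) - 1) / (osz Q x : ℚ) ≤ (2 * p - 1) / p :=
    div_le_div_of_nonneg_left (by linarith) (by linarith) h1
  have h3 : ((p : ℚ) - 1) ^ 2 / p = p - (2 * p - 1) / p := by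
    field_simp
    ring
  rw [wt, h3]
  linarith

theorem wt_moved_pos {Q : Sylow p G} {x : X} (h : ¬ Fixes Q x) : 0 < wt Q x := by
  have hp := two_le (p := p)
  exact lt_of_lt_of_le (div_pos (pow_pos (by linarith) 2) (by linarith)) (wt_moved h)

/-- `Q` moves a point of `Δ`. -/
def Moves (Q : Sylow p G) (Δ : Finset X) : Prop := ∃ x ∈ Δ, ¬ Fixes Q x

theorem le_en_of_fixedfree {Q : Sylow p G} {H : Subgroup G} {x : X} (hQ : Q ∈ Sy H)
    (h : ∀ z ∈ orb H x, ¬ Fixes Q z) : ((p : ℚ) - 1) ^ 2 ≤ En Q (orb H x) := by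
  have hp := two_le (p := p)
  have hcard : (p : ℚ) ≤ (orb H x).card := by
    exact_mod_cast (le_osz (h x (self_mem_orb H x))).trans
      (card_le_card (orb_subset (mem_Sy.1 hQ) (self_mem_orb H x)))
  have h1 : (((orb H x).card : ℚ) * (((p : ℚ) - 1) ^ 2 / p)) ≤ En Q (orb H x) := by
    rw [En, ← nsmul_eq_mul]
    exact card_nsmul_le_sum _ _ _ fun z hz => wt_moved (h z hz)
  refine le_trans ?_ h1
  rw [mul_div_assoc', le_div_iff₀ (by linarith)]
  nlinarith [sq_nonneg ((p : ℚ) - 1)]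

theorem en_conj {H : Subgroup G} {Q R : Sylow p G} (hQ : Q ∈ Sy H) (hR : R ∈ Sy H) (x : X) :
    En R (orb H x) = En Q (orb H x) := by
  obtain ⟨h, hh, rfl⟩ := exists_conj hQ hR
  refine (sum_bij' (fun z _ => h • z) (fun z _ => h⁻¹ • z) (fun z hz => smul_mem_orb hz hh)
    (fun z hz => smul_mem_orb hz (inv_mem hh)) (fun z _ => inv_smul_smul h z)
    (fun z _ => smul_inv_smul h z) (fun z _ => ?_)).symm
  rw [wt, wt, osz_smul]

theorem moves_conj {H : Subgroup G} {Q R : Sylow p G} (hQ : Q ∈ Sy H) (hR : R ∈ Sy H) {x : X}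
    (h : Moves Q (orb H x)) : Moves R (orb H x) := by
  obtain ⟨k, hk, rfl⟩ := exists_conj hQ hR
  obtain ⟨z, hz, hzf⟩ := h
  exact ⟨k • z, smul_mem_orb hz hk, fun hf => hzf ((fixes_smul k).1 hf)⟩

end Space

section Map

variable {X Y : Type*} [DecidableEq X] [MulAction G X] [DecidableEq Y] [MulAction G Y]

theorem image_orb {H : Subgroup G} {x : X} (φ : X → Y)
    (hφ : ∀ h ∈ H, ∀ z, φ (h • z) = h • φ z) : (orb H x).image φ = orb H (φ x) := by
  ext y
  simp only [mem_image, mem_orb]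
  constructor
  · rintro ⟨-, ⟨g, hg, rfl⟩, rfl⟩
    exact ⟨g, hg, (hφ g hg x).symm⟩
  · rintro ⟨g, hg, rfl⟩
    exact ⟨g • x, ⟨g, hg, rfl⟩, hφ g hg x⟩

theorem osz_map_le {H : Subgroup G} (φ : X → Y) (hφ : ∀ h ∈ H, ∀ z, φ (h • z) = h • φ z)
    {Q : Sylow p G} (hQ : Q ∈ Sy H) (z : X) : osz Q (φ z) ≤ osz Q z := by
  rw [osz, osz, ← image_orb φ (fun h hh => hφ h (mem_Sy.1 hQ hh))]
  exact card_image_le

/-- Comparison of the energy of an orbit and that of an image. -/
theorem en_map {H : Subgroup G} (φ : X → Y) (hφ : ∀ h ∈ H, ∀ z, φ (h • z) = h • φ z)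
    {Q : Sylow p G} (hQ : Q ∈ Sy H) {x : X} (h0 : 0 ≤ En Q (orb H (φ x))) :
    En Q (orb H (φ x)) ≤ En Q (orb H x) ∧
      ∀ z ∈ orb H x, Fixes Q (φ z) → ¬ Fixes Q z →
        En Q (orb H (φ x)) + (2 * (p : ℚ) - 1) * ((p : ℚ) - 1) ≤ En Q (orb H x) := by
  classical
  have hp := two_le (p := p)
  set w : ℕ := ((orb H x).filter fun z => φ z = φ x).card with hw
  have hfib : ∀ y ∈ orb H (φ x), ((orb H x).filter fun z => φ z = y).card = w := by
    intro y hy
    obtain ⟨g, hg, rfl⟩ := mem_orb.1 hy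
    refine card_bij' (fun z _ => g⁻¹ • z) (fun z _ => g • z) ?_ ?_ (fun z _ => smul_inv_smul g z)
      (fun z _ => inv_smul_smul g z)
    · intro z hz
      rw [mem_filter] at hz ⊢
      exact ⟨smul_mem_orb hz.1 (inv_mem hg), by rw [hφ _ (inv_mem hg), hz.2, inv_smul_smul]⟩
    · intro z hz
      rw [mem_filter] at hz ⊢
      exact ⟨smul_mem_orb hz.1 hg, by rw [hφ _ hg, hz.2]⟩
  have hw1 : 1 ≤ w := card_pos.2 ⟨x, mem_filter.2 ⟨self_mem_orb H x, rfl⟩⟩
  have hsum : ∑ z ∈ orb H x, wt Q (φ z) = w * En Q (orb H (φ x)) := by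
    rw [sum_comp, En, mul_sum, image_orb φ hφ]
    refine sum_congr rfl fun y hy => ?_
    rw [hfib y hy, nsmul_eq_mul]
  have hmono : ∀ z, wt Q (φ z) ≤ wt Q z := by
    intro z
    have h1 : (osz Q (φ z) : ℚ) ≤ osz Q z := by exact_mod_cast osz_map_le φ hφ hQ z
    have h2 : (0 : ℚ) < osz Q (φ z) := by exact_mod_cast osz_pos Q (φ z)
    have h3 : (2 * (p : ℚ) - 1) / (osz Q z : ℚ) ≤ (2 * p - 1) / (osz Q (φ z) : ℚ) :=
      div_le_div_of_nonneg_left (by linarith) h2 h1
    rw [wt, wt]; linarith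
  have hle : En Q (orb H (φ x)) ≤ ∑ z ∈ orb H x, wt Q (φ z) := by
    rw [hsum]
    exact le_mul_of_one_le_left h0 (by exact_mod_cast hw1)
  refine ⟨hle.trans (sum_le_sum fun z _ => hmono z), fun z hz hfix hmov => ?_⟩
  have hsub : orb (Q : Subgroup G) z ⊆ orb H x := orb_subset (mem_Sy.1 hQ) hz
  have hgain : (2 * (p : ℚ) - 1) * ((p : ℚ) - 1) ≤
      ∑ u ∈ orb (Q : Subgroup G) z, (wt Q u - wt Q (φ u)) := by
    have hu : ∀ u ∈ orb (Q : Subgroup G) z,
        (2 * (p : ℚ) - 1) * ((p : ℚ) - 1) / p ≤ wt Q u - wt Q (φ u) := by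
      intro u hu
      obtain ⟨q, hq, rfl⟩ := mem_orb.1 hu
      have hfu : φ (q • z) = φ z := by rw [hφ q (mem_Sy.1 hQ hq), hfix q hq]
      have hmu : ¬ Fixes Q (q • z) := by
        intro hf
        apply hmov
        have e : q⁻¹ • (q • z) = q • z := hf _ (inv_mem hq)
        rw [inv_smul_smul] at e
        rw [e]; exact hf
      have h1 := wt_moved hmu
      rw [hfu, wt_fix hfix]
      have h3 : (2 * (p : ℚ) - 1) * ((p : ℚ) - 1) / p = ((p : ℚ) - 1) ^ 2 / p + (p - 1) := by
        field_simp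
        ring
      linarith
    refine le_trans ?_ (card_nsmul_le_sum _ _ _ hu)
    rw [nsmul_eq_mul]
    have hc : (p : ℚ) ≤ (orb (Q : Subgroup G) z).card := by exact_mod_cast le_osz hmov
    have h4 : (0 : ℚ) ≤ (2 * (p : ℚ) - 1) * ((p : ℚ) - 1) := by nlinarith
    rw [mul_div_assoc', le_div_iff₀ (by linarith)]
    nlinarith [mul_le_mul_of_nonneg_left hc h4]
  have h5 : ∑ u ∈ orb (Q : Subgroup G) z, (wt Q u - wt Q (φ u)) ≤
      ∑ u ∈ orb H x, (wt Q u - wt Q (φ u)) :=
    sum_le_sum_of_subset_of_nonneg hsub fun u _ _ => sub_nonneg.2 (hmono u)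
  rw [sum_sub_distrib (s := orb H x)] at h5
  show _ ≤ ∑ u ∈ orb H x, wt Q u
  linarith

/-- The Sylow subgroups in `H` fixing a point. -/
noncomputable def kap (H : Subgroup G) (z : X) : Finset (Sylow p G) := by
  classical exact (Sy H).filter fun Q => Fixes Q z

theorem mem_kap {H : Subgroup G} {z : X} {Q : Sylow p G} :
    Q ∈ kap H z ↔ Q ∈ Sy H ∧ Fixes Q z := by
  classical simp [kap]

theorem kap_smul {H : Subgroup G} {h : G} (hh : h ∈ H) (z : X) :
    (kap H (h • z) : Finset (Sylow p G)) = h • kap H z := by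
  ext Q
  rw [mem_smul_finset]
  simp only [mem_kap]
  constructor
  · rintro ⟨h1, h2⟩
    refine ⟨h⁻¹ • Q, ⟨conj_mem h1 (inv_mem hh), ?_⟩, smul_inv_smul h Q⟩
    rw [← fixes_smul h, smul_inv_smul]
    exact h2
  · rintro ⟨R, ⟨h1, h2⟩, rfl⟩
    exact ⟨conj_mem h1 hh, (fixes_smul h).2 h2⟩

/-- The sets of Sylow subgroups fixing points of a moved orbit are moved. -/
theorem moves_kap {H : Subgroup G} {Q : Sylow p G} (hQ : Q ∈ Sy H) {x : X}
    (hmov : Moves Q (orb H x)) (hne : ∀ z ∈ orb H x, (kap H z : Finset (Sylow p G)).Nonempty) :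
    Moves Q (orb H (kap H x : Finset (Sylow p G))) := by
  by_contra hcon
  have hall : ∀ R : Sylow p G, R ∈ Sy H → ∀ z ∈ orb H x,
      Fixes R (kap H z : Finset (Sylow p G)) := by
    intro R hR z hz
    by_contra hf
    apply hcon
    refine moves_conj hR hQ ⟨kap H z, ?_, hf⟩
    rw [← image_orb (fun u => (kap H u : Finset (Sylow p G))) fun h hh u => kap_smul hh u]
    exact mem_image_of_mem _ hz
  obtain ⟨z, hz, hzf⟩ := hmov
  set K : Subgroup G := H ⊓ stabilizer G (kap H z : Finset (Sylow p G))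
  have hK : ∀ R ∈ Sy H, R ∈ Sy (p := p) K := fun R hR =>
    mem_Sy.2 (le_inf (mem_Sy.1 hR) (le_stabilizer (hall R hR z hz)))
  obtain ⟨R, hR⟩ := hne z hz
  obtain ⟨k, hk, hkQ⟩ := exists_conj (hK R (mem_kap.1 hR).1) (hK Q hQ)
  have h1 : k • R ∈ k • (kap H z : Finset (Sylow p G)) := smul_mem_smul_finset hR
  rw [hkQ, mem_stabilizer_iff.1 hk.2] at h1
  exact hzf (mem_kap.1 h1).2

/-- Energy of an orbit as the sum over the orbits of a subgroup. -/
theorem en_orbits (Q : Sylow p G) {H K : Subgroup G} (hKH : K ≤ H) (x : X) :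
    En Q (orb H x) = ∑ ω ∈ (orb H x).image (fun z => orb K z), En Q ω := by
  rw [En, ← sum_fiberwise_of_maps_to (g := fun z => orb K z) (t := (orb H x).image fun z => orb K z)
    (fun z hz => mem_image_of_mem _ hz)]
  refine sum_congr rfl fun ω hω => ?_
  obtain ⟨z, hz, rfl⟩ := mem_image.1 hω
  refine sum_congr ?_ fun _ _ => rfl
  ext u
  simp only [mem_filter]
  exact ⟨fun h => h.2 ▸ self_mem_orb K u, fun h => ⟨orb_subset hKH hz h, orb_eq h⟩⟩

/-- One suborbit is bounded by the whole orbit, given that at most one suborbit has negative energy. -/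
theorem en_suborbit_le {Q : Sylow p G} {H K : Subgroup G} (hKH : K ≤ H) (hQK : Q ∈ Sy K) {x t₀ c : X}
    (hc : c ∈ orb H x)
    (hV : ∀ z ∈ orb H x, ¬ Moves Q (orb K z) → z = t₀)
    (hpos : ∀ z ∈ orb H x, Moves Q (orb K z) → 0 ≤ En Q (orb K z)) (hcm : Moves Q (orb K c)) :
    En Q (orb K c) ≤ En Q (orb H x) + ((p : ℚ) - 1) := by
  classical
  have hp := two_le (p := p)
  set 𝒪 := (orb H x).image fun z => orb K z with h𝒪
  rw [en_orbits Q hKH x, ← add_sum_erase 𝒪 _ (mem_image_of_mem _ hc)]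
  suffices h : -((p : ℚ) - 1) ≤ ∑ ω ∈ 𝒪.erase (orb K c), En Q ω by linarith
  rw [← sum_filter_add_sum_filter_not (𝒪.erase (orb K c)) fun ω => Moves Q ω]
  have h1 : 0 ≤ ∑ ω ∈ (𝒪.erase (orb K c)).filter (fun ω => Moves Q ω), En Q ω := by
    refine sum_nonneg fun ω hω => ?_
    obtain ⟨hω, hm⟩ := mem_filter.1 hω
    obtain ⟨z, hz, rfl⟩ := mem_image.1 (mem_of_mem_erase hω)
    exact hpos z hz hm
  have h2 : -((p : ℚ) - 1) ≤ ∑ ω ∈ (𝒪.erase (orb K c)).filter (fun ω => ¬ Moves Q ω), En Q ω := by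
    have hsub : (𝒪.erase (orb K c)).filter (fun ω => ¬ Moves Q ω) ⊆ {{t₀}} := by
      intro ω hω
      obtain ⟨hω, hm⟩ := mem_filter.1 hω
      obtain ⟨z, hz, rfl⟩ := mem_image.1 (mem_of_mem_erase hω)
      rw [mem_singleton, eq_singleton_iff_unique_mem]
      refine ⟨hV z hz hm ▸ self_mem_orb K z, fun u hu => ?_⟩
      exact hV u (orb_subset hKH hz hu) (by rwa [orb_eq hu])
    rcases subset_singleton_iff.1 hsub with h | h
    · rw [h, sum_empty]; linarith
    · have hmem : ({t₀} : Finset X) ∈ (𝒪.erase (orb K c)).filter (fun ω => ¬ Moves Q ω) := by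
        rw [h]; exact mem_singleton_self _
      have hm := (mem_filter.1 hmem).2
      have hfix : Fixes Q t₀ := by
        by_contra hf
        exact hm ⟨t₀, mem_singleton_self _, hf⟩
      rw [h, sum_singleton, En, sum_singleton, wt_fix hfix]
  linarith

end Map

section Sets

/-- A set of Sylow subgroups suitable for the extension argument. -/
def Good (N : ℕ) (H : Subgroup G) (Q : Sylow p G) (B : ℚ) (t : Finset (Sylow p G)) : Prop :=
  t.Nonempty ∧ t ⊆ Sy H ∧ (orb H t).card < N ∧ En Q (orb H t) ≤ B ∧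
    ∀ R ∈ Sy H, ∀ u ∈ orb H t, (Fixes R u ↔ R ∈ u)

/-- The induction hypothesis. -/
def MainBelow (G : Type*) [Group G] [Finite G] (p : ℕ) [Fact p.Prime] (N : ℕ) : Prop :=
  ∀ (H : Subgroup G) (Q : Sylow p G), Q ∈ Sy H → ∀ t : Finset (Sylow p G),
    (orb H t).card < N → Moves Q (orb H t) → 0 ≤ En Q (orb H t)

/-- A Sylow subgroup belonging to each of a few good sets. -/
theorem exists_common {N : ℕ} (hN : MainBelow G p N) : ∀ (m : ℕ) (S : Finset (Finset (Sylow p G)))
    (H : Subgroup G) (Q : Sylow p G) (B : ℚ), S.card ≤ m → Q ∈ Sy H → (∀ t ∈ S, Good N H Q B t) →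
    B + (m : ℚ) * ((p : ℚ) - 1) < (p : ℚ) * ((p : ℚ) - 1) → ∃ R ∈ Sy H, ∀ t ∈ S, R ∈ t := by
  classical
  have hp := two_le (p := p)
  intro m
  induction m with
  | zero =>
    intro S H Q B hS hQ _ _
    exact ⟨Q, hQ, fun t ht => absurd (card_pos.2 ⟨t, ht⟩) (by omega)⟩
  | succ m IH =>
    intro S H Q B hS hQ hgood hB
    push_cast at hB
    rcases S.eq_empty_or_nonempty with rfl | hne
    · exact ⟨Q, hQ, fun t ht => absurd ht (notMem_empty t)⟩
    obtain ⟨y, hy, hymax⟩ := S.exists_max_image (fun t => t.card) hne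
    obtain ⟨hyne, hysub, -, -, hyex⟩ := hgood y hy
    set H' : Subgroup G := H ⊓ stabilizer G y with hH'
    have hH'le : H' ≤ H := inf_le_left
    have hSy : ∀ R : Sylow p G, R ∈ Sy H' ↔ R ∈ y := by
      intro R
      rw [mem_Sy, hH', le_inf_iff]
      constructor
      · rintro ⟨h1, h2⟩
        exact (hyex R (mem_Sy.2 h1) y (self_mem_orb H y)).1 fun q hq => h2 hq
      · intro hR
        exact ⟨mem_Sy.1 (hysub hR), le_stabilizer ((hyex R (hysub hR) y (self_mem_orb H y)).2 hR)⟩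
    obtain ⟨Q', hQ'⟩ := hyne
    have hQ'H' : Q' ∈ Sy H' := (hSy Q').2 hQ'
    have hQ'H : Q' ∈ Sy H := hysub hQ'
    let S' : Finset (Finset (Sylow p G)) :=
      ((S.erase y).filter fun t => ¬ y ⊆ t).image fun t => t.filter fun R => R ∈ y
    have hgood' : ∀ t' ∈ S', Good N H' Q' (B + ((p : ℚ) - 1)) t' := by
      intro t' ht'
      obtain ⟨t, ht, rfl⟩ := mem_image.1 ht'
      obtain ⟨htS, hyt⟩ := mem_filter.1 ht
      obtain ⟨-, htS⟩ := mem_erase.1 htS
      obtain ⟨htne, htsub, htN, htB, htex⟩ := hgood t htS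
      have hm2 : (1 : ℚ) ≤ (m : ℚ) := by
        have : 1 < S.card := one_lt_card.2 ⟨y, hy, t, htS, fun e => hyt (e ▸ subset_refl y)⟩
        exact_mod_cast (show 1 ≤ m by omega)
      have hBsmall : B + ((p : ℚ) - 1) < ((p : ℚ) - 1) ^ 2 := by nlinarith
      have hV : ∀ z ∈ orb H t, ¬ Moves Q' (orb H' z) → z = y := by
        intro z hz hm
        refine (eq_of_subset_of_card_le (fun R hR => (htex R (hysub hR) z hz).1 ?_) ?_).symm
        · by_contra hf
          exact hm (moves_conj ((hSy R).2 hR) hQ'H' ⟨z, self_mem_orb H' z, hf⟩)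
        · obtain ⟨g, -, rfl⟩ := mem_orb.1 hz
          rw [card_smul_finset]
          exact hymax t htS
      have hmov : Moves Q' (orb H' t) := by
        by_contra hm
        exact hyt (by rw [hV t (self_mem_orb H t) hm])
      have hlt : ∀ z ∈ orb H t, (orb H' z).card < N := fun z hz =>
        (card_le_card (orb_subset hH'le hz)).trans_lt htN
      have hω : En Q' (orb H' t) ≤ B + ((p : ℚ) - 1) := by
        have h1 := en_suborbit_le hH'le hQ'H' (self_mem_orb H t) hV
          (fun z hz hm => hN H' Q' hQ'H' z (hlt z hz) hm) hmov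
        rw [en_conj hQ hQ'H] at h1
        linarith
      let φ : Finset (Sylow p G) → Finset (Sylow p G) := fun u => u.filter fun R => R ∈ y
      have hφ : ∀ h ∈ H', ∀ u, φ (h • u) = h • φ u := by
        intro h hh u
        have hfix : h • y = y := hh.2
        ext R
        simp only [φ, mem_filter, ← inv_smul_mem_iff]
        rw [show R ∈ y ↔ h⁻¹ • R ∈ y by conv_lhs => rw [← hfix, ← inv_smul_mem_iff]]
      -- a member of the orbit is fixed
      obtain ⟨u, hu, hufix⟩ : ∃ u ∈ orb H' t, Fixes Q' u := by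
        by_contra hh
        push Not at hh
        have := le_en_of_fixedfree hQ'H' hh
        linarith
      have hQu : Q' ∈ φ u := mem_filter.2
        ⟨(htex Q' hQ'H u (orb_subset hH'le (self_mem_orb H t) hu)).1 hufix, hQ'⟩
      have hne' : (φ t).Nonempty := by
        obtain ⟨h, hh, rfl⟩ := mem_orb.1 hu
        rw [hφ h hh] at hQu
        obtain ⟨R, hR, -⟩ := mem_smul_finset.1 hQu
        exact ⟨R, hR⟩
      have himg := image_orb (H := H') (x := t) φ hφ
      have h0 : 0 ≤ En Q' (orb H' (φ t)) := by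
        refine hN H' Q' hQ'H' _ ?_ ?_
        · rw [← himg]; exact card_image_le.trans_lt (hlt t (self_mem_orb H t))
        · by_contra hm
          -- all Sylow subgroups of the stabiliser fix every image, so they lie in it
          have hmm := hmov
          obtain ⟨z, hz, hzf⟩ := hmm
          have hcon : Q' ∈ φ z := by
            obtain ⟨R, hR⟩ : (φ z).Nonempty := by
              obtain ⟨h, hh, rfl⟩ := mem_orb.1 hz
              rw [hφ h hh]; exact hne'.smul_finset
            have hK : ∀ T ∈ Sy H', T ∈ Sy (p := p) (H' ⊓ stabilizer G (φ z)) := fun T hT =>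
              mem_Sy.2 (le_inf (mem_Sy.1 hT) (le_stabilizer (by
                by_contra hf
                refine hm (moves_conj hT hQ'H' ⟨φ z, ?_, hf⟩)
                rw [← himg]; exact mem_image_of_mem _ hz)))
            obtain ⟨k, hk, hkQ⟩ := exists_conj (hK R ((hSy R).2 (mem_filter.1 hR).2)) (hK Q' hQ'H')
            have h1 : k • R ∈ k • φ z := smul_mem_smul_finset hR
            rwa [hkQ, mem_stabilizer_iff.1 hk.2] at h1
          have hzH := orb_subset hH'le (self_mem_orb H t) hz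
          exact hzf ((htex Q' hQ'H z hzH).2 (mem_filter.1 hcon).1)
      obtain ⟨hmap, hgain⟩ := en_map φ hφ hQ'H' h0
      refine ⟨hne', fun R hR => (hSy R).2 (mem_filter.1 hR).2, ?_, hmap.trans hω, ?_⟩
      · rw [← himg]; exact card_image_le.trans_lt (hlt t (self_mem_orb H t))
      · intro R hR v hv
        rw [← himg] at hv
        obtain ⟨z, hz, rfl⟩ := mem_image.1 hv
        have hzH := orb_subset hH'le (self_mem_orb H t) hz
        have hRH : R ∈ Sy H := hysub ((hSy R).1 hR)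
        constructor
        · intro hRv
          refine mem_filter.2 ⟨(htex R hRH z hzH).1 ?_, (hSy R).1 hR⟩
          by_contra hRz
          obtain ⟨-, hg⟩ := en_map (x := t) φ hφ hR (by rwa [en_conj hQ'H' hR])
          have h2 := hg z hz hRv hRz
          rw [en_conj hQ'H' hR, en_conj hQ'H' hR] at h2
          nlinarith
        · intro hRv q hq
          rw [← hφ q (mem_Sy.1 hR hq), (htex R hRH z hzH).2 (mem_filter.1 hRv).1 q hq]
    obtain ⟨R, hR, hRmem⟩ := IH S' H' Q' (B + ((p : ℚ) - 1))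
      (card_image_le.trans ((card_filter_le _ _).trans (by rw [card_erase_of_mem hy]; omega)))
      hQ'H' hgood' (by linarith)
    refine ⟨R, mem_Sy.2 ((mem_Sy.1 hR).trans hH'le), fun t ht => ?_⟩
    rcases eq_or_ne t y with rfl | hty
    · exact (hSy R).1 hR
    by_cases hyt : y ⊆ t
    · exact hyt ((hSy R).1 hR)
    · exact (mem_filter.1 (hRmem _ (mem_image.2
        ⟨t, mem_filter.2 ⟨mem_erase.2 ⟨hty, ht⟩, hyt⟩, rfl⟩))).1

end Sets

section Main

/-- The energy of every moved orbit of sets of Sylow subgroups is non-negative. -/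
theorem mainBelow (N : ℕ) : MainBelow G p N := by
  classical
  induction N with
  | zero => intro H Q _ t ht; exact absurd ht (Nat.not_lt_zero _)
  | succ N hN =>
    intro H Q hQ x hx hmov
    rcases (Nat.lt_succ_iff.1 hx).lt_or_eq with hx | hx
    · exact hN H Q hQ x hx hmov
    have hp := two_le (p := p)
    set Δ := orb H x with hΔ
    by_cases hfree : ∀ z ∈ Δ, ¬ Fixes Q z
    · exact (sq_nonneg _).trans (le_en_of_fixedfree hQ hfree)
    push Not at hfree
    obtain ⟨u₀, hu₀, hu₀f⟩ := hfree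
    have hne : ∀ z ∈ Δ, (kap H z : Finset (Sylow p G)).Nonempty := by
      intro z hz
      obtain ⟨g, hg, rfl⟩ : ∃ g ∈ H, g • u₀ = z := mem_orb.1 (by rw [orb_eq hu₀]; exact hz)
      exact ⟨g • Q, mem_kap.2 ⟨conj_mem hQ hg, (fixes_smul g).2 hu₀f⟩⟩
    have hmovΓ := moves_kap hQ hmov hne
    have himg := image_orb (H := H) (x := x) (fun u => (kap H u : Finset (Sylow p G)))
      fun h hh u => kap_smul hh u
    by_cases hlt : (orb H (kap H x : Finset (Sylow p G))).card < N
    · exact (hN H Q hQ _ hlt hmovΓ).trans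
        (en_map _ (fun h hh u => kap_smul hh u) hQ (hN H Q hQ _ hlt hmovΓ)).1
    have hinj : Set.InjOn (fun u => (kap H u : Finset (Sylow p G))) (Δ : Set (Finset (Sylow p G))) := by
      refine card_image_iff.1 (le_antisymm card_image_le ?_)
      rw [himg, hΔ, hx]
      omega
    by_contra hneg
    rw [not_le] at hneg
    -- an element of order `p` on an orbit
    obtain ⟨z, a, hzQ, haΔ, hza, hzp⟩ : ∃ (z : G) (a : Finset (Sylow p G)),
        z ∈ Q ∧ a ∈ Δ ∧ z • a ≠ a ∧ z ^ p • a = a := by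
      obtain ⟨a, ha, hmv⟩ := hmov
      simp only [Fixes, not_forall] at hmv
      obtain ⟨q, hq, hqa⟩ := hmv
      obtain ⟨i, hi⟩ : ∃ i, q ^ p ^ i = 1 := by
        obtain ⟨i, hi⟩ := Q.2 ⟨q, hq⟩
        exact ⟨i, by simpa using congrArg Subtype.val hi⟩
      have hex : ∃ i, q ^ p ^ i • a = a := ⟨i, by rw [hi, one_smul]⟩
      obtain ⟨j, hj⟩ : ∃ j, Nat.find hex = j + 1 := by
        refine Nat.exists_eq_add_one.2 (Nat.pos_of_ne_zero fun h0 => hqa ?_)
        have := Nat.find_spec hex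
        rwa [h0, pow_zero, pow_one] at this
      refine ⟨q ^ p ^ j, a, pow_mem hq _, ha, Nat.find_min hex (by omega), ?_⟩
      rw [← pow_mul, ← pow_succ]
      have := Nat.find_spec hex
      rwa [hj] at this
    set T : Finset (Finset (Sylow p G)) := (range p).image fun i => z ^ i • a with hT
    have haT : a ∈ T := mem_image.2 ⟨0, mem_range.2 (Fact.out : p.Prime).pos, by rw [pow_zero, one_smul]⟩
    have hTΔ : T ⊆ Δ := by
      intro t ht
      obtain ⟨i, -, rfl⟩ := mem_image.1 ht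
      exact smul_mem_orb haΔ (pow_mem (mem_Sy.1 hQ hzQ) i)
    set H' : Subgroup G := H ⊓ stabilizer G a with hH'
    have hH'le : H' ≤ H := inf_le_left
    have hSy : ∀ R : Sylow p G, R ∈ Sy H' ↔ R ∈ kap H a := by
      intro R
      rw [mem_kap, mem_Sy, mem_Sy, hH', le_inf_iff]
      exact ⟨fun h => ⟨h.1, fun q hq => h.2 hq⟩, fun h => ⟨h.1, le_stabilizer h.2⟩⟩
    obtain ⟨Q', hQ'⟩ := hne a haΔ
    have hQ'H' : Q' ∈ Sy H' := (hSy Q').2 hQ'
    have hQ'H : Q' ∈ Sy H := (mem_kap.1 hQ').1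
    have hV : ∀ u ∈ Δ, ¬ Moves Q' (orb H' u) → u = a := by
      intro u hu hm
      refine hinj hu haΔ (eq_of_subset_of_card_le (fun R hR => ?_) ?_).symm
      · refine mem_kap.2 ⟨(mem_kap.1 hR).1, ?_⟩
        by_contra hf
        exact hm (moves_conj ((hSy R).2 hR) hQ'H' ⟨u, self_mem_orb H' u, hf⟩)
      · obtain ⟨g, hg, rfl⟩ : ∃ g ∈ H, g • a = u := mem_orb.1 (by rw [orb_eq haΔ]; exact hu)
        show (kap H (g • a)).card ≤ (kap H a).card
        rw [kap_smul hg, card_smul_finset]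
    have hωlt : ∀ u ∈ Δ, u ≠ a → (orb H' u).card < N := by
      intro u hu hua
      refine lt_of_lt_of_eq (card_lt_card ⟨orb_subset hH'le hu, fun hsub => hua ?_⟩) hx
      obtain ⟨h, hh, hha⟩ := mem_orb.1 (hsub haΔ)
      rw [← hha, ← smul_left_cancel_iff h, hha]
      exact (hh.2 : h • a = a).symm
    have hpos : ∀ u ∈ Δ, Moves Q' (orb H' u) → 0 ≤ En Q' (orb H' u) := by
      intro u hu hm
      refine hN H' Q' hQ'H' u (hωlt u hu fun e => ?_) hm
      subst e
      obtain ⟨v, hv, hvf⟩ := hm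
      obtain ⟨h, hh, rfl⟩ := mem_orb.1 hv
      have h1 : h • u = u := hh.2
      exact hvf (by rw [h1]; exact (mem_kap.1 hQ').2)
    have hgood : ∀ t ∈ (T.erase a).image (fun u => (kap H' u : Finset (Sylow p G))),
        Good N H' Q' (En Q Δ + ((p : ℚ) - 1)) t := by
      intro t ht
      obtain ⟨c, hc, rfl⟩ := mem_image.1 ht
      obtain ⟨hca, hcT⟩ := mem_erase.1 hc
      have hcΔ := hTΔ hcT
      have hmovc : Moves Q' (orb H' c) := by
        by_contra hm
        exact hca (hV c hcΔ hm)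
      have hω : En Q' (orb H' c) ≤ En Q Δ + ((p : ℚ) - 1) := by
        have h1 := en_suborbit_le hH'le hQ'H' hcΔ hV hpos hmovc
        rwa [en_conj hQ hQ'H] at h1
      have hωsq : En Q' (orb H' c) < ((p : ℚ) - 1) ^ 2 := by nlinarith
      obtain ⟨v, hv, hvf⟩ : ∃ v ∈ orb H' c, Fixes Q' v := by
        by_contra hh
        push Not at hh
        exact absurd (le_en_of_fixedfree hQ'H' hh) (not_le.2 hωsq)
      have hne' : ∀ u ∈ orb H' c, (kap H' u : Finset (Sylow p G)).Nonempty := by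
        intro u hu
        obtain ⟨g, hg, rfl⟩ : ∃ g ∈ H', g • v = u := mem_orb.1 (by rw [orb_eq hv]; exact hu)
        exact ⟨g • Q', mem_kap.2 ⟨conj_mem hQ'H' hg, (fixes_smul g).2 hvf⟩⟩
      have himg' := image_orb (H := H') (x := c) (fun u => (kap H' u : Finset (Sylow p G)))
        fun h hh u => kap_smul hh u
      have hcard : (orb H' (kap H' c : Finset (Sylow p G))).card < N := by
        rw [← himg']
        exact card_image_le.trans_lt (hωlt c hcΔ hca)
      have h0 := hN H' Q' hQ'H' _ hcard (moves_kap hQ'H' hmovc hne')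
      refine ⟨hne' c (self_mem_orb H' c), fun R hR => (mem_kap.1 hR).1, hcard,
        (en_map _ (fun h hh u => kap_smul hh u) hQ'H' h0).1.trans hω, ?_⟩
      intro R hR v' hv'
      rw [← himg'] at hv'
      obtain ⟨u, hu, rfl⟩ := mem_image.1 hv'
      constructor
      · intro hRv
        refine mem_kap.2 ⟨hR, ?_⟩
        by_contra hRu
        have hg := (en_map (x := c) (fun w => (kap H' w : Finset (Sylow p G)))
          (fun h hh u => kap_smul hh u) hR (by rwa [en_conj hQ'H' hR])).2 u hu hRv hRu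
        rw [en_conj hQ'H' hR, en_conj hQ'H' hR] at hg
        nlinarith
      · intro hRv q hq
        rw [← kap_smul (mem_Sy.1 hR hq), (mem_kap.1 hRv).2 q hq]
    obtain ⟨R, hR, hRall⟩ := exists_common hN (p - 1) _ H' Q' (En Q Δ + ((p : ℚ) - 1))
      (card_image_le.trans (by
        rw [card_erase_of_mem haT]
        exact Nat.sub_le_sub_right (card_image_le.trans (card_range p).le) 1))
      hQ'H' hgood (by
        rw [Nat.cast_sub (Fact.out : p.Prime).one_le, Nat.cast_one]
        nlinarith)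
    have hRfix : ∀ t ∈ T, Fixes R t := by
      intro t ht
      rcases eq_or_ne t a with rfl | hta
      · exact (mem_kap.1 ((hSy R).1 hR)).2
      · exact (mem_kap.1 (hRall _ (mem_image_of_mem _ (mem_erase.2 ⟨hta, ht⟩)))).2
    -- the stabiliser of `T`
    set K : Subgroup G := stabilizer G T with hK
    have hzK : z ∈ K := by
      rw [hK, mem_stabilizer_iff]
      refine eq_of_subset_of_card_le (fun t ht => ?_) (by rw [card_smul_finset])
      obtain ⟨t', ht', rfl⟩ := mem_smul_finset.1 ht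
      obtain ⟨i, hi, rfl⟩ := mem_image.1 ht'
      rw [mem_range] at hi
      rw [smul_smul, ← pow_succ']
      rcases (show i + 1 ≤ p by omega).lt_or_eq with h | h
      · exact mem_image.2 ⟨i + 1, mem_range.2 h, rfl⟩
      · rw [h, hzp]; exact haT
    have hRK : (R : Subgroup G) ≤ K := by
      intro r hr
      rw [hK, mem_stabilizer_iff]
      refine eq_of_subset_of_card_le (fun t ht => ?_) (by rw [card_smul_finset])
      obtain ⟨t', ht', rfl⟩ := mem_smul_finset.1 ht
      rw [hRfix t' ht' r hr]; exact ht'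
    have hpg : IsPGroup p (Subgroup.zpowers (⟨z, hzK⟩ : K)) := by
      rintro ⟨w, hw⟩
      obtain ⟨n, rfl⟩ := Subgroup.mem_zpowers_iff.1 hw
      obtain ⟨i, hi⟩ := Q.2 ⟨z ^ n, zpow_mem hzQ n⟩
      refine ⟨i, ?_⟩
      apply Subtype.ext
      apply Subtype.ext
      simpa using congrArg Subtype.val hi
    obtain ⟨P', hP'⟩ := hpg.exists_le_sylow
    obtain ⟨k, hk⟩ := exists_smul_eq K (R.subtype hRK) P'
    have hz : (⟨z, hzK⟩ : K) ∈ P' := hP' (Subgroup.mem_zpowers _)
    rw [← hk] at hz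
    obtain ⟨r, hr, hzr⟩ := exists_of_mem_smul hz
    have hka : (k⁻¹ : K).1 • a ∈ T := by
      have h1 : (k⁻¹ : K).1 • T = T := (k⁻¹ : K).2
      have h2 := smul_mem_smul_finset (a := (k⁻¹ : K).1) haT
      rwa [h1] at h2
    apply hza
    rw [show z = (k : G) * (r : G) * (k : G)⁻¹ from congrArg Subtype.val hzr, mul_smul, mul_smul]
    show (k : G) • (r : G) • ((k⁻¹ : K) : G) • a = a
    exact (congrArg ((k : G) • ·) (hRfix _ hka _ hr)).trans (by simp)

/-- The orbit bound for a Sylow subgroup of a transitive group. -/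
theorem orbit_bound {Ω : Type*} [MulAction G Ω] [FaithfulSMul G Ω] [Finite Ω]
    (htrans : IsPretransitive G Ω) (hp2 : p ≠ 2) (hpG : p ∣ Nat.card G) (P : Sylow p G) :
    (2 * p - 1) * Nat.card (orbitRel.Quotient (P : Subgroup G) Ω) ≤ p * Nat.card Ω := by
  classical
  haveI := htrans
  letI := Fintype.ofFinite Ω
  letI : Fintype (orbitRel.Quotient (P : Subgroup G) Ω) := Fintype.ofFinite _
  rcases isEmpty_or_nonempty Ω with hΩ | ⟨⟨x₀⟩⟩
  · haveI : IsEmpty (orbitRel.Quotient (P : Subgroup G) Ω) := ⟨fun q => Quotient.inductionOn q fun x => hΩ.false x⟩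
    simp [Nat.card_eq_zero]
  have hp := two_le (p := p)
  have htop : ∀ R : Sylow p G, R ∈ Sy (⊤ : Subgroup G) := fun R => mem_Sy.2 le_top
  have huniv : orb (⊤ : Subgroup G) x₀ = univ := eq_univ_of_forall fun y => by
    obtain ⟨g, hg⟩ := exists_smul_eq G x₀ y
    exact mem_orb.2 ⟨g, Subgroup.mem_top g, hg⟩
  have hmov : Moves P (orb (⊤ : Subgroup G) x₀) := by
    by_contra hm
    have h1 : (P : Subgroup G) = ⊥ := by
      refine (Subgroup.eq_bot_iff_forall _).2 fun q hq => FaithfulSMul.eq_of_smul_eq_smul fun y : Ω => ?_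
      rw [one_smul]
      by_contra hy
      exact hm ⟨y, huniv ▸ mem_univ y, fun hf => hy (hf q hq)⟩
    have h2 : Nat.card (P : Subgroup G) = 1 := by rw [h1]; exact Subgroup.card_bot
    have h3 := P.dvd_card_of_dvd_card hpG
    rw [h2, Nat.dvd_one] at h3
    exact (Fact.out : p.Prime).ne_one h3
  have hpos : 0 ≤ En P (orb (⊤ : Subgroup G) x₀) := by
    by_cases hfree : ∀ z ∈ orb (⊤ : Subgroup G) x₀, ¬ Fixes P z
    · exact (sq_nonneg _).trans (le_en_of_fixedfree (htop P) hfree)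
    push Not at hfree
    obtain ⟨u, -, hu⟩ := hfree
    have hne : ∀ z ∈ orb (⊤ : Subgroup G) x₀,
        (kap (⊤ : Subgroup G) z : Finset (Sylow p G)).Nonempty := by
      intro z _
      obtain ⟨g, rfl⟩ := exists_smul_eq G u z
      exact ⟨g • P, mem_kap.2 ⟨htop _, (fixes_smul g).2 hu⟩⟩
    have h0 := mainBelow _ (⊤ : Subgroup G) P (htop P) _ (Nat.lt_succ_self _)
      (moves_kap (htop P) hmov hne)
    exact h0.trans (en_map _ (fun h hh u => kap_smul hh u) (htop P) h0).1
  have hcount : ∑ z : Ω, (1 : ℚ) / (osz P z : ℚ) =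
      (Nat.card (orbitRel.Quotient (P : Subgroup G) Ω) : ℚ) := by
    rw [← sum_fiberwise univ (fun z => (Quotient.mk'' z : orbitRel.Quotient (P : Subgroup G) Ω)),
      Nat.card_eq_fintype_card, ← Finset.card_univ, Finset.cast_card]
    refine sum_congr rfl fun q _ => ?_
    induction q using Quotient.inductionOn' with
    | h z =>
      have hset : (univ.filter fun u : Ω =>
          (Quotient.mk'' u : orbitRel.Quotient (P : Subgroup G) Ω) = Quotient.mk'' z) =
          orb (P : Subgroup G) z := by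
        ext u
        rw [mem_filter, Quotient.eq'', orbitRel_apply, mem_orbit_iff, mem_orb]
        exact ⟨fun ⟨_, g, hg⟩ => ⟨g, g.2, hg⟩, fun ⟨g, hg, e⟩ => ⟨mem_univ _, ⟨g, hg⟩, e⟩⟩
      rw [hset]
      have hcongr : ∀ u ∈ orb (P : Subgroup G) z,
          (1 : ℚ) / (osz P u : ℚ) = (1 : ℚ) / (osz P z : ℚ) :=
        fun u hu => by rw [osz, osz, orb_eq hu]
      rw [sum_congr rfl hcongr, sum_const, nsmul_eq_mul]
      have : (0 : ℚ) < osz P z := by exact_mod_cast osz_pos P z
      rw [← osz]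
      field_simp
  have hE : En P (orb (⊤ : Subgroup G) x₀) = (p : ℚ) * Nat.card Ω -
      (2 * p - 1) * (Nat.card (orbitRel.Quotient (P : Subgroup G) Ω) : ℚ) := by
    rw [En, huniv, ← hcount, mul_sum]
    simp only [wt, sum_sub_distrib, sum_const, nsmul_eq_mul, card_univ, Nat.card_eq_fintype_card]
    rw [mul_comm]
    congr 1
    exact sum_congr rfl fun z _ => by ring
  rw [hE, sub_nonneg] at hpos
  have h2p : 1 ≤ 2 * p := by have := (Fact.out : p.Prime).pos; omega
  have : (((2 * p - 1) * Nat.card (orbitRel.Quotient (P : Subgroup G) Ω) : ℕ) : ℚ) ≤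
      ((p * Nat.card Ω : ℕ) : ℚ) := by push_cast [Nat.cast_sub h2p]; linarith
  exact_mod_cast this

end Main

end Cfsg.Agent.H77.SylowOrbits
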