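import Cfsg.Agent.PGroups.Basic
import Cfsg.Agent.PGroups.TwoGroups
import Cfsg.Agent.PGroups.CyclicMaximal
import Cfsg.Agent.PGroups.MaxAbelian

/-!
For a `2`-group acting faithfully on a finite abelian group `V` of odd order, the index of the
Frattini subgroup is less than `|V|`.
-/

set_option autoImplicit false

namespace Cfsg.Agent.H77

open Subgroup

universe u

/-- The index of the Frattini subgroup. -/
noncomputable def fidx (P : Type*) [Group P] : ℕ := (frattini P).index

variable {P : Type*} [Group P] [Finite P]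

theorem fidx_le_index_mul (hP : IsPGroup 2 P) (M : Subgroup P) :
    fidx P ≤ M.index * fidx M := by
  haveI : Fact (Nat.Prime 2) := ⟨Nat.prime_two⟩
  have h1 : (frattini M).map M.subtype ≤ frattini P := by
    rw [Subgroup.map_le_iff_le_comap]
    refine PGroups.frattini_le_of_commutator_le (p := 2) _ ?_ fun x => ?_
    · intro x hx
      have : (x : P) ∈ _root_.commutator P := by
        have hm := mem_map_of_mem M.subtype hx
        rw [_root_.commutator_def, map_commutator] at hm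
        exact commutator_mono le_top le_top hm
      exact PGroups.commutator_le_frattini hP this
    · exact PGroups.pow_mem_frattini hP (x : P)
  refine (Nat.le_of_dvd (Nat.pos_of_ne_zero ?_) (index_dvd_of_le h1)).trans ?_
  · exact Subgroup.index_ne_zero_of_finite
  · rw [index_map, MonoidHom.ker_eq_bot_iff _ |>.mpr M.subtype_injective, sup_bot_eq, range_subtype,
      mul_comm]
    rfl

theorem fidx_le_quotient_mul (hP : IsPGroup 2 P) (K : Subgroup P) [K.Normal] :
    fidx P ≤ fidx (P ⧸ K) * fidx K := by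
  haveI : Fact (Nat.Prime 2) := ⟨Nat.prime_two⟩
  set F := frattini P
  set M := F ⊔ K
  have hFn : F.Normal := by
    haveI : F.Characteristic := frattini_characteristic
    infer_instance
  have hM : frattini (P ⧸ K) ≤ F.map (QuotientGroup.mk' K) := by
    haveI : (F.map (QuotientGroup.mk' K)).Normal := hFn.map _ (QuotientGroup.mk'_surjective K)
    refine PGroups.frattini_le_of_commutator_le (p := 2) _ ?_ fun x => ?_
    · have e : (_root_.commutator P).map (QuotientGroup.mk' K) = _root_.commutator (P ⧸ K) := by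
        rw [_root_.commutator_def, _root_.commutator_def, map_commutator,
          map_top_of_surjective _ (QuotientGroup.mk'_surjective K)]
      rw [← e]
      exact map_mono (PGroups.commutator_le_frattini hP)
    · obtain ⟨y, rfl⟩ := QuotientGroup.mk'_surjective K x
      exact ⟨y ^ 2, PGroups.pow_mem_frattini hP y, map_pow _ _ _⟩
  have h1 : M.index ≤ fidx (P ⧸ K) := by
    have e : M.index = (F.map (QuotientGroup.mk' K)).index := by
      rw [index_map, QuotientGroup.ker_mk', MonoidHom.range_eq_top.mpr (QuotientGroup.mk'_surjective K),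
        index_top, mul_one]
    rw [e]
    exact Nat.le_of_dvd (Nat.pos_of_ne_zero Subgroup.index_ne_zero_of_finite) (index_dvd_of_le hM)
  have h2 : F.relIndex M ≤ fidx K := by
    rw [show F.relIndex M = F.relIndex K from Subgroup.relIndex_sup_left K F]
    have h3 : (frattini K).map K.subtype ≤ F := by
      rw [Subgroup.map_le_iff_le_comap]
      refine PGroups.frattini_le_of_commutator_le (p := 2) _ ?_ fun x => ?_
      · intro x hx
        have : (x : P) ∈ _root_.commutator P := by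
          have hm := mem_map_of_mem K.subtype hx
          rw [_root_.commutator_def, map_commutator] at hm
          exact commutator_mono le_top le_top hm
        exact PGroups.commutator_le_frattini hP this
      · exact PGroups.pow_mem_frattini hP (x : P)
    rw [Subgroup.map_le_iff_le_comap] at h3
    exact Nat.le_of_dvd (Nat.pos_of_ne_zero Subgroup.index_ne_zero_of_finite) (index_dvd_of_le h3)
  calc fidx P = F.relIndex M * M.index := (Subgroup.relIndex_mul_index le_sup_left).symm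
    _ ≤ fidx K * fidx (P ⧸ K) := Nat.mul_le_mul h2 h1
    _ = _ := mul_comm _ _

theorem fidx_le_card : fidx P ≤ Nat.card P :=
  Nat.le_of_dvd Nat.card_pos (Subgroup.index_dvd_card _)

theorem fidx_le_two_of_cyclic (hP : IsPGroup 2 P) (hc : IsCyclic P) : fidx P ≤ 2 := by
  haveI : Fact (Nat.Prime 2) := ⟨Nat.prime_two⟩
  obtain ⟨c, hc⟩ := hc.exists_generator
  have h1 : zpowers (c ^ 2) ≤ frattini P := zpowers_le.mpr (PGroups.pow_mem_frattini hP c)
  refine (Nat.le_of_dvd (Nat.pos_of_ne_zero Subgroup.index_ne_zero_of_finite) (index_dvd_of_le h1)).trans ?_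
  have e := (zpowers (c ^ 2)).card_mul_index
  rw [Nat.card_zpowers, orderOf_pow, ← orderOf_eq_card_of_forall_mem_zpowers hc] at e
  have hg : Nat.gcd (orderOf c) 2 ≤ 2 := Nat.le_of_dvd two_pos (Nat.gcd_dvd_right _ _)
  have hd : orderOf c / Nat.gcd (orderOf c) 2 * Nat.gcd (orderOf c) 2 = orderOf c :=
    Nat.div_mul_cancel (Nat.gcd_dvd_left _ _)
  have hpos : 0 < orderOf c / Nat.gcd (orderOf c) 2 :=
    Nat.div_pos (Nat.le_of_dvd (orderOf_pos c) (Nat.gcd_dvd_left _ _))
      (Nat.gcd_pos_of_pos_left _ (orderOf_pos c))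
  nlinarith

/-- A noncyclic normal abelian subgroup yields a normal four-group through a given unique central
involution. -/
theorem exists_four (hP : IsPGroup 2 P) {z : P} (hzu : ∀ w ∈ center P, w ^ 2 = 1 → w = 1 ∨ w = z)
    {A : Subgroup P} [A.Normal] (hA : IsMulCommutative A) (hnc : ¬ IsCyclic A) :
    ∃ e : P, e ^ 2 = 1 ∧ e ≠ 1 ∧ e ≠ z ∧ ∀ g : P, g * e * g⁻¹ = e ∨ g * e * g⁻¹ = e * z := by
  haveI : Fact (Nat.Prime 2) := ⟨Nat.prime_two⟩
  let B : Subgroup P :=
    { carrier := {x | x ∈ A ∧ x ^ 2 = 1}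
      one_mem' := ⟨one_mem _, one_pow _⟩
      mul_mem' := fun {a b} ha hb => ⟨mul_mem ha.1 hb.1, by
        rw [(show Commute a b from congrArg Subtype.val (mul_comm' (⟨a, ha.1⟩ : A) ⟨b, hb.1⟩)).mul_pow,
          ha.2, hb.2, one_mul]⟩
      inv_mem' := fun {a} ha => ⟨inv_mem ha.1, by rw [inv_pow, ha.2, inv_one]⟩ }
  haveI : B.Normal := ⟨fun x hx g => ⟨‹A.Normal›.conj_mem x hx.1 g, by rw [conj_pow, hx.2]; group⟩⟩
  have hBne : B ≠ ⊥ := fun e => hnc (PGroups.isCyclic_of_small_omega hP hA ⊥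
    (fun a ha h => e ▸ (show a ∈ B from ⟨ha, h⟩)) (by rw [Subgroup.card_bot]; norm_num))
  obtain ⟨w, hwB, hwc, hwo⟩ := PGroups.exists_mem_center_orderOf_eq hP B hBne
  have hw2 : w ^ 2 = 1 := hwB.2
  have hwz : w = z := (hzu w hwc hw2).resolve_left (fun e => by rw [e, orderOf_one] at hwo; omega)
  subst hwz
  have hlt : zpowers w < B := by
    refine lt_of_le_of_ne (zpowers_le.mpr hwB) fun e => hnc (PGroups.isCyclic_of_small_omega hP hA (zpowers w)
      (fun a ha h => e ▸ (show a ∈ B from ⟨ha, h⟩)) (by rw [Nat.card_zpowers, hwo]))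
  haveI : (zpowers w).Normal := PGroups.normal_of_le_center (zpowers_le.mpr hwc)
  obtain ⟨M, hMn, hwM, hMB, hMc⟩ := PGroups.exists_normal_card_mul hP (zpowers w) B hlt
  obtain ⟨e, heM, hew⟩ := SetLike.exists_of_lt (lt_of_le_of_ne hwM fun h => by
    rw [← h] at hMc; have := Nat.card_pos (α := zpowers w); omega)
  refine ⟨e, (hMB heM).2, fun h => hew (h ▸ one_mem _), fun h => hew (h ▸ mem_zpowers w), fun g => ?_⟩
  have hgM : g * e * g⁻¹ ∈ M := hMn.conj_mem e heM g
  -- `M` has four elements, `1, w, e, e * w`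
  classical
  haveI := Fintype.ofFinite P
  have hM4 : Nat.card M = 4 := by rw [hMc, Nat.card_zpowers, hwo]
  have hwne : w ≠ 1 := fun h => by rw [h, orderOf_one] at hwo; omega
  have hewne : e ≠ 1 := fun h => hew (h ▸ one_mem _)
  have hsub : ({1, w, e, e * w} : Finset P) = (M : Set P).toFinset := by
    refine Finset.eq_of_subset_of_card_le ?_ ?_
    · intro x hx
      simp only [Finset.mem_insert, Finset.mem_singleton] at hx
      rw [Set.mem_toFinset]
      rcases hx with rfl | rfl | rfl | rfl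
      exacts [one_mem _, hwM (mem_zpowers _), heM, mul_mem heM (hwM (mem_zpowers _))]
    · rw [Set.toFinset_card, ← Nat.card_eq_fintype_card, show Nat.card (M : Set P) = 4 from hM4]
      have h1 : e * w ≠ 1 := fun h => hew (by rw [eq_inv_of_mul_eq_one_left h]; exact inv_mem (mem_zpowers w))
      have h2 : e * w ≠ w := fun h => hewne (mul_eq_right.mp h)
      have h3 : e * w ≠ e := fun h => hwne (mul_eq_left.mp h)
      have h4 : w ≠ e := fun h => hew (h ▸ mem_zpowers w)
      rw [Finset.card_insert_of_notMem (by simp [hwne.symm, hewne.symm, h1.symm]),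
        Finset.card_insert_of_notMem (by simp [h4, h2.symm]),
        Finset.card_insert_of_notMem (by simp [h3.symm]), Finset.card_singleton]
  have hmem : g * e * g⁻¹ ∈ ({1, w, e, e * w} : Finset P) := by
    rw [hsub, Set.mem_toFinset]; exact hgM
  simp only [Finset.mem_insert, Finset.mem_singleton] at hmem
  rcases hmem with h | h | h | h
  · exact absurd (conj_eq_one_iff.mp h) hewne
  · exfalso
    apply hew
    have : e = g⁻¹ * w * g := by rw [← h]; group
    rw [this, mul_assoc, (mem_center_iff.mp hwc g).symm, ← mul_assoc, inv_mul_cancel, one_mul]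
    exact mem_zpowers w
  · exact Or.inl h
  · exact Or.inr h

section Action

variable {V : Type u} [CommGroup V] [Finite V]

/-- An invariant subgroup gives an action. -/
theorem exists_restrict {Q : Type*} [Group Q] (f : Q →* MulAut V) (W : Subgroup V)
    (hW : ∀ g : Q, ∀ w ∈ W, f g w ∈ W) :
    ∃ h : Q →* MulAut W, ∀ g w, ((h g w : W) : V) = f g w := by
  let a : Q → MulAut W := fun g =>
    { toFun := fun w => ⟨f g w, hW g w w.2⟩
      invFun := fun w => ⟨f g⁻¹ w, hW g⁻¹ w w.2⟩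
      left_inv := fun w => Subtype.ext (by simp)
      right_inv := fun w => Subtype.ext (by simp)
      map_mul' := fun v w => Subtype.ext (map_mul _ _ _) }
  exact ⟨MonoidHom.mk' a (fun g h => MulEquiv.ext fun w => Subtype.ext (by simp [a])),
    fun g w => rfl⟩

theorem exists_sqrt (hV : Odd (Nat.card V)) (v : V) : ∃ r : V, r ^ 2 = v := by
  obtain ⟨k, hk⟩ := hV
  refine ⟨v ^ (k + 1), ?_⟩
  rw [← pow_mul, show (k + 1) * 2 = Nat.card V + 1 by omega, pow_succ, pow_card_eq_one', one_mul]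

theorem eq_one_of_sq (hV : Odd (Nat.card V)) {v : V} (hv : v ^ 2 = 1) : v = 1 :=
  orderOf_eq_one_iff.mp (Nat.eq_one_of_dvd_coprimes (Nat.Coprime.symm (Nat.coprime_two_right.mpr hV) )
    (orderOf_dvd_of_pow_eq_one hv) (orderOf_dvd_natCard v))

/-- The fixed and inverted elements of an involution decompose an odd abelian group. -/
theorem exists_eigen (hV : Odd (Nat.card V)) (a : MulAut V) (ha : a * a = 1) :
    ∃ Vp Vm : Subgroup V, (∀ v, v ∈ Vp ↔ a v = v) ∧ (∀ v, v ∈ Vm ↔ a v = v⁻¹) ∧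
      Disjoint Vp Vm ∧ Vp ⊔ Vm = ⊤ := by
  let Vp : Subgroup V :=
    { carrier := {v | a v = v}
      one_mem' := map_one _
      mul_mem' := fun {v w} hv hw => by simp_all
      inv_mem' := fun {v} hv => by simp_all }
  let Vm : Subgroup V :=
    { carrier := {v | a v = v⁻¹}
      one_mem' := by simp
      mul_mem' := fun {v w} hv hw => by simp_all [mul_comm]
      inv_mem' := fun {v} hv => by simp_all }
  refine ⟨Vp, Vm, fun v => Iff.rfl, fun v => Iff.rfl, ?_, ?_⟩
  · rw [disjoint_def]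
    intro v h1 h2
    refine eq_one_of_sq hV ?_
    have : v = v⁻¹ := (show a v = v from h1).symm.trans h2
    rw [pow_two]
    conv_lhs => arg 2; rw [this]
    exact mul_inv_cancel v
  · rw [eq_top_iff]
    intro v _
    obtain ⟨r, rfl⟩ := exists_sqrt hV v
    have haa : a (a r) = r := by rw [← MulAut.mul_apply, ha]; rfl
    have : r ^ 2 = (r * a r) * (r * (a r)⁻¹) := by rw [mul_mul_mul_comm, mul_inv_cancel, mul_one, pow_two]
    rw [this]
    refine mul_mem (mem_sup_left ?_) (mem_sup_right ?_)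
    · show a (r * a r) = r * a r
      rw [map_mul, haa, mul_comm]
    · show a (r * (a r)⁻¹) = (r * (a r)⁻¹)⁻¹
      rw [map_mul, map_inv, haa, mul_inv, inv_inv, mul_comm]

end Action

/-- The bound for the action of a `2`-group on an odd abelian group. -/
def BoundAt (V : Type u) [CommGroup V] : Prop :=
  ∀ (Q : Type u) [Group Q] [Finite Q], IsPGroup 2 Q → ∀ f : Q →* MulAut V, Function.Injective f →
    (Nat.card V = 1 → fidx Q ≤ 1) ∧ (Nat.card V = 3 → fidx Q ≤ 2) ∧
      (3 < Nat.card V → 2 * fidx Q ≤ Nat.card V - 1)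

/-- An invariant decomposition splits the bound. -/
theorem split_bound {V : Type u} [CommGroup V] [Finite V] {Q : Type u} [Group Q] [Finite Q]
    (hQ : IsPGroup 2 Q) (f : Q →* MulAut V) (hf : Function.Injective f) {V₁ V₂ : Subgroup V}
    (hd : Disjoint V₁ V₂) (hs : V₁ ⊔ V₂ = ⊤) (h₁ : ∀ g, ∀ w ∈ V₁, f g w ∈ V₁)
    (h₂ : ∀ g, ∀ w ∈ V₂, f g w ∈ V₂) (b₁ : BoundAt V₁) (b₂ : BoundAt V₂) :
    ∃ d₁ d₂ : ℕ, fidx Q ≤ d₁ * d₂ ∧
      ((Nat.card V₁ = 1 → d₁ ≤ 1) ∧ (Nat.card V₁ = 3 → d₁ ≤ 2) ∧ (3 < Nat.card V₁ → 2 * d₁ ≤ Nat.card V₁ - 1)) ∧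
      ((Nat.card V₂ = 1 → d₂ ≤ 1) ∧ (Nat.card V₂ = 3 → d₂ ≤ 2) ∧ (3 < Nat.card V₂ → 2 * d₂ ≤ Nat.card V₂ - 1)) := by
  obtain ⟨f₁, hf₁⟩ := exists_restrict f V₁ h₁
  obtain ⟨f₂, hf₂⟩ := exists_restrict f V₂ h₂
  refine ⟨fidx (Q ⧸ f₁.ker), fidx f₁.ker, fidx_le_quotient_mul hQ f₁.ker,
    b₁ _ (hQ.to_quotient _) (QuotientGroup.kerLift f₁) (QuotientGroup.kerLift_injective f₁),
    b₂ _ (hQ.to_subgroup _) (f₂.comp f₁.ker.subtype) ?_⟩
  rintro ⟨a, ha⟩ ⟨b, hb⟩ e
  apply Subtype.ext
  apply hf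
  refine MulEquiv.ext fun v => ?_
  have hv : v ∈ V₁ ⊔ V₂ := by rw [hs]; trivial
  obtain ⟨x, hx, y, hy, rfl⟩ := mem_sup.mp hv
  rw [map_mul, map_mul, ← hf₁ a ⟨x, hx⟩, ← hf₁ b ⟨x, hx⟩, ← hf₂ a ⟨y, hy⟩, ← hf₂ b ⟨y, hy⟩,
    MonoidHom.mem_ker.mp ha, MonoidHom.mem_ker.mp hb]
  have e' := DFunLike.congr_fun e ⟨y, hy⟩
  exact congrArg (_ * ·) (congrArg Subtype.val e')

theorem card_split {V : Type u} [CommGroup V] [Finite V] {V₁ V₂ : Subgroup V}
    (hd : Disjoint V₁ V₂) (hs : V₁ ⊔ V₂ = ⊤) : Nat.card V = Nat.card V₁ * Nat.card V₂ := by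
  have hsurj : Function.Surjective (fun z : V₁ × V₂ => (z.1 : V) * z.2) := fun v => by
    obtain ⟨x, hx, y, hy, e⟩ := mem_sup.mp (show v ∈ V₁ ⊔ V₂ by rw [hs]; trivial)
    exact ⟨(⟨x, hx⟩, ⟨y, hy⟩), e⟩
  rw [← Nat.card_prod]
  exact (Nat.card_congr (Equiv.ofBijective _ ⟨Subgroup.mul_injective_of_disjoint hd, hsurj⟩)).symm

theorem mul_bound {a b d₁ d₂ : ℕ} (ha : 1 < a) (hb : 1 < b) (ha2 : a ≠ 2) (hb2 : b ≠ 2)
    (h₁ : (a = 3 → d₁ ≤ 2) ∧ (3 < a → 2 * d₁ ≤ a - 1))
    (h₂ : (b = 3 → d₂ ≤ 2) ∧ (3 < b → 2 * d₂ ≤ b - 1)) : 2 * (d₁ * d₂) ≤ a * b - 1 := by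
  have hab : (a - 1) * (b - 1) + a + b = a * b + 1 := by
    obtain ⟨a, rfl⟩ : ∃ k, a = k + 1 := ⟨a - 1, by omega⟩
    obtain ⟨b, rfl⟩ : ∃ k, b = k + 1 := ⟨b - 1, by omega⟩
    simp only [Nat.add_sub_cancel]; ring
  rcases (show a = 3 ∨ 3 < a by omega) with h | h <;> rcases (show b = 3 ∨ 3 < b by omega) with k | k
  · have := Nat.mul_le_mul (h₁.1 h) (h₂.1 k); subst h; subst k; omega
  · have := Nat.mul_le_mul (h₁.1 h) (h₂.2 k); subst h
    have e : d₁ * (2 * d₂) = 2 * (d₁ * d₂) := by ring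
    omega
  · have := Nat.mul_le_mul (h₁.2 h) (h₂.1 k); subst k
    have e : 2 * d₁ * d₂ = 2 * (d₁ * d₂) := by ring
    omega
  · have := Nat.mul_le_mul (h₁.2 h) (h₂.2 k)
    have e : 2 * d₁ * (2 * d₂) = 4 * (d₁ * d₂) := by ring
    omega

/-- The bound holds for every finite abelian group of odd order. -/
theorem boundAt_all : ∀ (m : ℕ) (V : Type u) [CommGroup V] [Finite V], Nat.card V ≤ m →
    Odd (Nat.card V) → BoundAt V := by
  intro m
  induction m with
  | zero => intro V _ _ h; exact absurd h (not_le.mpr Nat.card_pos)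
  | succ m ih => ?_
  intro V _ _ hVm hV Q _ _ hQ f hf
  haveI : Fact (Nat.Prime 2) := ⟨Nat.prime_two⟩
  refine ⟨fun h1 => ?_, fun h3 => ?_, fun hgt => ?_⟩
  · haveI : Subsingleton V := (Nat.card_eq_one_iff_unique.mp h1).1
    haveI : Subsingleton Q := ⟨fun a b => hf (MulEquiv.ext fun v => Subsingleton.elim _ _)⟩
    exact fidx_le_card.trans (le_of_eq (Nat.card_unique (α := Q)))
  · -- an automorphism of the group of order three is the identity or inversion
    haveI := Fact.mk Nat.prime_three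
    haveI : IsCyclic V := isCyclic_of_prime_card h3
    refine fidx_le_card.trans ((Nat.card_le_card_of_injective f hf).trans ?_)
    rw [IsCyclic.card_mulAut, h3]
    decide
  -- the inductive hypothesis applies to proper subgroups
  have hproper : ∀ W : Subgroup V, W ≠ ⊤ → BoundAt W := fun W hW => by
    refine ih W ?_ (hV.of_dvd_nat (Subgroup.card_subgroup_dvd_card W))
    have : Nat.card W < Nat.card V := lt_of_le_of_ne (Subgroup.card_le_card_group W)
      (fun e => hW (Subgroup.eq_top_of_card_eq W e))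
    omega
  have hodd : ∀ W : Subgroup V, W ≠ ⊥ → 1 < Nat.card W ∧ Nat.card W ≠ 2 := fun W hW => by
    refine ⟨Subgroup.one_lt_card_iff_ne_bot W |>.mpr hW, fun e => ?_⟩
    have := hV.of_dvd_nat (Subgroup.card_subgroup_dvd_card W)
    rw [e] at this; exact absurd this (by decide)
  by_cases hdec : ∃ V₁ V₂ : Subgroup V, Disjoint V₁ V₂ ∧ V₁ ⊔ V₂ = ⊤ ∧ V₁ ≠ ⊥ ∧ V₂ ≠ ⊥ ∧
      (∀ g, ∀ w ∈ V₁, f g w ∈ V₁) ∧ (∀ g, ∀ w ∈ V₂, f g w ∈ V₂)
  · obtain ⟨V₁, V₂, hd, hs, n₁, n₂, i₁, i₂⟩ := hdec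
    have t₁ : V₁ ≠ ⊤ := fun e => n₂ (top_disjoint.mp (e ▸ hd))
    have t₂ : V₂ ≠ ⊤ := fun e => n₁ (disjoint_top.mp (e ▸ hd))
    obtain ⟨d₁, d₂, hle, b₁, b₂⟩ := split_bound hQ f hf hd hs i₁ i₂ (hproper V₁ t₁) (hproper V₂ t₂)
    rw [card_split hd hs]
    exact le_trans (Nat.mul_le_mul_left 2 hle) (mul_bound (hodd V₁ n₁).1 (hodd V₂ n₂).1 (hodd V₁ n₁).2
      (hodd V₂ n₂).2 b₁.2 b₂.2)
  -- a central involution inverts `V`
  have hcen : ∀ w ∈ center Q, w ^ 2 = 1 → w = 1 ∨ ∀ v, f w v = v⁻¹ := by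
    intro w hw hw2
    obtain ⟨Vp, Vm, hp, hm, hd, hs⟩ := exists_eigen hV (f w) (by rw [← map_mul, ← pow_two, hw2, map_one])
    have hcomm : ∀ g v, f w (f g v) = f g (f w v) := fun g v => by
      rw [← MulAut.mul_apply, ← map_mul, ← mem_center_iff.mp hw g, map_mul, MulAut.mul_apply]
    have ip : ∀ g, ∀ v ∈ Vp, f g v ∈ Vp := fun g v hv => (hp _).mpr (by rw [hcomm, (hp v).mp hv])
    have im : ∀ g, ∀ v ∈ Vm, f g v ∈ Vm := fun g v hv => (hm _).mpr (by rw [hcomm, (hm v).mp hv, map_inv])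
    by_cases hpb : Vp = ⊥
    · refine Or.inr fun v => (hm v).mp ?_
      rw [hpb, bot_sup_eq] at hs; rw [hs]; trivial
    by_cases hmb : Vm = ⊥
    · refine Or.inl (hf (MulEquiv.ext fun v => ?_))
      rw [hmb, sup_bot_eq] at hs
      rw [map_one, MulAut.one_apply]
      exact (hp v).mp (by rw [hs]; trivial)
    exact absurd ⟨Vp, Vm, hd, hs, hpb, hmb, ip, im⟩ hdec
  by_cases hQ1 : Subsingleton Q
  · have : fidx Q ≤ 1 := fidx_le_card.trans (le_of_eq (Nat.card_unique (α := Q)))
    omega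
  haveI : Nontrivial Q := not_subsingleton_iff_nontrivial.mp hQ1
  obtain ⟨z, hzt, hzc, hzo⟩ := PGroups.exists_mem_center_orderOf_eq hQ (⊤ : Subgroup Q) top_ne_bot
  have hz2 : z ^ 2 = 1 := hzo ▸ pow_orderOf_eq_one z
  have hz1 : z ≠ 1 := fun e => by rw [e, orderOf_one] at hzo; omega
  have hzinv : ∀ v, f z v = v⁻¹ := (hcen z hzc hz2).resolve_left hz1
  have hzu : ∀ w ∈ center Q, w ^ 2 = 1 → w = 1 ∨ w = z := fun w hw hw2 =>
    (hcen w hw hw2).imp_right fun h => hf (MulEquiv.ext fun v => by rw [h, hzinv])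
  have hV5 : 5 ≤ Nat.card V := by obtain ⟨k, hk⟩ := hV; omega
  by_cases hcyc : IsCyclic Q
  · have := fidx_le_two_of_cyclic hQ hcyc
    omega
  by_cases hab : ∀ A : Subgroup Q, A.Normal → IsMulCommutative A → IsCyclic A
  · obtain ⟨k, c, y, hc, hcard, hy, -⟩ := PGroups.structure_of_normal_abelian_cyclic hQ hcyc hab
    have hidx : (zpowers c).index = 2 := by
      have h := (zpowers c).card_mul_index
      rw [Nat.card_zpowers, hc, hcard, pow_succ] at h
      exact Nat.eq_of_mul_eq_mul_left (by positivity) h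
    have h4 : fidx Q ≤ 4 := (fidx_le_index_mul hQ (zpowers c)).trans (by
      have := fidx_le_two_of_cyclic (hQ.to_subgroup (zpowers c)) inferInstance
      rw [hidx]; omega)
    rcases (show Nat.card V = 5 ∨ Nat.card V = 7 ∨ 9 ≤ Nat.card V by
      obtain ⟨k, hk⟩ := hV; omega) with h5 | h7 | h9
    · haveI := Fact.mk Nat.prime_five
      haveI : IsCyclic V := isCyclic_of_prime_card h5
      haveI : IsCyclic (ZMod (Nat.card V))ˣ := by rw [h5]; infer_instance
      haveI : IsCyclic (MulAut V) :=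
        isCyclic_of_injective (IsCyclic.mulAutMulEquiv V).toMonoidHom (IsCyclic.mulAutMulEquiv V).injective
      exact absurd (isCyclic_of_injective f hf) hcyc
    · haveI := Fact.mk (by norm_num : Nat.Prime 7)
      haveI : IsCyclic V := isCyclic_of_prime_card h7
      haveI : IsCyclic (ZMod (Nat.card V))ˣ := by rw [h7]; infer_instance
      haveI : IsCyclic (MulAut V) :=
        isCyclic_of_injective (IsCyclic.mulAutMulEquiv V).toMonoidHom (IsCyclic.mulAutMulEquiv V).injective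
      exact absurd (isCyclic_of_injective f hf) hcyc
    · omega
  -- a normal four-group `⟨z, e⟩`
  push Not at hab
  obtain ⟨A, hAn, hA, hAc⟩ := hab
  obtain ⟨e, he2, he1, hez, hegs⟩ := exists_four hQ hzu hA hAc
  have hnc : e ∉ center Q := fun h => (hzu e h he2).elim he1 hez
  set M := centralizer ({e} : Set Q) with hM
  have hMidx : M.index = 2 := by
    obtain ⟨g₀, hg₀⟩ : ∃ g, g * e * g⁻¹ ≠ e := by
      by_contra hall
      push Not at hall
      exact hnc (mem_center_iff.mpr fun g => mul_inv_eq_iff_eq_mul.mp (hall g))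
    rw [index_eq_two_iff]
    refine ⟨g₀, fun b => ?_⟩
    have key : ∀ x, x ∈ M ↔ x * e * x⁻¹ = e := fun x => by
      rw [hM, mem_centralizer_singleton_iff, mul_inv_eq_iff_eq_mul, eq_comm]
    have hconj : b * g₀ * e * (b * g₀)⁻¹ = b * e * b⁻¹ * z := by
      calc b * g₀ * e * (b * g₀)⁻¹ = b * (g₀ * e * g₀⁻¹) * b⁻¹ := by group
        _ = b * (e * z) * b⁻¹ := by rw [(hegs g₀).resolve_left hg₀]
        _ = b * e * (b⁻¹ * z) := by
          rw [mul_assoc, mul_assoc e, ← mem_center_iff.mp hzc b⁻¹]; group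
        _ = _ := by group
    rcases hegs b with h | h
    · refine Or.inr ⟨(key b).mpr h, fun hh => hz1 ?_⟩
      rw [key, hconj, h] at hh
      exact mul_eq_left.mp hh
    · refine Or.inl ⟨(key _).mpr ?_, fun hh => hz1 (mul_eq_left.mp (h.symm.trans ((key b).mp hh)))⟩
      rw [hconj, h, mul_assoc, ← pow_two, hz2, mul_one]
  obtain ⟨Vp, Vm, hp, hm, hd, hs⟩ := exists_eigen hV (f e) (by rw [← map_mul, ← pow_two, he2, map_one])
  have hcomm : ∀ g : M, ∀ v, f e (f g v) = f g (f e v) := fun g v => by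
    rw [← MulAut.mul_apply, ← map_mul, ← mem_centralizer_singleton_iff.mp g.2, map_mul, MulAut.mul_apply]
  have ip : ∀ g : M, ∀ v ∈ Vp, f g v ∈ Vp := fun g v hv => (hp _).mpr (by rw [hcomm, (hp v).mp hv])
  have im : ∀ g : M, ∀ v ∈ Vm, f g v ∈ Vm := fun g v hv => (hm _).mpr (by rw [hcomm, (hm v).mp hv, map_inv])
  have hpb : Vp ≠ ⊥ := fun h => hez (hf (MulEquiv.ext fun v => by
    rw [h, bot_sup_eq] at hs
    rw [hzinv]; exact (hm v).mp (by rw [hs]; trivial)))
  have hmb : Vm ≠ ⊥ := fun h => he1 (hf (MulEquiv.ext fun v => by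
    rw [h, sup_bot_eq] at hs
    rw [map_one, MulAut.one_apply]; exact (hp v).mp (by rw [hs]; trivial)))
  -- the two eigenspaces are interchanged
  obtain ⟨g₀, hg₀⟩ : ∃ g, g * e * g⁻¹ = e * z := by
    by_contra hall
    push Not at hall
    exact hnc (mem_center_iff.mpr fun g => mul_inv_eq_iff_eq_mul.mp ((hegs g).resolve_right (hall g)))
  have hswap : ∀ v, f e (f g₀ v) = f g₀ ((f e v)⁻¹) := by
    intro v
    have : e * g₀ = g₀ * (e * z) := by
      have h1 : g₀ * (e * z) * g₀⁻¹ = e := by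
        calc g₀ * (e * z) * g₀⁻¹ = g₀ * e * g₀⁻¹ * z := by
              rw [mul_assoc g₀, mul_assoc e, ← mem_center_iff.mp hzc g₀⁻¹]; group
          _ = e * z ^ 2 := by rw [hg₀, pow_two, mul_assoc]
          _ = e := by rw [hz2, mul_one]
      conv_lhs => rw [← h1]
      group
    rw [← MulAut.mul_apply, ← map_mul, this, map_mul, map_mul, MulAut.mul_apply, MulAut.mul_apply, hzinv, map_inv]
  have hcardeq : Nat.card Vp = Nat.card Vm := by
    refine le_antisymm (Nat.card_le_card_of_injective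
      (fun v : Vp => (⟨f g₀ v, (hm _).mpr (by rw [hswap, (hp _).mp v.2, map_inv])⟩ : Vm))
      fun v w h => Subtype.ext ((f g₀).injective (congrArg Subtype.val h))) ?_
    exact Nat.card_le_card_of_injective
      (fun v : Vm => (⟨f g₀ v, (hp _).mpr (by rw [hswap, (hm _).mp v.2, inv_inv])⟩ : Vp))
      fun v w h => Subtype.ext ((f g₀).injective (congrArg Subtype.val h))
  have tp : Vp ≠ ⊤ := fun h => hmb (top_disjoint.mp (h ▸ hd))
  have tm : Vm ≠ ⊤ := fun h => hpb (disjoint_top.mp (h ▸ hd))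
  have hQM := fidx_le_index_mul hQ M
  rw [hMidx] at hQM
  have hVcard : Nat.card V = Nat.card Vp * Nat.card Vp := by rw [card_split hd hs, ← hcardeq]
  obtain ⟨d₁, d₂, hle, b₁, b₂⟩ := split_bound (hQ.to_subgroup M) (f.comp M.subtype)
    (hf.comp M.subtype_injective) hd hs ip im (hproper Vp tp) (hproper Vm tm)
  rw [← hcardeq] at b₂
  rcases (show Nat.card Vp = 3 ∨ 3 < Nat.card Vp by have := hodd Vp hpb; omega) with h3 | h3
  · rw [hVcard, h3]
    by_contra hbig
    -- then `Q` is elementary abelian, so `e` is central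
    have hM4 : Nat.card M ≤ 4 := by
      obtain ⟨f₁, hf₁⟩ := exists_restrict (f.comp M.subtype) Vp ip
      obtain ⟨f₂, hf₂⟩ := exists_restrict (f.comp M.subtype) Vm im
      have hinj : Function.Injective (f₁.prod f₂) := by
        intro a b h
        apply Subtype.ext
        apply hf
        refine MulEquiv.ext fun v => ?_
        obtain ⟨x, hx, y, hy, rfl⟩ := mem_sup.mp (show v ∈ Vp ⊔ Vm by rw [hs]; trivial)
        have e1 := congrArg Subtype.val (DFunLike.congr_fun (congrArg Prod.fst h) ⟨x, hx⟩)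
        have e2 := congrArg Subtype.val (DFunLike.congr_fun (congrArg Prod.snd h) ⟨y, hy⟩)
        simp only [MonoidHom.prod_apply, hf₁, hf₂, MonoidHom.comp_apply, coe_subtype] at e1 e2
        rw [map_mul, map_mul, e1, e2]
      haveI := Fact.mk Nat.prime_three
      haveI : IsCyclic Vp := isCyclic_of_prime_card h3
      haveI : IsCyclic Vm := isCyclic_of_prime_card (hcardeq ▸ h3)
      refine (Nat.card_le_card_of_injective _ hinj).trans ?_
      rw [Nat.card_prod, IsCyclic.card_mulAut, IsCyclic.card_mulAut, ← hcardeq, h3]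
      decide
    obtain ⟨n, hn⟩ := IsPGroup.iff_card.mp hQ
    obtain ⟨j, -, hj⟩ := (Nat.dvd_prime_pow Nat.prime_two).mp (hn ▸ Subgroup.index_dvd_card (frattini Q))
    have hcard8 : Nat.card Q ≤ 8 := by rw [← M.card_mul_index, hMidx]; omega
    have hD : Nat.card Q ≤ fidx Q := by
      have hf8 : 5 ≤ fidx Q := by omega
      have hj3 : 3 ≤ j := by
        by_contra h
        have : 2 ^ j ≤ 2 ^ 2 := Nat.pow_le_pow_right two_pos (by omega)
        unfold fidx at hf8; omega
      have : 2 ^ 3 ≤ 2 ^ j := Nat.pow_le_pow_right two_pos hj3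
      unfold fidx; omega
    have hbot : frattini Q = ⊥ := by
      have h := (frattini Q).card_mul_index
      apply Subgroup.eq_bot_of_card_le
      have hpos : 0 < (frattini Q).index := Nat.pos_of_ne_zero Subgroup.index_ne_zero_of_finite
      unfold fidx at hD
      nlinarith
    refine hnc (mem_center_iff.mpr fun g => ?_)
    have hc : _root_.commutator Q ≤ ⊥ := hbot ▸ PGroups.commutator_le_frattini hQ
    have h0 : g * e * g⁻¹ * e⁻¹ = 1 := mem_bot.mp (hc (by
      rw [_root_.commutator_def]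
      exact commutator_mem_commutator (mem_top g) (mem_top e)))
    exact mul_inv_eq_iff_eq_mul.mp (mul_inv_eq_one.mp h0)
  · have h4 := Nat.mul_le_mul (b₁.2.2 h3) (b₂.2.2 h3)
    rw [hVcard]
    have e4 : 2 * d₁ * (2 * d₂) = 4 * (d₁ * d₂) := by ring
    have e5 : (Nat.card Vp - 1) * (Nat.card Vp - 1) + Nat.card Vp + Nat.card Vp
        = Nat.card Vp * Nat.card Vp + 1 := by
      obtain ⟨r, hr⟩ : ∃ r, Nat.card Vp = r + 1 := ⟨Nat.card Vp - 1, by omega⟩
      rw [hr]; simp only [Nat.add_sub_cancel]; ring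
    omega

end Cfsg.Agent.H77
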